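import Cfsg.Agent.Lib.HSUniq.Model
import Cfsg.Agent.Lib.HSUniq.DataMCases

/-!
Checks on codes used in finding generators of the 2-local subgroup.
-/

set_option autoImplicit false
set_option Elab.async false
set_option maxRecDepth 100000

namespace CfsgLib.HSUniq

open CfsgLib.CosetEnum

/-- the code of the square of an element -/
def par (v : ℕ) : ℕ := v % 2 + 2 * (v / 4 % 2) + 4 * (v / 16 % 2)

/-- the code in the abelian group of an element of its socle -/
def emb (b : ℕ) : ℕ := 2 * (b % 2) + 8 * (b / 2 % 2) + 32 * (b / 4 % 2)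

/-- addition in the socle -/
def bxor (a b : ℕ) : ℕ := (a + b) % 2 + 2 * ((a / 2 + b / 2) % 2) + 4 * ((a / 4 + b / 4) % 2)

/-- the image of a socle element under a triple of images -/
def timg (T : ℕ × ℕ × ℕ) (b : ℕ) : ℕ :=
  bxor (bxor (if b % 2 = 1 then T.1 else 0) (if b / 2 % 2 = 1 then T.2.1 else 0)) (if b / 4 % 2 = 1 then T.2.2 else 0)

/-- the triples with trivial kernel -/
def indep (T : ℕ × ℕ × ℕ) : Bool := (List.range 8).all fun b => Nat.beq b 0 || !(Nat.beq (timg T b) 0)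

theorem bxor_facts : ∀ a < 8, ∀ b < 8, bxor a b < 8 ∧ emb (bxor a b) = vadd (emb a) (emb b) := by decide +kernel

theorem indep_count : ((List.range 8).flatMap fun a => (List.range 8).flatMap fun b => (List.range 8).filterMap fun e =>
    if indep (a, b, e) then some (a, b, e) else none).length = 168 := by decide +kernel

theorem timg_lt : ∀ a < 8, ∀ b < 8, ∀ e < 8, ∀ k < 8, timg (a, b, e) k < 8 := by decide +kernel

theorem triples_facts :
    (∀ b < 8, timg (2, 4, 3) (timg (2, 4, 3) (timg (2, 4, 3) (timg (2, 4, 3) (timg (2, 4, 3)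
      (timg (2, 4, 3) (timg (2, 4, 3) b)))))) = b) ∧
    (∀ b < 8, timg (1, 4, 6) (timg (1, 4, 6) (timg (1, 4, 6) b)) = b) ∧
    (∀ b < 8, timg (1, 4, 6) (timg (2, 4, 3) b) = timg (2, 4, 3) (timg (2, 4, 3) (timg (1, 4, 6) b))) ∧
    (∀ b < 8, timg (1, 4, 2) (timg (1, 4, 6) b) = timg (1, 4, 6) (timg (1, 4, 6) (timg (1, 4, 2) b))) ∧
    (∀ b < 8, timg (1, 4, 2) (timg (1, 4, 2) b) = b) ∧
    (∀ b < 8, timg (1, 4, 2) b = b ∨ timg (1, 4, 2) b = bxor b 6) ∧
    (∀ b < 8, timg (1, 4, 2) (timg (2, 4, 3) (timg (1, 4, 2) (timg (2, 4, 3)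
      (timg (1, 4, 2) (timg (2, 4, 3) b))))) = b) ∧
    (∀ b < 8, timg (2, 4, 3) b = b → b = 0) ∧
    indep (2, 4, 3) = true ∧ indep (1, 4, 6) = true ∧ indep (1, 4, 2) = true ∧ indep (6, 1, 2) = true := by
  decide +kernel

/-- linear map of the element of order seven -/
def linS (β v : ℕ) : ℕ := vlin 4 16 β v

/-- linear map of the element of order three -/
def linR (β v : ℕ) : ℕ := vlin 1 16 (linS β (linS β (linS β (linS β 1)))) v

theorem cube_unique : ∀ β < 64, par β = 3 →
    (∀ v ∈ ([1, 4, 16] : List ℕ), linS β (linS β (linS β (linS β (linS β (linS β (linS β v)))))) = v) →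
    (∀ v ∈ ([1, 4, 16] : List ℕ), linR β (linS β v) = linS β (linS β (linR β v))) →
    β = 45 := by decide +kernel

/-- the two linear maps -/
def linR' (v : ℕ) : ℕ := linR 45 v

/-- the linear map of the involution -/
def linW (v : ℕ) : ℕ := vlin 3 16 4 v

theorem linR_facts : ∀ v < 64, linR' (linR' (linR' v)) = v := by decide +kernel

theorem norm_solve : ∀ β < 64, vadd β (vadd (linR' (linR' β)) (linR' β)) = 0 →
    ∃ α ∈ List.range 64, vadd α (vneg (linR' (linR' α))) = vneg β := by decide +kernel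

/-- the candidate map of the involution -/
def linC (p q v : ℕ) : ℕ := vlin p q (linR' (linR' q)) v

theorem w_unique : ((List.range 64).all fun p => !(Nat.beq (linR' p) p && Nat.beq (par p) 1) ||
    (List.range 64).all fun q => !(Nat.beq (par q) 4 &&
      ([1, 4, 16] : List ℕ).all (fun v => Nat.beq (linC p q (linC p q v)) v) &&
      ([1, 4, 16] : List ℕ).all (fun v =>
        Nat.beq (linC p q (linS 45 (linC p q (linS 45 (linC p q (linS 45 v)))))) v)) ||
      (Nat.beq p 3 && Nat.beq q 16)) = true := by decide +kernel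

theorem linW_eq : vlin 3 16 (linR' (linR' 16)) = linW := by
  funext v
  show vlin 3 16 _ v = vlin 3 16 4 v
  rw [show linR' (linR' 16) = 4 by decide +kernel]

theorem k_zero : ((List.range 64).all fun α => (List.range 64).all fun k =>
    !(Nat.beq (linR' k) k && Nat.beq (linW k) k &&
      (Nat.beq (vadd (vadd α (linW α)) k) 0 || Nat.beq (vadd (vadd α (linW α)) k) 40)) ||
    (Nat.beq k 0 && (List.range 4).any fun j =>
      Nat.beq (par (vadd j (vneg α))) 0 || Nat.beq (par (vadd j (vneg α))) 6)) = true := by decide +kernel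

/-- the action of the product of the involution with a power of the element of order seven -/
def linWS (n v : ℕ) : ℕ := linW (Nat.iterate (linS 45) n v)

theorem z_facts :
    (∀ v < 64, linWS 1 v = v → v = 0 ∨ v = 4 ∨ v = 8 ∨ v = 12) ∧
    (∀ v < 64, linWS 3 v = v → v = 0 ∨ v = 13 ∨ v = 10 ∨ v = 7) ∧
    vadd (vadd 3 (linWS 1 3)) (linWS 1 (linWS 1 3)) = 8 ∧ vadd 8 8 = 0 ∧
    vadd (vadd 3 (linWS 3 3)) (vadd (linWS 3 (linWS 3 3)) (linWS 3 (linWS 3 (linWS 3 3)))) = 10 ∧
    vadd 10 10 = 0 ∧ (∀ v < 64, letterV 0 v = linS 45 v ∧ letterV 2 v = linW v) := by decide +kernel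

theorem cover : ((List.range 8).all fun a => (List.range 8).all fun b => (List.range 8).all fun e =>
    !indep (a, b, e) || (List.range 168).any fun g =>
      Nat.beq (par (act g 1)) a && Nat.beq (par (act g 4)) b && Nat.beq (par (act g 16)) e) = true := by decide +kernel

theorem f_fix :
    linS 45 (linW (linS 45 (linS 45 40))) = 40 ∧ par (act gR 1) = 1 ∧ par (act gR 4) = 4 ∧ par (act gR 16) = 6 ∧
    par 45 = 3 ∧ emb 6 = 40 ∧ emb 1 = 2 ∧ emb 2 = 8 ∧ emb 4 = 32 := by decide +kernel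

theorem mcases : certM0.K = 7 ∧ certM1.K = 7 ∧ certM2.K = 7 ∧ certM3.K = 7 ∧ certM4.K = 7 ∧ certM5.K = 7 ∧
    certM6.K = 7 ∧ certM7.K = 7 ∧ certM8.K = 7 ∧ certM9.K = 7 ∧ certM10.K = 7 ∧ certM11.K = 7 ∧
    certM12.K = 7 ∧ certM13.K = 7 ∧ certM14.K = 7 ∧ certM15.K = 7 := by decide +kernel

end CfsgLib.HSUniq
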