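import Cfsg.Agent.Lib.HSUniq.Setup
import Cfsg.Agent.Lib.HSUniq.LocalChecks

/-!
Coordinates on the socle of the 2-local subgroup and its action there.
-/

set_option autoImplicit false
set_option maxRecDepth 100000

namespace CfsgLib.HSUniq

theorem bxor_eq_zero : ∀ a < 8, ∀ b < 8, bxor a b = 0 → a = b := by decide +kernel

theorem bits_eq : ∀ k < 8, k = bxor (bxor (if k % 2 = 1 then 1 else 0) (if k / 2 % 2 = 1 then 2 else 0))
    (if k / 4 % 2 = 1 then 4 else 0) := by decide +kernel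

theorem bxor_bits (a b : ℕ) : bxor a b % 2 = (a % 2 + b % 2) % 2 ∧ bxor a b / 2 % 2 = (a / 2 % 2 + b / 2 % 2) % 2 ∧
    bxor a b / 4 % 2 = (a / 4 % 2 + b / 4 % 2) % 2 := by
  have key : ∀ i j k : ℕ, i < 2 → j < 2 → k < 2 →
      (i + 2 * j + 4 * k) % 2 = i ∧ (i + 2 * j + 4 * k) / 2 % 2 = j ∧ (i + 2 * j + 4 * k) / 4 % 2 = k := by
    intro i j k _ _ _; omega
  obtain ⟨h0, h1, h2⟩ := key ((a + b) % 2) ((a / 2 + b / 2) % 2) ((a / 4 + b / 4) % 2) (Nat.mod_lt _ (by norm_num))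
    (Nat.mod_lt _ (by norm_num)) (Nat.mod_lt _ (by norm_num))
  exact ⟨h0.trans (Nat.add_mod a b 2), h1.trans (Nat.add_mod _ _ 2), h2.trans (Nat.add_mod _ _ 2)⟩

variable {G : Type*} [Group G] [Finite G] {t : G} {H R V M A : Subgroup G}

theorem Setup.t_sq (S : Setup t H R V M A) : t * t = 1 := by
  rw [← pow_two, ← S.two, pow_orderOf_eq_one]

theorem Setup.t_ne (S : Setup t H R V M A) : t ≠ 1 := fun e => by
  have := S.two; rw [e, orderOf_one] at this; norm_num at this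

theorem Setup.conjR (S : Setup t H R V M A) {h : G} (hh : h * t * h⁻¹ = t) {x : G} (hx : x ∈ R) :
    h * x * h⁻¹ ∈ R :=
  S.R_normal h ((S.hH h).2 (by conv_rhs => rw [← hh]; rw [inv_mul_cancel_right])) x hx

theorem Setup.V_comm (S : Setup t H R V M A) {a b : G} (ha : a ∈ V) (hb : b ∈ V) : a * b = b * a :=
  S.A_comm a ((S.V_iff a).1 ha).1 b ((S.V_iff b).1 hb).1

/-- Coordinates on the socle. -/
structure Coord (t : G) (V : Subgroup G) (f : ℕ → G) : Prop where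
  zero : f 0 = 1
  one : f 1 = t
  mem : ∀ b < 8, f b ∈ V
  mul : ∀ a < 8, ∀ b < 8, f (bxor a b) = f a * f b
  inj : ∀ a < 8, ∀ b < 8, f a = f b → a = b
  surj : ∀ v ∈ V, ∃ b < 8, f b = v

theorem exists_coord (S : Setup t H R V M A) : ∃ f, Coord t V f := by
  classical
  obtain ⟨-, hsq⟩ := (S.V_iff t).1 S.tV
  have hlt : ∀ K : Finset G, K.card < 8 → ∃ v ∈ V, v ∉ K := by
    intro K hK
    by_contra h
    push Not at h
    have h1 : Nat.card V ≤ Nat.card (K : Set G) :=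
      Nat.card_le_card_of_injective (fun v : V => (⟨v.1, h v.1 v.2⟩ : (K : Set G)))
        fun a b e => Subtype.ext (congrArg (fun x : (K : Set G) => (x : G)) e)
    rw [S.cardV, Nat.card_coe_set_eq, Set.ncard_coe_finset] at h1
    omega
  obtain ⟨v1, hv1, hv1'⟩ := hlt {1, t} (lt_of_le_of_lt Finset.card_le_two (by norm_num))
  obtain ⟨v2, hv2, hv2'⟩ := hlt {1, t, v1, t * v1} (lt_of_le_of_lt Finset.card_le_four (by norm_num))
  simp only [Finset.mem_insert, Finset.mem_singleton, not_or] at hv1' hv2'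
  obtain ⟨n11, n12⟩ := hv1'
  obtain ⟨n21, n22, n23, n24⟩ := hv2'
  let f : ℕ → G := fun b => t ^ (b % 2) * v1 ^ (b / 2 % 2) * v2 ^ (b / 4 % 2)
  have hfm : ∀ b, f b ∈ V := fun b => V.mul_mem (V.mul_mem (V.pow_mem S.tV _) (V.pow_mem hv1 _)) (V.pow_mem hv2 _)
  have sq : ∀ v ∈ V, v * v = 1 := fun v hv => ((S.V_iff v).1 hv).2
  have pw : ∀ v ∈ V, ∀ i j : ℕ, v ^ i * v ^ j = v ^ ((i + j) % 2) := fun v hv i j => by
    rw [← pow_add]
    conv_lhs => rw [← Nat.mod_add_div (i + j) 2, pow_add, pow_mul, pow_two, sq v hv, one_pow, mul_one]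
  have hmul : ∀ a b, f (bxor a b) = f a * f b := by
    intro a b
    obtain ⟨e0, e1, e2⟩ := bxor_bits a b
    simp only [f]
    rw [e0, e1, e2, ← pw t S.tV, ← pw v1 hv1, ← pw v2 hv2]
    have c1 := S.V_comm (V.pow_mem hv1 (a / 2 % 2)) (V.pow_mem S.tV (b % 2))
    have c2 := S.V_comm (V.pow_mem hv2 (a / 4 % 2)) (V.mul_mem (V.pow_mem S.tV (b % 2)) (V.pow_mem hv1 (b / 2 % 2)))
    calc t ^ (a % 2) * t ^ (b % 2) * (v1 ^ (a / 2 % 2) * v1 ^ (b / 2 % 2)) * (v2 ^ (a / 4 % 2) * v2 ^ (b / 4 % 2))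
        = t ^ (a % 2) * (t ^ (b % 2) * v1 ^ (a / 2 % 2)) * v1 ^ (b / 2 % 2) * v2 ^ (a / 4 % 2) * v2 ^ (b / 4 % 2) := by
          simp only [mul_assoc]
      _ = t ^ (a % 2) * v1 ^ (a / 2 % 2) * (t ^ (b % 2) * v1 ^ (b / 2 % 2) * v2 ^ (a / 4 % 2)) * v2 ^ (b / 4 % 2) := by
          rw [← c1]; simp only [mul_assoc]
      _ = _ := by rw [← c2]; simp only [mul_assoc]
  have hker : ∀ b < 8, f b = 1 → b = 0 := by
    have sq1 := sq v1 hv1
    have sq2 := sq v2 hv2
    intro b hb h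
    interval_cases b <;> simp [f] at h
    · rfl
    · exact absurd h S.t_ne
    · exact absurd h n11
    · exact absurd (mul_eq_one_iff_inv_eq.1 h).symm (fun e => n12 (by rw [e, inv_eq_of_mul_eq_one_left hsq]))
    · exact absurd h n21
    · exact absurd (mul_eq_one_iff_inv_eq.1 h).symm (fun e => n22 (by rw [e, inv_eq_of_mul_eq_one_left hsq]))
    · exact absurd (mul_eq_one_iff_inv_eq.1 h).symm (fun e => n23 (by rw [e, inv_eq_of_mul_eq_one_left sq1]))
    · refine absurd (mul_eq_one_iff_inv_eq.1 h).symm (fun e => n24 ?_)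
      rw [e, inv_eq_of_mul_eq_one_left (sq _ (V.mul_mem S.tV hv1))]
  have hinj : ∀ a < 8, ∀ b < 8, f a = f b → a = b := by
    intro a ha b hb h
    have h1 : f (bxor a b) = 1 := by rw [hmul, h, sq _ (hfm b)]
    exact bxor_eq_zero a ha b hb (hker _ (bxor_facts a ha b hb).1 h1)
  refine ⟨f, by simp [f], by simp [f], fun b _ => hfm b, fun a _ b _ => hmul a b, hinj, fun v hv => ?_⟩
  let g : Fin 8 → V := fun b => ⟨f b, hfm b⟩
  have hg : Function.Bijective g := (Nat.bijective_iff_injective_and_card g).2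
    ⟨fun a b h => Fin.ext (hinj a a.2 b b.2 (congrArg Subtype.val h)), by rw [Nat.card_fin, S.cardV]⟩
  obtain ⟨b, hb⟩ := hg.2 ⟨v, hv⟩
  exact ⟨b, b.2, congrArg Subtype.val hb⟩

/-- `m` acts on the socle by the triple `T`. -/
def Acts8 (f : ℕ → G) (m : G) (T : ℕ × ℕ × ℕ) : Prop :=
  ∀ b < 8, m * f b * m⁻¹ = f (timg T b)

theorem acts_of_images {f : ℕ → G} (F : Coord t V f) {m : G} {a b e : ℕ} (ha : a < 8) (hb : b < 8) (he : e < 8)
    (h1 : m * f 1 * m⁻¹ = f a) (h2 : m * f 2 * m⁻¹ = f b) (h3 : m * f 4 * m⁻¹ = f e) : Acts8 f m (a, b, e) := by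
  intro k hk
  have hz : m * f 0 * m⁻¹ = f 0 := by rw [F.zero, mul_one, mul_inv_cancel]
  set φ : G →* G := (MulAut.conj m).toMonoidHom
  have hφ : ∀ x, φ x = m * x * m⁻¹ := fun x => rfl
  have hk' := bits_eq k hk
  rw [← hφ]
  conv_lhs => rw [hk']
  unfold timg
  have l1 : ∀ (c : Prop) [Decidable c], (if c then 1 else 0) < 8 ∧ (if c then 2 else 0) < 8 ∧ (if c then 4 else 0) < 8 ∧
      (if c then a else 0) < 8 ∧ (if c then b else 0) < 8 ∧ (if c then e else 0) < 8 := fun c _ => by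
    split <;> simp [ha, hb, he]
  rw [F.mul _ (bxor_facts _ (l1 _).1 _ (l1 _).2.1).1 _ (l1 _).2.2.1, F.mul _ (l1 _).1 _ (l1 _).2.1,
    F.mul _ (bxor_facts _ (l1 _).2.2.2.1 _ (l1 _).2.2.2.2.1).1 _ (l1 _).2.2.2.2.2,
    F.mul _ (l1 _).2.2.2.1 _ (l1 _).2.2.2.2.1, map_mul, map_mul]
  congr 1
  · congr 1 <;> split <;> first | exact hφ _ ▸ h1 | exact hφ _ ▸ h2 | exact hz
  · split
    · exact h3
    · exact hz

theorem acts_mul {f : ℕ → G} {m n : G} {T U W : ℕ × ℕ × ℕ} (hm : Acts8 f m T) (hn : Acts8 f n U)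
    (hlt : ∀ b < 8, timg U b < 8) (hW : ∀ b < 8, timg W b = timg T (timg U b)) : Acts8 f (m * n) W := by
  intro b hb
  rw [hW b hb, ← hm _ (hlt b hb), ← hn b hb]; group

theorem Setup.triple (S : Setup t H R V M A) {f : ℕ → G} (F : Coord t V f) {m : G} (hm : m ∈ M) :
    ∃ a < 8, ∃ b < 8, ∃ e < 8, indep (a, b, e) = true ∧ Acts8 f m (a, b, e) := by
  have hV : ∀ v ∈ V, m * v * m⁻¹ ∈ V := fun v hv => ((S.hM m).1 hm v).1 hv
  obtain ⟨a, ha, ea⟩ := F.surj _ (hV _ (F.mem 1 (by norm_num)))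
  obtain ⟨b, hb, eb⟩ := F.surj _ (hV _ (F.mem 2 (by norm_num)))
  obtain ⟨e, he, ee⟩ := F.surj _ (hV _ (F.mem 4 (by norm_num)))
  have hact := acts_of_images F ha hb he ea.symm eb.symm ee.symm
  refine ⟨a, ha, b, hb, e, he, ?_, hact⟩
  unfold indep
  simp only [List.all_eq_true, List.mem_range, Bool.or_eq_true, Nat.beq_eq, Bool.not_eq_true']
  intro k hk
  rcases Nat.eq_zero_or_pos k with h | h
  · exact Or.inl h
  · refine Or.inr (Bool.eq_false_iff.2 fun h0 => ?_)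
    have h' := hact k hk
    rw [Nat.eq_of_beq_eq_true h0, F.zero, conj_eq_one_iff, ← F.zero] at h'
    have := F.inj k hk 0 (by norm_num) h'
    omega

theorem Setup.same_act (S : Setup t H R V M A) {f : ℕ → G} (F : Coord t V f) {m n : G} (hm : m ∈ M) (hn : n ∈ M)
    (h : ∀ b < 8, m * f b * m⁻¹ = n * f b * n⁻¹) : n⁻¹ * m ∈ A := by
  refine S.kerV _ (M.mul_mem (M.inv_mem hn) hm) fun v hv => ?_
  obtain ⟨b, hb, rfl⟩ := F.surj v hv
  calc n⁻¹ * m * f b = n⁻¹ * (m * f b * m⁻¹) * m := by group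
    _ = n⁻¹ * (n * f b * n⁻¹) * m := by rw [h b hb]
    _ = f b * (n⁻¹ * m) := by group

theorem Setup.exists_act (S : Setup t H R V M A) {f : ℕ → G} (F : Coord t V f) {a b e : ℕ} (ha : a < 8) (hb : b < 8)
    (he : e < 8) (hT : indep (a, b, e) = true) : ∃ m ∈ M, Acts8 f m (a, b, e) := by
  classical
  set L := ((List.range 8).flatMap fun a => (List.range 8).flatMap fun b => (List.range 8).filterMap fun e =>
    if indep (a, b, e) then some (a, b, e) else none) with hL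
  have hmem : ∀ a b e, a < 8 → b < 8 → e < 8 → indep (a, b, e) = true → (a, b, e) ∈ L := fun a b e h1 h2 h3 h => by
    simp only [hL, List.mem_flatMap, List.mem_range, List.mem_filterMap]
    exact ⟨a, h1, b, h2, e, h3, by rw [if_pos h]⟩
  choose A' hA' B' hB' E' hE' hI hAct using fun m : M => S.triple F m.2
  let φ : M → (L.toFinset : Set (ℕ × ℕ × ℕ)) := fun m =>
    ⟨(A' m, B' m, E' m), List.mem_toFinset.2 (hmem _ _ _ (hA' m) (hB' m) (hE' m) (hI m))⟩
  have hfac : ∀ m n : M, φ m = φ n → (n : G)⁻¹ * m ∈ A := fun m n h => S.same_act F m.2 n.2 fun k hk => by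
    have h' : (A' m, B' m, E' m) = (A' n, B' n, E' n) := congrArg Subtype.val h
    rw [hAct m k hk, hAct n k hk, h']
  let ψ : M ⧸ A.subgroupOf M → (L.toFinset : Set (ℕ × ℕ × ℕ)) := fun q => φ q.out
  have hψ : Function.Injective ψ := by
    intro p q h
    have := hfac _ _ h
    rw [← QuotientGroup.out_eq' p, ← QuotientGroup.out_eq' q, eq_comm, QuotientGroup.eq]
    exact Subgroup.mem_subgroupOf.2 this
  have hcq : Nat.card (M ⧸ A.subgroupOf M) = 168 := by
    have h := Subgroup.card_eq_card_quotient_mul_card_subgroup (A.subgroupOf M)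
    rw [S.cardM, Nat.card_congr (Subgroup.subgroupOfEquivOfLe S.A_le).toEquiv, S.cardA] at h
    omega
  have hcL : Nat.card (L.toFinset : Set (ℕ × ℕ × ℕ)) ≤ 168 := by
    rw [Nat.card_coe_set_eq, Set.ncard_coe_finset]
    exact (List.toFinset_card_le L).trans indep_count.le
  have hbij : Function.Bijective ψ := (Nat.bijective_iff_injective_and_card ψ).2
    ⟨hψ, le_antisymm (Nat.card_le_card_of_injective ψ hψ) (hcq ▸ hcL)⟩
  obtain ⟨q, hq⟩ := hbij.2 ⟨(a, b, e), List.mem_toFinset.2 (hmem a b e ha hb he hT)⟩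
  have hq' : (A' q.out, B' q.out, E' q.out) = (a, b, e) := congrArg Subtype.val hq
  exact ⟨_, q.out.2, hq' ▸ hAct q.out⟩

theorem Setup.R_act (S : Setup t H R V M A) {f : ℕ → G} (F : Coord t V f) {m : G}
    (ht : m * t * m⁻¹ = t) (hm : ∀ v ∈ V, m * v * m⁻¹ = v ∨ m * v * m⁻¹ = v * t) :
    ∃ e ∈ R, ∀ v ∈ V, e * v * e⁻¹ = m * v * m⁻¹ := by
  classical
  have hVR : ∀ x ∈ R, ∀ v ∈ V, x * v * x⁻¹ ∈ V := fun x hx v hv => ((S.hM x).1 (S.RM hx) v).1 hv
  have hRt : ∀ x ∈ R, x * f 1 * x⁻¹ = f 1 := fun x hx => by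
    rw [F.one, (S.hH x).1 (S.R_le hx), mul_inv_cancel_right]
  let T : Finset (G × G) := ({f 2, f 2 * t} : Finset G) ×ˢ ({f 4, f 4 * t} : Finset G)
  have hT : Nat.card (T : Set (G × G)) ≤ 4 := by
    rw [Nat.card_coe_set_eq, Set.ncard_coe_finset, Finset.card_product]
    exact Nat.mul_le_mul Finset.card_le_two Finset.card_le_two
  have hRV : ∀ x ∈ R, ∀ v ∈ V, x * v * x⁻¹ = v ∨ x * v * x⁻¹ = v * t := by
    intro x hx v hv
    have key : ∀ a, (x * v * x⁻¹) * v⁻¹ = a → a = 1 ∨ a = t → x * v * x⁻¹ = v ∨ x * v * x⁻¹ = v * t := by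
      intro a h1 h2
      have h3 : x * v * x⁻¹ = a * v := by rw [← h1, inv_mul_cancel_right]
      rcases h2 with rfl | rfl
      · exact Or.inl (by rw [h3, one_mul])
      · exact Or.inr (by rw [h3, S.V_comm S.tV hv])
    refine key _ rfl ?_
    by_cases hvR : v ∈ R
    · rcases S.commR x hx v hvR with h | h
      · left; rw [h]; group
      · right
        rw [h]
        calc v * x * t * x⁻¹ * v⁻¹ = v * (x * t * x⁻¹) * v⁻¹ := by group
          _ = v * t * v⁻¹ := by rw [(S.hH x).1 (S.R_le hx), mul_inv_cancel_right]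
          _ = t := by rw [S.V_comm hv S.tV, mul_inv_cancel_right]
    · exact absurd (S.V_le_R hv) hvR
  let φ : R → (T : Set (G × G)) := fun x => ⟨((x : G) * f 2 * (x : G)⁻¹, (x : G) * f 4 * (x : G)⁻¹), by
    simp only [T, Finset.coe_product, Finset.coe_insert, Finset.coe_singleton, Set.mem_prod, Set.mem_insert_iff,
      Set.mem_singleton_iff]
    exact ⟨hRV x x.2 _ (F.mem 2 (by norm_num)), hRV x x.2 _ (F.mem 4 (by norm_num))⟩⟩
  have hlin : ∀ x y : G, x * f 1 * x⁻¹ = y * f 1 * y⁻¹ → x * f 2 * x⁻¹ = y * f 2 * y⁻¹ →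
      x * f 4 * x⁻¹ = y * f 4 * y⁻¹ → ∀ v ∈ V, x * v * x⁻¹ = y * v * y⁻¹ := by
    intro x y h1 h2 h4 v hv
    obtain ⟨b, hb, rfl⟩ := F.surj v hv
    have hk' := bits_eq b hb
    have l1 : ∀ (c : Prop) [Decidable c],
        (if c then 1 else 0) < 8 ∧ (if c then 2 else 0) < 8 ∧ (if c then 4 else 0) < 8 := fun c _ => by
      split <;> simp
    rw [hk', F.mul _ (bxor_facts _ (l1 _).1 _ (l1 _).2.1).1 _ (l1 _).2.2, F.mul _ (l1 _).1 _ (l1 _).2.1]
    simp only [← MulAut.conj_apply, map_mul]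
    simp only [MulAut.conj_apply]
    congr 1
    · congr 1 <;> split <;> simp [h1, h2, F.zero]
    · split <;> simp [h4, F.zero]
  let ψ : R ⧸ A.subgroupOf R → (T : Set (G × G)) := fun q => φ q.out
  have hψ : Function.Injective ψ := by
    intro p q h
    have h' := congrArg Subtype.val h
    simp only [ψ, φ, Prod.mk.injEq] at h'
    rw [← QuotientGroup.out_eq' p, ← QuotientGroup.out_eq' q, eq_comm, QuotientGroup.eq]
    refine Subgroup.mem_subgroupOf.2 (S.kerV _ (M.mul_mem (M.inv_mem (S.RM q.out.2)) (S.RM p.out.2)) fun v hv => ?_)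
    have e := hlin _ _ ((hRt _ p.out.2).trans (hRt _ q.out.2).symm) h'.1 h'.2 v hv
    calc ((q.out : G))⁻¹ * p.out * v = (q.out : G)⁻¹ * ((p.out : G) * v * (p.out : G)⁻¹) * p.out := by group
      _ = (q.out : G)⁻¹ * ((q.out : G) * v * (q.out : G)⁻¹) * p.out := by rw [e]
      _ = v * ((q.out : G)⁻¹ * p.out) := by group
  have hcard : 4 ≤ Nat.card (R ⧸ A.subgroupOf R) := by
    have h := Subgroup.card_eq_card_quotient_mul_card_subgroup (A.subgroupOf R)
    have h16 := S.abR ((A.subgroupOf R).map R.subtype) (Subgroup.map_subtype_le _) (by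
      rintro _ ⟨x, hx, rfl⟩ _ ⟨y, hy, rfl⟩
      exact S.A_comm _ (Subgroup.mem_subgroupOf.1 hx) _ (Subgroup.mem_subgroupOf.1 hy))
    rw [← Nat.card_congr ((A.subgroupOf R).equivMapOfInjective _ R.subtype_injective).toEquiv] at h16
    rw [S.cardR] at h
    nlinarith
  have hbij : Function.Bijective ψ := (Nat.bijective_iff_injective_and_card ψ).2
    ⟨hψ, le_antisymm (Nat.card_le_card_of_injective ψ hψ) (hT.trans hcard)⟩
  obtain ⟨q, hq⟩ := hbij.2 ⟨(m * f 2 * m⁻¹, m * f 4 * m⁻¹), by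
    simp only [T, Finset.coe_product, Finset.coe_insert, Finset.coe_singleton, Set.mem_prod, Set.mem_insert_iff,
      Set.mem_singleton_iff]
    exact ⟨hm _ (F.mem 2 (by norm_num)), hm _ (F.mem 4 (by norm_num))⟩⟩
  have h' := congrArg Subtype.val hq
  simp only [ψ, φ, Prod.mk.injEq] at h'
  exact ⟨q.out, q.out.2, hlin _ _ ((hRt _ q.out.2).trans (by rw [F.one, ht])) h'.1 h'.2⟩

end CfsgLib.HSUniq
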