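import Cfsg.Agent.Lib.CosetEnum.Use
import Cfsg.Agent.Lib.HSUniq.DataECases

/-!
Kernel checks of these enumerations.
-/

set_option autoImplicit false
set_option linter.style.longLine false

namespace CfsgLib.HSUniq
open CfsgLib.CosetEnum

theorem certE0_complete : certE0.Complete :=
  Cert.complete_of _ 9 0 (by decide +kernel) (by decide +kernel) (by decide +kernel)
    (by decide +kernel) (by decide +kernel)



theorem certE1_complete : certE1.Complete :=
  Cert.complete_of _ 9 0 (by decide +kernel) (by decide +kernel) (by decide +kernel)
    (by decide +kernel) (by decide +kernel)



theorem certE2_complete : certE2.Complete :=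
  Cert.complete_of _ 7 0 (by decide +kernel) (by decide +kernel) (by decide +kernel)
    (by decide +kernel) (by decide +kernel)



theorem certE3_complete : certE3.Complete :=
  Cert.complete_of _ 8 0 (by decide +kernel) (by decide +kernel) (by decide +kernel)
    (by decide +kernel) (by decide +kernel)



theorem certE4_complete : certE4.Complete :=
  Cert.complete_of _ 10 0 (by decide +kernel) (by decide +kernel) (by decide +kernel)
    (by decide +kernel) (by decide +kernel)



theorem certE5_complete : certE5.Complete :=
  Cert.complete_of _ 11 0 (by decide +kernel) (by decide +kernel) (by decide +kernel)
    (by decide +kernel) (by decide +kernel)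



theorem certE6_complete : certE6.Complete :=
  Cert.complete_of _ 7 0 (by decide +kernel) (by decide +kernel) (by decide +kernel)
    (by decide +kernel) (by decide +kernel)



theorem certE7_complete : certE7.Complete :=
  Cert.complete_of _ 8 0 (by decide +kernel) (by decide +kernel) (by decide +kernel)
    (by decide +kernel) (by decide +kernel)



theorem certE8_complete : certE8.Complete :=
  Cert.complete_of _ 8 0 (by decide +kernel) (by decide +kernel) (by decide +kernel)
    (by decide +kernel) (by decide +kernel)



theorem certE9_complete : certE9.Complete :=
  Cert.complete_of _ 8 0 (by decide +kernel) (by decide +kernel) (by decide +kernel)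
    (by decide +kernel) (by decide +kernel)



theorem certE10_complete : certE10.Complete :=
  Cert.complete_of _ 10 0 (by decide +kernel) (by decide +kernel) (by decide +kernel)
    (by decide +kernel) (by decide +kernel)



theorem certE11_complete : certE11.Complete :=
  Cert.complete_of _ 10 0 (by decide +kernel) (by decide +kernel) (by decide +kernel)
    (by decide +kernel) (by decide +kernel)



theorem certE12_complete : certE12.Complete :=
  Cert.complete_of _ 8 0 (by decide +kernel) (by decide +kernel) (by decide +kernel)
    (by decide +kernel) (by decide +kernel)



theorem certE13_complete : certE13.Complete :=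
  Cert.complete_of _ 8 0 (by decide +kernel) (by decide +kernel) (by decide +kernel)
    (by decide +kernel) (by decide +kernel)



theorem certE14_complete : certE14.Complete :=
  Cert.complete_of _ 10 0 (by decide +kernel) (by decide +kernel) (by decide +kernel)
    (by decide +kernel) (by decide +kernel)

end CfsgLib.HSUniq
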