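import Cfsg.Agent.Lib.CosetEnum.Use
import Cfsg.Agent.Lib.HSUniq.DataMCases

/-!
Kernel checks of these enumerations.
-/

set_option autoImplicit false
set_option linter.style.longLine false

namespace CfsgLib.HSUniq
open CfsgLib.CosetEnum

theorem certM0_complete : certM0.Complete :=
  Cert.complete_of _ 7 3 (by decide +kernel) (by decide +kernel) (by decide +kernel)
    (by decide +kernel) (by decide +kernel)



theorem certM1_complete : certM1.Complete :=
  Cert.complete_of _ 9 6 (by decide +kernel) (by decide +kernel) (by decide +kernel)
    (by decide +kernel) (by decide +kernel)



theorem certM2_complete : certM2.Complete :=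
  Cert.complete_of _ 7 3 (by decide +kernel) (by decide +kernel) (by decide +kernel)
    (by decide +kernel) (by decide +kernel)



theorem certM3_complete : certM3.Complete :=
  Cert.complete_of _ 9 3 (by decide +kernel) (by decide +kernel) (by decide +kernel)
    (by decide +kernel) (by decide +kernel)



theorem certM4_complete : certM4.Complete :=
  Cert.complete_of _ 10 3 (by decide +kernel) (by decide +kernel) (by decide +kernel)
    (by decide +kernel) (by decide +kernel)



theorem certM5_complete : certM5.Complete :=
  Cert.complete_of _ 10 6 (by decide +kernel) (by decide +kernel) (by decide +kernel)
    (by decide +kernel) (by decide +kernel)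



theorem certM6_complete : certM6.Complete :=
  Cert.complete_of _ 10 6 (by decide +kernel) (by decide +kernel) (by decide +kernel)
    (by decide +kernel) (by decide +kernel)



theorem certM7_complete : certM7.Complete :=
  Cert.complete_of _ 10 3 (by decide +kernel) (by decide +kernel) (by decide +kernel)
    (by decide +kernel) (by decide +kernel)



theorem certM8_complete : certM8.Complete :=
  Cert.complete_of _ 10 3 (by decide +kernel) (by decide +kernel) (by decide +kernel)
    (by decide +kernel) (by decide +kernel)



theorem certM9_complete : certM9.Complete :=
  Cert.complete_of _ 10 3 (by decide +kernel) (by decide +kernel) (by decide +kernel)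
    (by decide +kernel) (by decide +kernel)



theorem certM10_complete : certM10.Complete :=
  Cert.complete_of _ 10 6 (by decide +kernel) (by decide +kernel) (by decide +kernel)
    (by decide +kernel) (by decide +kernel)



theorem certM11_complete : certM11.Complete :=
  Cert.complete_of _ 10 3 (by decide +kernel) (by decide +kernel) (by decide +kernel)
    (by decide +kernel) (by decide +kernel)



theorem certM12_complete : certM12.Complete :=
  Cert.complete_of _ 11 3 (by decide +kernel) (by decide +kernel) (by decide +kernel)
    (by decide +kernel) (by decide +kernel)



theorem certM13_complete : certM13.Complete :=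
  Cert.complete_of _ 10 3 (by decide +kernel) (by decide +kernel) (by decide +kernel)
    (by decide +kernel) (by decide +kernel)



theorem certM14_complete : certM14.Complete :=
  Cert.complete_of _ 11 3 (by decide +kernel) (by decide +kernel) (by decide +kernel)
    (by decide +kernel) (by decide +kernel)



theorem certM15_complete : certM15.Complete :=
  Cert.complete_of _ 10 3 (by decide +kernel) (by decide +kernel) (by decide +kernel)
    (by decide +kernel) (by decide +kernel)

end CfsgLib.HSUniq
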