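import Cfsg.Agent.Lib.CosetEnum.Use
import Cfsg.Agent.Lib.HSUniq.DataXCases

/-!
Kernel checks of these enumerations.
-/

set_option autoImplicit false
set_option linter.style.longLine false

namespace CfsgLib.HSUniq
open CfsgLib.CosetEnum

theorem certX000_complete : certX000.Complete :=
  Cert.complete_of _ 12 0 (by decide +kernel) (by decide +kernel) (by decide +kernel)
    (by decide +kernel) (by decide +kernel)



theorem certX002_complete : certX002.Complete :=
  Cert.complete_of _ 12 0 (by decide +kernel) (by decide +kernel) (by decide +kernel)
    (by decide +kernel) (by decide +kernel)



theorem certX010_complete : certX010.Complete :=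
  Cert.complete_of _ 12 0 (by decide +kernel) (by decide +kernel) (by decide +kernel)
    (by decide +kernel) (by decide +kernel)



theorem certX012_complete : certX012.Complete :=
  Cert.complete_of _ 12 0 (by decide +kernel) (by decide +kernel) (by decide +kernel)
    (by decide +kernel) (by decide +kernel)



theorem certX022_complete : certX022.Complete :=
  Cert.complete_of _ 12 0 (by decide +kernel) (by decide +kernel) (by decide +kernel)
    (by decide +kernel) (by decide +kernel)



theorem certX030_complete : certX030.Complete :=
  Cert.complete_of _ 12 0 (by decide +kernel) (by decide +kernel) (by decide +kernel)
    (by decide +kernel) (by decide +kernel)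



theorem certX032_complete : certX032.Complete :=
  Cert.complete_of _ 12 0 (by decide +kernel) (by decide +kernel) (by decide +kernel)
    (by decide +kernel) (by decide +kernel)



theorem certX100_complete : certX100.Complete :=
  Cert.complete_of _ 10 0 (by decide +kernel) (by decide +kernel) (by decide +kernel)
    (by decide +kernel) (by decide +kernel)



theorem certX102_complete : certX102.Complete :=
  Cert.complete_of _ 10 0 (by decide +kernel) (by decide +kernel) (by decide +kernel)
    (by decide +kernel) (by decide +kernel)



theorem certX110_complete : certX110.Complete :=
  Cert.complete_of _ 10 0 (by decide +kernel) (by decide +kernel) (by decide +kernel)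
    (by decide +kernel) (by decide +kernel)



theorem certX112_complete : certX112.Complete :=
  Cert.complete_of _ 11 0 (by decide +kernel) (by decide +kernel) (by decide +kernel)
    (by decide +kernel) (by decide +kernel)



theorem certX120_complete : certX120.Complete :=
  Cert.complete_of _ 10 0 (by decide +kernel) (by decide +kernel) (by decide +kernel)
    (by decide +kernel) (by decide +kernel)



theorem certX122_complete : certX122.Complete :=
  Cert.complete_of _ 10 0 (by decide +kernel) (by decide +kernel) (by decide +kernel)
    (by decide +kernel) (by decide +kernel)



theorem certX130_complete : certX130.Complete :=
  Cert.complete_of _ 10 0 (by decide +kernel) (by decide +kernel) (by decide +kernel)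
    (by decide +kernel) (by decide +kernel)



theorem certX132_complete : certX132.Complete :=
  Cert.complete_of _ 10 0 (by decide +kernel) (by decide +kernel) (by decide +kernel)
    (by decide +kernel) (by decide +kernel)



theorem certX200_complete : certX200.Complete :=
  Cert.complete_of _ 12 0 (by decide +kernel) (by decide +kernel) (by decide +kernel)
    (by decide +kernel) (by decide +kernel)



theorem certX202_complete : certX202.Complete :=
  Cert.complete_of _ 12 0 (by decide +kernel) (by decide +kernel) (by decide +kernel)
    (by decide +kernel) (by decide +kernel)



theorem certX210_complete : certX210.Complete :=
  Cert.complete_of _ 12 0 (by decide +kernel) (by decide +kernel) (by decide +kernel)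
    (by decide +kernel) (by decide +kernel)



theorem certX212_complete : certX212.Complete :=
  Cert.complete_of _ 12 0 (by decide +kernel) (by decide +kernel) (by decide +kernel)
    (by decide +kernel) (by decide +kernel)



theorem certX222_complete : certX222.Complete :=
  Cert.complete_of _ 11 0 (by decide +kernel) (by decide +kernel) (by decide +kernel)
    (by decide +kernel) (by decide +kernel)



theorem certX230_complete : certX230.Complete :=
  Cert.complete_of _ 12 0 (by decide +kernel) (by decide +kernel) (by decide +kernel)
    (by decide +kernel) (by decide +kernel)



theorem certX232_complete : certX232.Complete :=
  Cert.complete_of _ 11 0 (by decide +kernel) (by decide +kernel) (by decide +kernel)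
    (by decide +kernel) (by decide +kernel)

end CfsgLib.HSUniq
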