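import Mathlib.Tactic

/-!
The eight generators inside HS, as permutations of the hundred points (generated).
-/

set_option linter.style.longLine false

namespace CfsgLib.HSUniq

/-- the packed permutations -/
def perm8 : List Nat := [
  0x3a0148160c4958354b282c54041b02511a105d602a43623261553d5b5f0f0b591e311229052003564a07535a39475c173c4c1824191f442d2630400a4246154f4e6350452e23130833372f2734213f520e4109002b064d363e38111c221d25575e3b0d14,
  0x224d4b50470351354838445d043c4a583914542124230d325b3b5e613626202d4e271229150b49330263370a1a0c5c171b4c422a191f2c590f4f405a182b05301e07163e2e43060856532f31346025001d4109524613015f4528111c3a0e3f573d556210,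
  0x2f0d5e0545481b1d1522171a2d180047035f2a3b56395d13103f42554e21542e0c431209465b584b02575207252b0e4c01060b362c5c341f2353086326203e4f3c043d313524381c514a4460321416370a2940300f282750623a4111195a1e594d496133,
  0x280b011852614d2e3e06043d3a4f48452a391b0c244703343c1a025e543f5f19424909114a252123500a4e1d14301f2d001720106344572f3651120e0d27371e2b5a46262c055c1c5d58075659155b164c41084b0f3562433113402938326022533b3355,
  0x2c20475e4f39152e0c225a3f4c005405161e250348563e343658535f244618381b4d11414a421a105d2d600750301f575217624b35190a282b5b12630d2602613c593d312f331d1c14215c0104493b43130940230f0e0b2a273a2908440655323751454e,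
  0x2831243948603b192a59224a344e0555493302375f004257303f164f61460107143e4011584d2123150a5e44034b2f4c1e0420361f5c3a632b0c092c0b265147105a1a6235521d1c433d2e4532535d1b1329413c0f0e275b0d2d12083806541750251856,
  0x6362155e5160472e052d0a36571e2a0c37005f49023301343f3050255d2b42381b4541114b1821232422394453581f4c4e17204a2f5c5a284655092c0b26483b3c3a3d3135561d1c431a193e32036114061240100f0e0d542759290807135b04164f4d52,
  0x13a614e365654095b270b58575e3b5d101a51433060074c484a3c4b471d2c3e50382f1f3f44334955620042145f11343d320a4f412920450e2a2e185a132524160d1e2d4021461c035212281723053726193553062b220c59315c084d0f15041b026339]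

/-- words in the two standard generators -/
def hsW : List (List Nat) := [
  [0, 1, 0, 1, 1, 1, 1, 0, 0, 0, 0, 1, 1, 1, 0, 0, 1, 0, 1, 0, 0, 0, 1, 0],
  [0, 0, 1, 0, 1, 1, 0, 0, 1, 0, 1, 1, 0, 1, 1, 0, 0, 0, 0, 1, 0, 1, 0, 1, 0, 1],
  [0, 1, 0, 1, 1, 0, 1, 1, 1, 1, 0, 0, 1, 0, 0, 1, 0, 0, 1, 1, 0, 0, 1, 1, 1, 0],
  [0, 0, 1, 1, 1, 1, 0, 1, 1, 1, 0, 0, 0, 0, 1, 0, 1, 1, 1, 0, 0, 1, 1, 0, 0, 0],
  [0, 0, 1, 0, 0, 0, 1, 0, 1, 0, 1, 0, 0, 0, 1, 1, 0, 0, 0, 0, 0, 1, 1, 0, 1, 0],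
  [0, 0, 0, 1, 0, 0, 1, 1, 0, 1, 0, 0, 1, 1, 1, 0, 0, 0, 1, 0, 0, 0],
  [0, 1, 1, 0, 0, 1, 0, 1, 1, 1, 0, 0, 0, 0, 0, 1, 0, 0, 0, 0, 0, 0, 0],
  [1, 0, 0, 1, 1, 0, 1, 1, 1, 0, 1, 0, 0, 0, 0, 1, 0, 0, 0, 1, 1, 0, 0, 1, 0, 1]]

/-- the standard generators as words in the eight -/
def xW : List (List Nat) := [[1, 3, 1, 3, 7, 2, 2, 0, 2, 5, 7, 3, 7, 3, 7], [7, 3, 0, 7, 2, 2, 6, 3, 0, 7]]

/-- two commuting elements of order three commuting with an involution -/
def threeW : List (List Nat) := [[2, 7, 3, 4, 6, 7, 3, 7, 3, 7, 2, 6, 2], [2, 1, 2, 5, 7, 3, 7, 3, 4, 7, 3, 0, 4, 7, 3]]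

end CfsgLib.HSUniq
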