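import Cfsg.Agent.Lib.HSUniq.ERel
import Cfsg.Agent.Lib.HSUniq.DataHSGens
import Cfsg.Agent.Lib.HN.HSFacts

/-!
The eight generators inside the concrete Higman-Sims group.
-/

set_option autoImplicit false
set_option Elab.async false
set_option maxRecDepth 100000

namespace CfsgLib.HSUniq

open CfsgLib.CosetEnum CfsgLib.HN

local notation "pap" => CfsgLib.Schur.PermTable.ap

/-- the image of a point under a word in the standard generators -/
noncomputable def apX (w : List ℕ) (i : ℕ) : ℕ := w.foldr (fun j a => pap (CfsgLib.HS.hsElts.P j) a) i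

/-- the image of a point under a word in the eight generators -/
noncomputable def ap8 (w : List ℕ) (i : ℕ) : ℕ := w.foldr (fun l a => pap (perm8.getD l 0) a) i

/-- two words act equally -/
noncomputable def same8 (u v : List ℕ) : Bool := (List.range 100).all fun i => Nat.beq (ap8 u i) (ap8 v i)

/-- the generators -/
noncomputable def yHS (n : ℕ) : HSGrp := if n < 8 then prodW CfsgLib.HS.X (hsW.getD n []) else 1

theorem tables_ok : ((List.range 8).all fun l => (hsW.getD l []).all (fun j => Nat.blt j 2) &&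
    (List.range 100).all fun i => Nat.beq (apX (hsW.getD l []) i) (pap (perm8.getD l 0) i)) = true ∧
    ((List.range 2).all fun j => (xW.getD j []).all (fun l => Nat.blt l 8) &&
      (List.range 100).all fun i => Nat.beq (ap8 (xW.getD j []) i) (pap (CfsgLib.HS.hsElts.P j) i)) = true ∧
    pap (CfsgLib.HS.hsElts.P 0) 0 ≠ 0 := by
  decide +kernel

theorem exists_faithful : ∃ ρ : HSGrp →* Equiv.Perm (Fin 100), Function.Injective ρ ∧
    ∀ u : List ℕ, (∀ j ∈ u, j < 2) → ∀ i : Fin 100, ((ρ (prodW CfsgLib.HS.X u) i : Fin 100) : ℕ) = apX u i := by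
  obtain ⟨ρ, -, h0, h1, -⟩ := CfsgLib.HS.exists_actions
  haveI : IsSimpleGroup HSGrp := simple_hs
  refine ⟨ρ, ?_, ?_⟩
  · rw [← MonoidHom.ker_eq_bot_iff]
    rcases Subgroup.Normal.eq_bot_or_eq_top (MonoidHom.normal_ker ρ) with h | h
    · exact h
    · exfalso
      have hx : ρ (CfsgLib.HS.X 0) = 1 := MonoidHom.mem_ker.1 (h ▸ Subgroup.mem_top _)
      have h0' := h0 ⟨0, by decide⟩
      have h1' := congrArg (fun p : Equiv.Perm (Fin 100) => ((p ⟨0, by decide⟩ : Fin 100) : ℕ)) hx
      exact tables_ok.2.2 (h0'.symm.trans h1')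
  · intro u
    induction u with
    | nil => intro _ i; simp [apX]
    | cons j u ih =>
      intro hu i
      rw [prodW_cons, map_mul, Equiv.Perm.mul_apply]
      have hi := ih (fun a ha => hu a (List.mem_cons_of_mem _ ha)) i
      have hj := hu j List.mem_cons_self
      simp only [apX, List.foldr_cons]
      rw [show u.foldr (fun j a => pap (CfsgLib.HS.hsElts.P j) a) (i : ℕ) = apX u i from rfl, ← hi]
      interval_cases j
      exacts [h0 _, h1 _]

theorem yHS_act : ∃ ρ : HSGrp →* Equiv.Perm (Fin 100), Function.Injective ρ ∧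
    (∀ u : List ℕ, (∀ j ∈ u, j < 2) → ∀ i : Fin 100, ((ρ (prodW CfsgLib.HS.X u) i : Fin 100) : ℕ) = apX u i) ∧
    ∀ w : List ℕ, (∀ l ∈ w, l < 8) → ∀ i : Fin 100, ((ρ (prodW yHS w) i : Fin 100) : ℕ) = ap8 w i := by
  obtain ⟨ρ, hinj, hX⟩ := exists_faithful
  refine ⟨ρ, hinj, hX, ?_⟩
  intro w
  induction w with
  | nil => intro _ i; simp [ap8]
  | cons l w ih =>
    intro hw i
    have hl := hw l List.mem_cons_self
    have h := tables_ok.1
    simp only [List.all_eq_true, List.mem_range, Bool.and_eq_true, Nat.blt_eq, Nat.beq_eq] at h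
    obtain ⟨h2, htab⟩ := h l hl
    rw [prodW_cons, map_mul, Equiv.Perm.mul_apply, yHS, if_pos hl, hX _ h2, htab _ (Fin.isLt _),
      ih (fun a ha => hw a (List.mem_cons_of_mem _ ha)) i]
    rfl

theorem eq_of_same {u v : List ℕ} (hu : ∀ l ∈ u, l < 8) (hv : ∀ l ∈ v, l < 8) (h : same8 u v = true) :
    prodW yHS u = prodW yHS v := by
  obtain ⟨ρ, hinj, -, hy⟩ := yHS_act
  simp only [same8, List.all_eq_true, List.mem_range, Nat.beq_eq] at h
  exact hinj (Equiv.ext fun i => Fin.ext (by rw [hy u hu, hy v hv, h i i.2]))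

theorem same_of_eq {u v : List ℕ} (hu : ∀ l ∈ u, l < 8) (hv : ∀ l ∈ v, l < 8) (h : prodW yHS u = prodW yHS v) :
    same8 u v = true := by
  obtain ⟨ρ, -, -, hy⟩ := yHS_act
  simp only [same8, List.all_eq_true, List.mem_range, Nat.beq_eq]
  intro i hi
  rw [← hy u hu ⟨i, hi⟩, ← hy v hv ⟨i, hi⟩, h]

theorem X_eq_word {j : ℕ} (hj : j < 2) :
    (∀ l ∈ xW.getD j [], l < 8) ∧ prodW yHS (xW.getD j []) = CfsgLib.HS.X j := by
  obtain ⟨ρ, hinj, hX, hy⟩ := yHS_act
  have h := tables_ok.2.1
  simp only [List.all_eq_true, List.mem_range, Bool.and_eq_true, Nat.blt_eq, Nat.beq_eq] at h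
  obtain ⟨h8, htab⟩ := h j hj
  refine ⟨h8, hinj (Equiv.ext fun i => Fin.ext ?_)⟩
  rw [hy _ h8, htab i i.2]
  have := hX [j] (by simpa using hj) i
  simp [prodW, apX] at this
  exact this.symm

end CfsgLib.HSUniq
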