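import Mathlib.Tactic

/-!
The local relation (generated).
-/

namespace CfsgLib.HSUniq

/-- the elements of the normal four-group product -/
def eList : List Nat := [0, 2, 40, 42, 128, 130, 168, 170, 4800, 4802, 4840, 4842, 6528, 6530, 6568, 6570]

/-- generators of it -/
def eGens : List Nat := [2, 6530, 168, 6570]

/-- the word acting trivially on it -/
def dWord : List Nat := [7, 3, 4, 3, 0, 7, 3, 4, 3, 0, 7, 2, 5, 2, 7, 1, 2, 5, 2, 1]

/-- words for the sixteen elements -/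
def eWords : List (List Nat) := [[], [0, 0], [5, 2, 0, 0, 3, 4], [3, 3, 0, 0, 2, 2], [6], [0, 0, 6], [6, 5, 2, 0, 0, 3, 4], [6, 3, 3, 0, 0, 2, 2], [6, 3, 3, 6, 2, 5], [0, 0, 6, 3, 3, 6, 2, 5], [3, 3, 3, 0, 0, 6, 3, 4], [6, 3, 3, 0, 0, 6, 2, 5], [3, 3, 6, 2, 5], [0, 0, 3, 3, 6, 2, 5], [0, 0, 3, 3, 0, 0, 6, 2, 5], [3, 3, 0, 0, 6, 2, 5]]

end CfsgLib.HSUniq
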