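import Mathlib.Tactic

/-!
Witnesses for the classes of involutions in the Higman-Sims group (generated).
-/

set_option linter.style.longLine false
set_option maxRecDepth 100000

namespace CfsgLib.HSUniq

/-- each involution of the 2-local part, with its class and conjugating steps -/
def classList : List (Nat × Nat × List (Nat × Nat)) := [
  (2, 0, []), (8, 0, [(0, 1920)]), (10, 0, [(0, 704)]), (32, 0, [(0, 1216)]),
  (34, 0, [(0, 1280)]), (40, 0, [(0, 384)]), (42, 0, [(0, 192)]), (128, 0, [(0, 384), (1, 10752), (0, 1920)]),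
  (129, 1, []), (130, 0, [(0, 423), (1, 10752), (0, 1920)]), (131, 1, [(0, 3)]), (156, 0, [(0, 446), (1, 10752), (0, 1920)]),
  (157, 1, [(0, 4)]), (158, 0, [(0, 401), (1, 10752), (0, 1920)]), (159, 1, [(0, 7)]), (168, 0, [(0, 424), (1, 10752), (0, 1920)]),
  (169, 1, [(0, 8)]), (170, 0, [(0, 399), (1, 10752), (0, 1920)]), (171, 1, [(0, 11)]), (180, 0, [(0, 406), (1, 10752), (0, 1920)]),
  (181, 1, [(0, 12)]), (182, 0, [(0, 441), (1, 10752), (0, 1920)]), (183, 1, [(0, 15)]), (4480, 0, [(1, 10752), (0, 1920)]),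
  (4482, 0, [(1, 19106), (0, 1920)]), (4484, 1, [(0, 729)]), (4486, 1, [(0, 763)]), (4488, 0, [(1, 10756), (0, 1920)]),
  (4490, 0, [(1, 10788), (0, 1920)]), (4492, 1, [(0, 718)]), (4494, 1, [(0, 748)]), (4513, 0, [(1, 19090), (0, 1920)]),
  (4515, 0, [(1, 10782), (0, 1920)]), (4517, 1, [(0, 757)]), (4519, 1, [(0, 727)]), (4521, 0, [(1, 10808), (0, 1920)]),
  (4523, 0, [(1, 19124), (0, 1920)]), (4525, 1, [(0, 704)]), (4527, 1, [(0, 738)]), (4672, 0, [(0, 64), (1, 10752), (0, 1920)]),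
  (4673, 1, [(0, 1241)]), (4674, 0, [(0, 76), (1, 10752), (0, 1920)]), (4675, 1, [(0, 1230)]), (4688, 1, [(0, 1216)]),
  (4689, 0, [(0, 124), (1, 10752), (0, 1920)]), (4690, 1, [(0, 1269)]), (4691, 0, [(0, 112), (1, 10752), (0, 1920)]), (4704, 0, [(0, 108), (1, 10752), (0, 1920)]),
  (4705, 1, [(0, 1260)]), (4706, 0, [(0, 96), (1, 10752), (0, 1920)]), (4707, 1, [(0, 1275)]), (4720, 1, [(0, 1239)]),
  (4721, 0, [(0, 80), (1, 10752), (0, 1920)]), (4722, 1, [(0, 1250)]), (4723, 0, [(0, 92), (1, 10752), (0, 1920)]), (4800, 0, [(0, 5696), (1, 10752), (0, 1920)]),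
  (4801, 1, [(0, 4480)]), (4802, 0, [(0, 5735), (1, 10752), (0, 1920)]), (4803, 1, [(0, 4483)]), (4820, 1, [(0, 4495)]),
  (4821, 0, [(0, 5718), (1, 10752), (0, 1920)]), (4822, 1, [(0, 4492)]), (4823, 0, [(0, 5753), (1, 10752), (0, 1920)]), (4840, 0, [(0, 5711), (1, 10752), (0, 1920)]),
  (4841, 1, [(0, 4491)]), (4842, 0, [(0, 5736), (1, 10752), (0, 1920)]), (4843, 1, [(0, 4488)]), (4860, 1, [(0, 4484)]),
  (4861, 0, [(0, 5713), (1, 10752), (0, 1920)]), (4862, 1, [(0, 4487)]), (4863, 0, [(0, 5758), (1, 10752), (0, 1920)]), (6528, 0, [(1, 21258), (0, 1920)]),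
  (6530, 0, [(1, 21290), (0, 1920)]), (6537, 0, [(1, 21266), (0, 1920)]), (6539, 0, [(1, 21086), (0, 1920)]), (6548, 1, [(0, 2825)]),
  (6550, 1, [(0, 2857)]), (6557, 1, [(0, 2864)]), (6559, 1, [(0, 2832)]), (6561, 0, [(1, 21112), (0, 1920)]),
  (6563, 0, [(1, 21300), (0, 1920)]), (6568, 0, [(1, 21060), (0, 1920)]), (6570, 0, [(1, 21092), (0, 1920)]), (6581, 1, [(0, 2841)]),
  (6583, 1, [(0, 2873)]), (6588, 1, [(0, 2848)]), (6590, 1, [(0, 2816)]), (7296, 0, [(0, 256), (1, 10752), (0, 1920)]),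
  (7297, 1, [(0, 2042)]), (7298, 0, [(0, 260), (1, 10752), (0, 1920)]), (7299, 1, [(0, 1989)]), (7300, 1, [(0, 1984)]),
  (7301, 0, [(0, 304), (1, 10752), (0, 1920)]), (7302, 1, [(0, 2015)]), (7303, 0, [(0, 308), (1, 10752), (0, 1920)]), (7304, 0, [(0, 295), (1, 10752), (0, 1920)]),
  (7305, 1, [(0, 2043)]), (7306, 0, [(0, 299), (1, 10752), (0, 1920)]), (7307, 1, [(0, 1990)]), (7308, 1, [(0, 1987)]),
  (7309, 0, [(0, 279), (1, 10752), (0, 1920)]), (7310, 1, [(0, 2014)]), (7311, 0, [(0, 283), (1, 10752), (0, 1920)]), (8320, 0, [(0, 960), (1, 10752), (0, 1920)]),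
  (8321, 1, [(0, 4289)]), (8322, 0, [(0, 1005), (1, 10752), (0, 1920)]), (8323, 1, [(0, 4288)]), (8328, 0, [(0, 992), (1, 10752), (0, 1920)]),
  (8329, 1, [(0, 4323)]), (8330, 0, [(0, 973), (1, 10752), (0, 1920)]), (8331, 1, [(0, 4322)]), (8356, 0, [(0, 989), (1, 10752), (0, 1920)]),
  (8357, 1, [(0, 4347)]), (8358, 0, [(0, 1008), (1, 10752), (0, 1920)]), (8359, 1, [(0, 4344)]), (8364, 0, [(0, 1021), (1, 10752), (0, 1920)]),
  (8365, 1, [(0, 4313)]), (8366, 0, [(0, 976), (1, 10752), (0, 1920)]), (8367, 1, [(0, 4314)]), (8576, 0, [(1, 10882), (0, 1920)]),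
  (8578, 0, [(1, 20712), (0, 1920)]), (8585, 0, [(1, 20728), (0, 1920)]), (8587, 0, [(1, 10932), (0, 1920)]), (8592, 1, [(0, 1305)]),
  (8594, 1, [(0, 1339)]), (8601, 1, [(0, 1303)]), (8603, 1, [(0, 1333)]), (8608, 0, [(1, 20676), (0, 1920)]),
  (8610, 0, [(1, 20708), (0, 1920)]), (8617, 0, [(1, 10898), (0, 1920)]), (8619, 0, [(1, 20702), (0, 1920)]), (8624, 1, [(0, 1294)]),
  (8626, 1, [(0, 1324)]), (8633, 1, [(0, 1314)]), (8635, 1, [(0, 1280)]), (10496, 0, [(0, 512), (1, 10752), (0, 1920)]),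
  (10497, 1, [(0, 4152)]), (10498, 0, [(0, 551), (1, 10752), (0, 1920)]), (10499, 1, [(0, 4141)]), (10520, 0, [(0, 535), (1, 10752), (0, 1920)]),
  (10521, 1, [(0, 4096)]), (10522, 0, [(0, 560), (1, 10752), (0, 1920)]), (10523, 1, [(0, 4127)]), (10528, 0, [(0, 544), (1, 10752), (0, 1920)]),
  (10529, 1, [(0, 4146)]), (10530, 0, [(0, 519), (1, 10752), (0, 1920)]), (10531, 1, [(0, 4135)]), (10552, 0, [(0, 567), (1, 10752), (0, 1920)]),
  (10553, 1, [(0, 4106)]), (10554, 0, [(0, 528), (1, 10752), (0, 1920)]), (10555, 1, [(0, 4117)])]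

/-- involutions commuting with the second involution -/
def zList : List (Nat × Nat × List (Nat × Nat)) := [
  (2, 0, [(1, 0)]), (40, 0, [(1, 0), (0, 384)]), (42, 0, [(1, 0), (0, 192)]), (131, 1, [(1, 0)]),
  (169, 1, [(1, 0), (0, 384)]), (171, 1, [(1, 0), (0, 192)]), (4801, 1, [(1, 0), (1, 21258), (0, 1920)]), (4803, 1, [(1, 0), (1, 21290), (0, 1920)]),
  (4821, 0, [(1, 0), (0, 5718), (1, 10752), (0, 1920)]), (4823, 0, [(1, 0), (0, 5753), (1, 10752), (0, 1920)]), (4841, 1, [(1, 0), (1, 21060), (0, 1920)]), (4843, 1, [(1, 0), (1, 21092), (0, 1920)]),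
  (4861, 0, [(1, 0), (0, 5713), (1, 10752), (0, 1920)]), (4863, 0, [(1, 0), (0, 5758), (1, 10752), (0, 1920)]), (6528, 0, [(1, 0), (1, 21258), (0, 1920)]), (6530, 0, [(1, 0), (1, 21290), (0, 1920)]),
  (6548, 1, [(1, 0), (0, 5718), (1, 10752), (0, 1920)]), (6550, 1, [(1, 0), (0, 5753), (1, 10752), (0, 1920)]), (6568, 0, [(1, 0), (1, 21060), (0, 1920)]), (6570, 0, [(1, 0), (1, 21092), (0, 1920)]),
  (6588, 1, [(1, 0), (0, 5713), (1, 10752), (0, 1920)]), (6590, 1, [(1, 0), (0, 5758), (1, 10752), (0, 1920)]), (10752, 0, [(1, 10756), (0, 279), (1, 10752), (0, 1920)]), (10754, 0, [(1, 10756), (0, 283), (1, 10752), (0, 1920)]),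
  (10881, 1, [(1, 10756), (0, 279), (1, 10752), (0, 1920)]), (10883, 1, [(1, 10756), (0, 283), (1, 10752), (0, 1920)]), (15593, 1, [(1, 10756), (0, 976), (1, 10752), (0, 1920)]), (15595, 1, [(1, 10756), (0, 1021), (1, 10752), (0, 1920)]),
  (17320, 0, [(1, 10756), (0, 976), (1, 10752), (0, 1920)]), (17322, 0, [(1, 10756), (0, 1021), (1, 10752), (0, 1920)]), (26012, 1, [(1, 10752), (0, 5713), (1, 10752), (0, 1920)]), (26014, 1, [(1, 10752), (0, 5758), (1, 10752), (0, 1920)]),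
  (27805, 0, [(1, 10752), (0, 5713), (1, 10752), (0, 1920)]), (27807, 0, [(1, 10752), (0, 5758), (1, 10752), (0, 1920)]), (28765, 0, [(1, 10752), (0, 5718), (1, 10752), (0, 1920)]), (28767, 0, [(1, 10752), (0, 5753), (1, 10752), (0, 1920)]),
  (30108, 1, [(1, 10752), (0, 5718), (1, 10752), (0, 1920)]), (30110, 1, [(1, 10752), (0, 5753), (1, 10752), (0, 1920)])]

/-- steps for the product with the conjugate -/
def auSteps : List (Nat × Nat) := [(0, 8)]

/-- steps for the product of the two involutions -/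
def tuSteps : List (Nat × Nat) := [(0, 3)]

end CfsgLib.HSUniq
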