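import Cfsg.Agent.Lib.HSUniq.HModel
import Cfsg.Agent.Lib.HSUniq.CheckECases
import Cfsg.Agent.Lib.HSUniq.CheckHS
import Cfsg.Agent.Lib.HSUniq.DataERel

/-!
The last relation, from an elementary abelian subgroup that is its own centralizer in the centralizer
of the involution.
-/

set_option autoImplicit false
set_option Elab.async false
set_option maxRecDepth 100000

namespace CfsgLib.HSUniq

open CfsgLib.CosetEnum

/-- the eight letters -/
def gen8 {G : Type*} [Group G] (c s r w x : G) (n : ℕ) : G := if n < 8 then genX c s r w x n else 1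

theorem map_gen8 {G G' : Type*} [Group G] [Group G'] (f : G →* G') (c s r w x : G) (n : ℕ) :
    f (gen8 c s r w x n) = gen8 (f c) (f s) (f r) (f w) (f x) n := by
  unfold gen8; split
  · exact map_genX f c s r w x n
  · exact map_one f

/-- inverse word in eight letters -/
def invWord8 (u : List ℕ) : List ℕ := (u.map fun l => ([1, 0, 3, 2, 5, 4, 6, 7] : List ℕ).getD l l).reverse

/-- the candidate relator -/
def eRel (j : ℕ) : List ℕ := dWord ++ invWord8 (eWords.getD j [])

/-- the excluded cases -/
def eCert : ℕ → Cert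
  | 0 => certE0 | 1 => certE1 | 2 => certE2 | 3 => certE3 | 4 => certE4 | 5 => certE5 | 6 => certE6 | 7 => certE7
  | 8 => certE8 | 9 => certE9 | 10 => certE10 | 11 => certE11 | 12 => certE12 | 13 => certE13
  | _ => certE14

/-- conjugation of a code by a letter -/
noncomputable def stepC (l p : ℕ) : ℕ :=
  if l = 7 then thK.at' 16 (decT.at' 16 p % 384) else pconj (lcode l) p

/-- conjugation of a code by a word, when defined -/
noncomputable def stepOK : List ℕ → ℕ → Bool
  | [], _ => true
  | l :: u, p =>
    let q := u.foldr stepC p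
    stepOK u p && (if l = 7 then mhList.any (Nat.beq q) && Nat.beq (decT.at' 16 q / 384) 0
      else Nat.blt l 7 && Nat.blt q 10752)

theorem e_trivial : (eList.all fun e => Nat.blt e 10752 && mhList.any (Nat.beq e) && stepOK dWord e &&
    Nat.beq (dWord.foldr stepC e) e) = true ∧ (dWord.all fun l => Nat.blt l 8) = true ∧ eList.getD 1 0 = 2 ∧
    eList.length = 16 ∧ ((List.range 16).all fun j => (eWords.getD j []).all (fun l => Nat.blt l 7) &&
      (invWord8 (eWords.getD j [])).all (fun l => Nat.blt l 7) &&
      Nat.beq (pev (invWord8 (eWords.getD j []))) (pinv (eList.getD j 0))) = true ∧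
    eGens.all (fun e => eList.any (Nat.beq e)) = true := by
  decide +kernel

theorem e_self : ((List.range 5).all fun i => mhList.all fun p =>
    (eList.any (Nat.beq (i * 10752 + p))) ||
    eGens.any fun e => !(Nat.beq (hmul (i * 10752 + p) e) (hmul e (i * 10752 + p)))) = true := by
  decide +kernel

theorem e_info : ((List.range 15).all fun j =>
    decide ((eCert j).K = 8) && decide ((eCert j).invs = [1, 0, 3, 2, 5, 4, 6, 7]) &&
    decide ((eCert j).subs = xSubs) && Nat.beq ((eCert j).run 0 [2]) 0 &&
    decide ((eCert j).rels = certHS.rels.dropLast ++ [eRel j])) = true ∧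
    certHS.K = 8 ∧ certHS.invs = [1, 0, 3, 2, 5, 4, 6, 7] ∧ certHS.subs = xSubs ∧ certHS.N = 5775 ∧
    certHS.rels = certHS.rels.dropLast ++ [eRel 15] ∧
    (certHS.rels.dropLast.all fun u =>
      decide (u ∈ (xRels img0 2 0).map fun v => v.map fun a => if a = 8 then 7 else a)) = true ∧
    ((xRels img0 2 0).all fun u => u.all fun l => Nat.blt l 9) = true := by
  decide +kernel

theorem e_complete : ∀ j, (eCert j).Complete := by
  intro j
  unfold eCert
  split
  all_goals first
    | exact certE0_complete | exact certE1_complete | exact certE2_complete | exact certE3_complete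
    | exact certE4_complete | exact certE5_complete | exact certE6_complete | exact certE7_complete
    | exact certE8_complete | exact certE9_complete | exact certE10_complete | exact certE11_complete
    | exact certE12_complete | exact certE13_complete | exact certE14_complete

variable {G : Type*} [Group G] {t : G} {H R V M A : Subgroup G} {c s r w x : G}
  (D : HData t H R V M A c s r w x)
include D

theorem gen8_eq (l : ℕ) (hl : l < 9) : gen8 c s r w x (if l = 8 then 7 else l) = genX c s r w x l := by
  unfold gen8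
  interval_cases l <;> simp [genX, x_inv D]

theorem prodW8 {u : List ℕ} (hu : ∀ l ∈ u, l < 9) :
    prodW (gen8 c s r w x) (u.map fun a => if a = 8 then 7 else a) = prodW (genX c s r w x) u := by
  induction u with
  | nil => rfl
  | cons l u ih =>
    rw [List.map_cons, prodW_cons, prodW_cons, gen8_eq D l (hu l List.mem_cons_self),
      ih fun a ha => hu a (List.mem_cons_of_mem _ ha)]

theorem prodW8_low {u : List ℕ} (hu : ∀ l ∈ u, l < 8) :
    prodW (gen8 c s r w x) u = prodW (genX c s r w x) u := by
  induction u with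
  | nil => rfl
  | cons l u ih =>
    rw [prodW_cons, prodW_cons, ih fun a ha => hu a (List.mem_cons_of_mem _ ha), gen8,
      if_pos (hu l List.mem_cons_self)]

theorem base8 : ∀ u ∈ certHS.rels.dropLast, prodW (gen8 c s r w x) u = 1 := by
  intro u hu
  obtain ⟨-, -, -, -, -, -, hall, h9⟩ := e_info
  simp only [List.all_eq_true, decide_eq_true_eq, Nat.blt_eq] at hall h9
  obtain ⟨v, hv, rfl⟩ := List.mem_map.1 (hall u hu)
  rw [prodW8 D (h9 v hv)]
  exact xRels_hold D.setup D.loc D.out v hv

theorem stepOK_spec : ∀ (u : List ℕ) {p : ℕ}, p < 10752 → stepOK u p = true →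
    u.foldr stepC p < 10752 ∧
      valP c s w (u.foldr stepC p) = prodW (gen8 c s r w x) u * valP c s w p * (prodW (gen8 c s r w x) u)⁻¹ := by
  intro u
  induction u with
  | nil => intro p hp _; exact ⟨hp, by simp⟩
  | cons l u ih =>
    intro p hp h
    rw [stepOK, Bool.and_eq_true] at h
    obtain ⟨h1, h2⟩ := h
    obtain ⟨i1, i2⟩ := ih hp h1
    rw [List.foldr_cons, prodW_cons]
    set q := u.foldr stepC p with hq
    by_cases hl : l = 7
    · subst hl
      simp only [if_true, Bool.and_eq_true, List.any_eq_true, Nat.beq_eq] at h2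
      obtain ⟨⟨q', hm, rfl⟩, h0⟩ := h2
      obtain ⟨-, hk, hx⟩ := dec_spec D hm
      rw [stepC, if_pos rfl]
      refine ⟨(mem_mhList.1 hk).1, ?_⟩
      rw [h0, mC, valP_zero, one_mul] at hx
      rw [show gen8 c s r w x 7 = x from rfl, mul_inv_rev, x_inv D]
      calc valP c s w (thK.at' 16 (decT.at' 16 q % 384)) = x * (x * valP c s w (thK.at' 16 (decT.at' 16 q % 384))) := by
            rw [← mul_assoc, x_sq D, one_mul]
        _ = _ := by rw [← hx, i2]; group
    · rw [if_neg hl, Bool.and_eq_true, Nat.blt_eq, Nat.blt_eq] at h2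
      obtain ⟨g1, g2⟩ := lcode_spec D.loc.rel x l h2.1
      obtain ⟨j1, j2⟩ := valP_conj D.loc.rel g1 i1
      rw [stepC, if_neg hl]
      refine ⟨j1, ?_⟩
      rw [j2, g2, i2, gen8, if_pos (by omega)]; group

theorem d_in_E : ∃ j < 16, prodW (gen8 c s r w x) dWord = valP c s w (eList.getD j 0) := by
  obtain ⟨hE, -, hE1, hlen, -, hgen⟩ := e_trivial
  simp only [List.all_eq_true, List.any_eq_true, Bool.and_eq_true, Nat.blt_eq, Nat.beq_eq] at hE hgen
  set d := prodW (gen8 c s r w x) dWord
  have hcom : ∀ e ∈ eList, d * valP c s w e = valP c s w e * d := by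
    intro e he
    obtain ⟨⟨⟨hlt, -⟩, hok⟩, hfix⟩ := hE e he
    have := (stepOK_spec D dWord hlt hok).2
    rw [hfix] at this
    calc d * valP c s w e = d * valP c s w e * d⁻¹ * d := by group
      _ = valP c s w e * d := by rw [← this]
  have hdH : d ∈ H := by
    rw [D.setup.hH]
    have h2 : (2 : ℕ) ∈ eList := hE1 ▸ (List.getD_eq_getElem _ _ (by omega : 1 < eList.length) ▸ List.getElem_mem _)
    have := hcom 2 h2
    rwa [D.loc.val_two] at this
  obtain ⟨f, hf, hfd⟩ := valH_surj D hdH
  have hs := e_self
  simp only [List.all_eq_true, List.any_eq_true, List.mem_range, Bool.or_eq_true, Bool.not_eq_true', Nat.beq_eq] at hs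
  rcases hs (f / 10752) (by have := hf.1; omega) (f % 10752) hf.2 with ⟨e, he, hee⟩ | ⟨e, he, hne⟩
  · obtain ⟨j, hj, rfl⟩ := List.getElem_of_mem he
    refine ⟨j, hlen ▸ hj, ?_⟩
    have hje : f = eList[j] := by omega
    rw [List.getD_eq_getElem _ _ hj, ← hje, ← hfd, valH_low (hje ▸ (hE _ (List.getElem_mem hj)).1.1.1)]
  · exfalso
    obtain ⟨e', he', rfl⟩ := hgen e he
    obtain ⟨⟨⟨hlt, q, hq, rfl⟩, -⟩, -⟩ := hE e he'
    refine Nat.ne_of_beq_eq_false hne ?_
    rw [show f / 10752 * 10752 + f % 10752 = f by omega]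
    obtain ⟨a1, a2⟩ := hmul_spec D hf (hcode_low hq)
    obtain ⟨b1, b2⟩ := hmul_spec D (hcode_low hq) hf
    refine valH_inj D a1 b1 ?_
    rw [a2, b2, hfd, valH_low hlt]
    exact hcom e he'

/-- All relators of the large enumeration hold. -/
theorem hs_rels : ∀ u ∈ certHS.rels, prodW (gen8 c s r w x) u = 1 := by
  obtain ⟨hinfo, -, -, -, -, hlast, -, -⟩ := e_info
  obtain ⟨-, -, -, -, hw, -⟩ := e_trivial
  simp only [List.all_eq_true, List.mem_range, Bool.and_eq_true, Nat.blt_eq, Nat.beq_eq] at hw
  obtain ⟨j, hj, hd⟩ := d_in_E D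
  have hrel : prodW (gen8 c s r w x) (eRel j) = 1 := by
    obtain ⟨⟨-, hi⟩, he⟩ := hw j hj
    rw [eRel, prodW_append, hd, prodW8_low D (fun l hl => lt_trans (hi l hl) (by norm_num)),
      ← (pev_spec D.loc.rel x hi).2, he]
    have hlt : eList.getD j 0 < 10752 := by
      have := e_trivial.1
      simp only [List.all_eq_true, Bool.and_eq_true, Nat.blt_eq] at this
      obtain ⟨-, -, -, hlen, -⟩ := e_trivial
      rw [List.getD_eq_getElem _ _ (hlen.symm ▸ hj)]
      exact (this _ (List.getElem_mem _)).1.1.1
    rw [(valP_inv D.loc.rel hlt).2, mul_inv_cancel]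
  rcases (by omega : j < 15 ∨ j = 15) with hj15 | rfl
  swap
  · intro u hu
    rw [hlast, List.mem_append, List.mem_singleton] at hu
    rcases hu with hu | rfl
    exacts [base8 D u hu, hrel]
  exfalso
  have hI := List.all_eq_true.1 hinfo j (List.mem_range.2 hj15)
  simp only [Bool.and_eq_true, decide_eq_true_eq, Nat.beq_eq] at hI
  obtain ⟨⟨⟨⟨hK, hinv⟩, hsubs⟩, hrun⟩, hrels⟩ := hI
  obtain ⟨-, hsub, hs2, -⟩ := inner_zero
  simp only [List.all_eq_true, Bool.and_eq_true, Nat.blt_eq, Nat.beq_eq] at hsub
  have m : Model (eCert j) H (gen8 c s r w x) := by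
    refine ⟨by rw [hK]; rfl, fun g => ?_, fun u hu => ?_, fun u hu => ?_⟩
    · rw [Cert.inv, hinv]
      rcases g with _ | _ | _ | _ | _ | _ | _ | _ | g
      · exact mul_inv_cancel c
      · exact inv_mul_cancel c
      · exact mul_inv_cancel s
      · exact inv_mul_cancel s
      · exact mul_inv_cancel r
      · exact inv_mul_cancel r
      · exact D.loc.rel.ww
      · exact x_sq D
      · simp [gen8, show ¬ g + 1 + 1 + 1 + 1 + 1 + 1 + 1 + 1 < 8 by omega]
    · rw [hrels, List.mem_append, List.mem_singleton] at hu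
      rcases hu with hu | rfl
      exacts [base8 D u hu, hrel]
    · rw [hsubs, show xSubs = xSubs.dropLast ++ [[7]] from rfl, List.mem_append, List.mem_singleton] at hu
      rcases hu with hu | rfl
      · obtain ⟨h7, h2⟩ := hsub u hu
        rw [prodW8_low D fun l hl => lt_trans (h7 l hl) (by norm_num)]
        exact word_mem_H D.setup D.loc x h7 h2
      · simpa [prodW, gen8, genX] using D.out.xH
  have hmem := mem_of_run_eq_zero (e_complete j) m (w := [2]) (by simp [hK]) hrun
  rw [show prodW (gen8 c s r w x) [2] = s by simp [prodW, gen8, genX], ← D.loc.val_s,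
    mem_H_iff D.setup D.loc (by norm_num)] at hmem
  exact hs2 hmem

end CfsgLib.HSUniq
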