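import Cfsg.Agent.Lib.HSUniq.Concrete

/-!
The concrete group maps into a group with such 2-local data, injectively.
-/

set_option autoImplicit false
set_option Elab.async false
set_option maxRecDepth 100000
set_option maxHeartbeats 1000000

namespace CfsgLib.HSUniq

open CfsgLib.CosetEnum CfsgLib.HN

attribute [local irreducible] certHS

theorem hs_same : ((certHS.rels.all fun u => u.all (fun l => Nat.blt l 8) && same8 u []) &&
    ([([0, 1], []), ([2, 3], []), ([4, 5], []), ([0, 0, 0, 0], []), ([0, 2, 0, 3], [2, 0, 3, 0]),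
      ([0, 2, 2, 0, 3, 3], [2, 2, 0, 3, 3, 0]), ([2, 2, 2, 2, 2, 2, 2], []),
      ([2, 2, 2, 0, 3, 3, 3], [0, 2, 0, 3, 2, 0, 3, 2, 0, 3, 2, 2, 0, 3, 3, 2, 2, 0, 3, 3]),
      ([6, 6], []), ([6, 0, 6], [1]), ([6, 2, 0, 3, 6], [2, 2, 0, 3, 3]), ([6, 2, 6, 2, 6, 2], []),
      ([6, 2, 2, 2, 6, 2, 2, 2, 6, 2, 2, 2, 6, 2, 2, 2], []),
      ([4], (lWords.getD gR []).map fun l => if l = 0 then 2 else 6),
      ([7, 7], []), ([7, 4], [4, 7]), ([7, 6, 7], [0, 0, 6]),
      ([7] ++ yWord false ++ [7] ++ yWord false ++ [7] ++ yWord false, [])] : List (List ℕ × List ℕ)).all (fun q =>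
      q.1.all (fun l => Nat.blt l 8) && q.2.all (fun l => Nat.blt l 8) && same8 q.1 q.2) &&
    (List.range 5).all fun j =>
      let u := [7] ++ (rGenW false).getD j [] ++ [7]
      let v := rExp false ((rWordsV false).getD (img0.getD j 0) [])
      u.all (fun l => Nat.blt l 8) && v.all (fun l => Nat.blt l 7) && Nat.blt (img0.getD j 0) 64 && same8 u v) = true := by
  decide +kernel

theorem gen8_low {P : Type*} [Group P] (c s r w x : P) {u : List ℕ} (hu : ∀ l ∈ u, l < 8) :
    prodW (gen8 c s r w x) u = prodW (genX c s r w x) u := by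
  induction u with
  | nil => rfl
  | cons l u ih =>
    rw [prodW_cons, prodW_cons, ih fun a ha => hu a (List.mem_cons_of_mem _ ha), gen8,
      if_pos (hu l List.mem_cons_self)]

theorem map_av {P Q : Type*} [Group P] [Group Q] (f : P →* Q) (c s : P) (v : ℕ) :
    f (av c s v) = av (f c) (f s) v := by
  simp [av]

theorem map_valP {P Q : Type*} [Group P] [Group Q] (f : P →* Q) (c s w : P) (p : ℕ) :
    f (valP c s w p) = valP (f c) (f s) (f w) p := by
  rw [valP, map_mul, map_av, valP, lv, lv, map_prodW]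
  congr 1
  refine congrArg List.prod (List.map_congr_left fun n _ => ?_)
  match n with
  | 0 => rfl | 1 => exact map_inv f s | 2 => rfl | n + 3 => exact map_one f

/-- the eight letters in HS -/
noncomputable abbrev cS : HSGrp := yHS 0
noncomputable abbrev sS : HSGrp := yHS 2
noncomputable abbrev rS : HSGrp := yHS 4
noncomputable abbrev wS : HSGrp := yHS 6
noncomputable abbrev xS : HSGrp := yHS 7

theorem yHS_eq (n : ℕ) : gen8 cS sS rS wS xS n = yHS n := by
  have h := hs_same
  simp only [Bool.and_eq_true, List.all_cons] at h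
  obtain ⟨⟨-, ⟨-, e0⟩, ⟨-, e1⟩, ⟨-, e2⟩, -⟩, -⟩ := h
  have i0 := eq_of_same (u := [0, 1]) (v := []) (by decide) (by decide) e0
  have i1 := eq_of_same (u := [2, 3]) (v := []) (by decide) (by decide) e1
  have i2 := eq_of_same (u := [4, 5]) (v := []) (by decide) (by decide) e2
  simp only [prodW, List.map_cons, List.map_nil, List.prod_cons, List.prod_nil, mul_one] at i0 i1 i2
  rcases n with _ | _ | _ | _ | _ | _ | _ | _ | n
  · rfl
  · exact inv_eq_of_mul_eq_one_right i0
  · rfl
  · exact inv_eq_of_mul_eq_one_right i1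
  · rfl
  · exact inv_eq_of_mul_eq_one_right i2
  · rfl
  · rfl
  · simp [gen8, yHS, show ¬ n + 1 + 1 + 1 + 1 + 1 + 1 + 1 + 1 < 8 by omega]

theorem prodW_hs {u : List ℕ} (hu : ∀ l ∈ u, l < 8) : prodW yHS u = prodW (genX cS sS rS wS xS) u := by
  rw [← gen8_low cS sS rS wS xS hu]
  exact congrArg List.prod (List.map_congr_left fun n _ => (yHS_eq n).symm)

theorem hs_rel {u v : List ℕ} (hu : ∀ l ∈ u, l < 8) (hv : ∀ l ∈ v, l < 8) (h : same8 u v = true) :
    prodW (genX cS sS rS wS xS) u = prodW (genX cS sS rS wS xS) v := by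
  rw [← prodW_hs hu, ← prodW_hs hv]; exact eq_of_same hu hv h

theorem hs_mrel : MRel cS sS rS wS := by
  have h := hs_same
  simp only [Bool.and_eq_true, List.all_cons] at h
  obtain ⟨⟨-, -, -, -, ⟨-, q4⟩, ⟨-, qa⟩, ⟨-, qb⟩, ⟨-, q7⟩, ⟨-, qc⟩, ⟨-, qw⟩, ⟨-, qwc⟩, ⟨-, qwa⟩, ⟨-, q3⟩,
    ⟨-, q44⟩, ⟨-, qr⟩, -⟩, -⟩ := h
  refine ⟨⟨⟨?_, ?_, ?_⟩, ?_, ?_, ?_, ?_, ?_⟩, ?_, ?_, ?_⟩
  · have := hs_rel (by decide) (by decide) q4
    simpa [prodW, genX, pow_succ, mul_assoc] using this
  · have := hs_rel (by decide) (by decide) qa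
    show cS * (sS * cS * sS⁻¹) = sS * cS * sS⁻¹ * cS
    simpa [prodW, genX, mul_assoc] using this
  · have := hs_rel (by decide) (by decide) qb
    show cS * (sS * (sS * cS * sS⁻¹) * sS⁻¹) = sS * (sS * cS * sS⁻¹) * sS⁻¹ * cS
    simpa [prodW, genX, mul_assoc] using this
  · have := hs_rel (by decide) (by decide) q7
    simpa [prodW, genX, pow_succ, mul_assoc] using this
  · have := hs_rel (by decide) (by decide) qc
    simpa [prodW, genX, pow_succ, mul_assoc] using this
  · have := hs_rel (by decide) (by decide) qw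
    simpa [prodW, genX, mul_assoc] using this
  · have := hs_rel (by decide) (by decide) qwc
    simpa [prodW, genX, mul_assoc] using this
  · have := hs_rel (by decide) (by decide) qwa
    simpa [prodW, genX, mul_assoc] using this
  · have := hs_rel (by decide) (by decide) q3
    simpa [prodW, genX, pow_succ, mul_assoc] using this
  · have := hs_rel (by decide) (by decide) q44
    simpa [prodW, genX, pow_succ, mul_assoc] using this
  · have := hs_rel (by decide) (by decide +kernel) qr
    rw [show prodW (genX cS sS rS wS xS) [4] = rS by simp [prodW, genX]] at this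
    rw [this, prodW, prodW, List.map_map]
    refine congrArg List.prod (List.map_congr_left fun n hn => ?_)
    rcases lWords_mem hn with rfl | rfl <;> rfl

theorem hs_xrels (hc : MHClosed) : XRels cS sS rS wS xS := by
  have h := hs_same
  simp only [Bool.and_eq_true, List.all_cons, List.all_eq_true, List.mem_range, Nat.blt_eq] at h
  obtain ⟨⟨-, -, -, -, -, -, -, -, -, -, -, -, -, -, -, ⟨-, qx⟩, ⟨-, qxr⟩, ⟨-, qxw⟩, ⟨-, qxy⟩, -⟩, hR⟩ := h
  have RR := hs_mrel
  have hxx : xS * xS = 1 := by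
    have := hs_rel (by decide) (by decide) qx
    simpa [prodW, genX] using this
  have hxi : xS⁻¹ = xS := inv_eq_of_mul_eq_one_left hxx
  refine ⟨RR, hxx, ?_, ?_, ?_, fun j hj => ?_, hc⟩
  · have := hs_rel (by decide) (by decide) qxr
    simpa [prodW, genX] using this
  · have := hs_rel (by decide) (by decide) qxw
    have e : valP cS sS wS 130 = cS * cS * wS := by
      rw [valP, lv, show lWords.getD (130 / 64) [] = [2] by decide]
      simp [av, genL, pow_two]
    rw [e, hxi]
    simpa [prodW, genX, mul_assoc] using this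
  · have := hs_rel (by decide) (by decide) qxy
    rw [(pev_spec RR xS (W := yWord false) (by decide)).2, pow_succ, pow_two]
    simpa [prodW_append, prodW, genX, mul_assoc, yWord, wWord] using this
  · obtain ⟨⟨⟨h1, h2⟩, hlt⟩, hsame⟩ := hR j hj
    obtain ⟨-, -, hchk, -⟩ := rData_ok false
    simp only [List.all_eq_true, List.mem_range, Bool.and_eq_true, Nat.beq_eq] at hchk
    have hv : valP cS sS wS (rAt false (img0.getD j 0)) =
        prodW (genX cS sS rS wS xS) (rExp false ((rWordsV false).getD (img0.getD j 0) [])) := by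
      rw [← (pev_spec RR xS h2).2, (hchk _ hlt).1.2]; rfl
    have e := hs_rel h1 (fun l hl => lt_trans (h2 l hl) (by norm_num)) hsame
    rw [hv, vr_gen (x := xS) RR hj, ← e, prodW_append, prodW_append, hxi]
    simp [prodW, genX]

theorem prodW_pair {P Q : Type*} [Group P] [Group Q] (g : ℕ → P × Q) (u : List ℕ) :
    prodW g u = (prodW (fun n => (g n).1) u, prodW (fun n => (g n).2) u) := by
  induction u with
  | nil => rfl
  | cons l u ih => rw [prodW_cons, prodW_cons, prodW_cons, ih]; rfl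

variable {G : Type*} [Group G] {t : G} {H R V M A : Subgroup G} {c s r w x : G}

theorem xrels_prod (D : HData t H R V M A c s r w x) :
    XRels ((c, cS) : G × HSGrp) (s, sS) (r, rS) (w, wS) (x, xS) := by
  have X1 := xrels D
  have X2 := hs_xrels X1.closed
  have hv : ∀ p, valP ((c, cS) : G × HSGrp) (s, sS) (w, wS) p = (valP c s w p, valP cS sS wS p) := fun p =>
    Prod.ext (map_valP (MonoidHom.fst G HSGrp) _ _ _ p) (map_valP (MonoidHom.snd G HSGrp) _ _ _ p)
  refine ⟨⟨⟨⟨Prod.ext X1.rel.c4 X2.rel.c4, Prod.ext X1.rel.com1.eq X2.rel.com1.eq, Prod.ext X1.rel.com2.eq X2.rel.com2.eq⟩,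
    Prod.ext X1.rel.s7 X2.rel.s7, Prod.ext X1.rel.cube X2.rel.cube, Prod.ext X1.rel.ww X2.rel.ww,
    Prod.ext X1.rel.wc X2.rel.wc, Prod.ext X1.rel.wa X2.rel.wa⟩, Prod.ext X1.rel.ws3 X2.rel.ws3,
    Prod.ext X1.rel.ws4 X2.rel.ws4, ?_⟩, Prod.ext X1.xx X2.xx, Prod.ext X1.xr X2.xr, ?_, ?_, fun j hj => ?_, X1.closed⟩
  · refine Prod.ext ?_ ?_
    · refine X1.rel.r_eq.trans ?_
      rw [prodW_pair]
      refine congrArg List.prod (List.map_congr_left fun n hn => ?_)
      rcases lWords_mem hn with rfl | rfl <;> rfl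
    · refine X2.rel.r_eq.trans ?_
      rw [prodW_pair]
      refine congrArg List.prod (List.map_congr_left fun n hn => ?_)
      rcases lWords_mem hn with rfl | rfl <;> rfl
  · rw [hv]; exact Prod.ext X1.xw X2.xw
  · rw [hv]; exact Prod.ext X1.xy X2.xy
  · rw [hv, hv]; exact Prod.ext (X1.xR j hj) (X2.xR j hj)

/-- The concrete group embeds, generators to generators. -/
theorem exists_embedding (D : HData t H R V M A c s r w x) :
    ∃ f : HSGrp →* G, Function.Injective f ∧ ∀ n, f (yHS n) = gen8 c s r w x n := by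
  classical
  have X := xrels_prod D
  obtain ⟨-, hK, hinv, hsubs, hN, -, -, -⟩ := e_info
  let cp : G × HSGrp := (c, cS)
  let sp : G × HSGrp := (s, sS)
  let rp : G × HSGrp := (r, rS)
  let wp : G × HSGrp := (w, wS)
  let xp : G × HSGrp := (x, xS)
  set p : ℕ → G × HSGrp := gen8 cp sp rp wp xp with hp
  have hfst : ∀ u, (prodW p u).1 = prodW (gen8 c s r w x) u := fun u => by
    show MonoidHom.fst G HSGrp (prodW p u) = _
    rw [map_prodW]; exact congrArg List.prod (List.map_congr_left fun n _ => map_gen8 _ cp sp rp wp xp n)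
  have hsnd : ∀ u, (prodW p u).2 = prodW yHS u := fun u => by
    show MonoidHom.snd G HSGrp (prodW p u) = _
    rw [map_prodW]
    exact congrArg List.prod (List.map_congr_left fun n _ => (map_gen8 _ cp sp rp wp xp n).trans (yHS_eq n))
  -- the subgroup of the model
  let K0 : Subgroup (G × HSGrp) :=
    { carrier := {g | ∃ e, HCode e ∧ valH cp sp wp xp e = g}
      one_mem' := ⟨0, ⟨by norm_num, by decide +kernel⟩, by rw [valH_low (by norm_num), valP_zero]⟩
      mul_mem' := by
        rintro _ _ ⟨e, he, rfl⟩ ⟨e', he', rfl⟩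
        exact ⟨_, (X.hmul_spec he he').1, (X.hmul_spec he he').2⟩
      inv_mem' := by
        rintro _ ⟨e, he, rfl⟩
        exact ⟨_, (X.hinv_spec he).1, (X.hinv_spec he).2⟩ }
  have hlen := mh_facts.1
  let φ : Fin 5 × Fin 1536 → K0 := fun k => ⟨valH cp sp wp xp ((k.1 : ℕ) * 10752 + mhList.getD k.2 0), _, by
    have hm : mhList.getD k.2 0 ∈ mhList := by
      rw [List.getD_eq_getElem _ _ (hlen.symm ▸ k.2.2)]; exact List.getElem_mem _
    have := (mem_mhList.1 hm).1
    have := k.1.2
    exact ⟨by omega, by rw [show ((k.1 : ℕ) * 10752 + mhList.getD k.2 0) % 10752 = mhList.getD k.2 0 by omega]; exact hm⟩,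
    rfl⟩
  have hφ : Function.Surjective φ := by
    rintro ⟨_, e, he, rfl⟩
    obtain ⟨j, hj, hje⟩ := List.getElem_of_mem he.2
    refine ⟨(⟨e / 10752, by have := he.1; omega⟩, ⟨j, hlen ▸ hj⟩), Subtype.ext ?_⟩
    show valH _ _ _ _ (e / 10752 * 10752 + mhList.getD j 0) = _
    rw [List.getD_eq_getElem _ _ hj, hje]
    congr 1; omega
  haveI : Finite K0 := Finite.of_surjective φ hφ
  have hK0 : Nat.card K0 ≤ 7680 :=
    (Nat.card_le_card_of_surjective φ hφ).trans (by rw [Nat.card_prod, Nat.card_fin, Nat.card_fin])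
  have hrels2 := hs_same
  simp only [Bool.and_eq_true, List.all_eq_true, Nat.blt_eq] at hrels2
  have m : Model certHS K0 p := by
    refine ⟨by rw [hK]; simp [hp, gen8], fun g => ?_, fun u hu => ?_, fun u hu => ?_⟩
    · rw [Cert.inv, hinv]
      rcases g with _ | _ | _ | _ | _ | _ | _ | _ | g
      · exact mul_inv_cancel cp
      · exact inv_mul_cancel cp
      · exact mul_inv_cancel sp
      · exact inv_mul_cancel sp
      · exact mul_inv_cancel rp
      · exact inv_mul_cancel rp
      · exact X.rel.ww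
      · exact X.xx
      · simp [hp, gen8, show ¬ g + 1 + 1 + 1 + 1 + 1 + 1 + 1 + 1 < 8 by omega]
    · refine Prod.ext ?_ ?_
      · rw [hfst]; exact hs_rels D u hu
      · rw [hsnd]
        obtain ⟨h8, hs⟩ := hrels2.1.1 u hu
        rw [eq_of_same h8 (by simp) hs]; rfl
    · rw [hsubs, show xSubs = xSubs.dropLast ++ [[7]] from rfl, List.mem_append, List.mem_singleton] at hu
      rcases hu with hu | rfl
      · obtain ⟨-, hsub, -, -⟩ := inner_zero
        simp only [List.all_eq_true, Bool.and_eq_true, Nat.blt_eq, Nat.beq_eq] at hsub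
        obtain ⟨h7, h2⟩ := hsub u hu
        obtain ⟨hlt, he⟩ := pev_spec X.rel xp h7
        rw [hp, gen8_low _ _ _ _ _ fun l hl => lt_trans (h7 l hl) (by norm_num), ← he]
        exact ⟨_, hcode_low (mem_mhList.2 ⟨hlt, h2⟩), valH_low hlt⟩
      · refine ⟨(0 + 1) * 10752 + 0, hcode_high (by norm_num) (mem_mhList.2 (by decide +kernel)), ?_⟩
        rw [valH_high _ _ (by norm_num), mC, valP_zero]
        simp [hp, prodW, gen8, genX]
  obtain ⟨-, hle⟩ := finite_card_le certHS_complete m 7680 hK0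
  rw [hN, hK, show 5775 * 7680 = 44352000 by norm_num] at hle
  set Ds := Subgroup.closure {y | ∃ k < 8, p k = y}
  haveI : Finite Ds := (finite_card_le certHS_complete m 7680 hK0).1 |> fun h => by rwa [hK] at h
  have hwD : ∀ u : List ℕ, (∀ k ∈ u, k < 8) → prodW p u ∈ Ds := fun u hu =>
    Subgroup.list_prod_mem _ fun y hy => by
      obtain ⟨k, hk, rfl⟩ := List.mem_map.1 hy
      exact Subgroup.subset_closure ⟨k, hu k hk, rfl⟩
  let π2 : Ds →* HSGrp := (MonoidHom.snd G HSGrp).comp Ds.subtype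
  have hs2 : Function.Surjective π2 := by
    rw [← MonoidHom.range_eq_top, eq_top_iff, ← CfsgLib.HS.closure_X, Subgroup.closure_le]
    rintro _ (rfl | rfl)
    · obtain ⟨h8, e⟩ := X_eq_word (j := 0) (by norm_num)
      exact ⟨⟨_, hwD _ h8⟩, (hsnd _).trans e⟩
    · obtain ⟨h8, e⟩ := X_eq_word (j := 1) (by norm_num)
      exact ⟨⟨_, hwD _ h8⟩, (hsnd _).trans e⟩
  have hcard : Nat.card HSGrp = 44352000 := CfsgLib.HS.natCard_G
  haveI : Finite HSGrp := finite_hs
  have hb : Function.Bijective π2 := (Nat.bijective_iff_surjective_and_card π2).2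
    ⟨hs2, le_antisymm (hle.trans hcard.ge) (Nat.card_le_card_of_surjective π2 hs2)⟩
  let e2 := MulEquiv.ofBijective π2 hb
  let f : HSGrp →* G := ((MonoidHom.fst G HSGrp).comp Ds.subtype).comp e2.symm.toMonoidHom
  have hf : ∀ n < 8, f (yHS n) = gen8 c s r w x n := by
    intro n hn
    have hm : p n ∈ Ds := Subgroup.subset_closure ⟨n, hn, rfl⟩
    have hn2 : yHS n = (p n).2 := by
      have := hsnd [n]
      simpa [prodW] using this.symm
    have : e2.symm (yHS n) = ⟨p n, hm⟩ := e2.symm_apply_eq.2 hn2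
    show ((e2.symm (yHS n) : Ds) : G × HSGrp).1 = _
    rw [this]
    have := hfst [n]
    simpa [prodW] using this
  refine ⟨f, ?_, fun n => ?_⟩
  · haveI : IsSimpleGroup HSGrp := simple_hs
    rw [← MonoidHom.ker_eq_bot_iff]
    rcases Subgroup.Normal.eq_bot_or_eq_top (MonoidHom.normal_ker f) with h | h
    · exact h
    · exfalso
      have h0 : f (yHS 0) = 1 := MonoidHom.mem_ker.1 (h ▸ Subgroup.mem_top _)
      rw [hf 0 (by norm_num)] at h0
      have h1 : c = 1 := h0
      have hc := D.loc.sq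
      rw [h1, one_mul] at hc
      have := D.setup.two
      rw [← hc, orderOf_one] at this
      norm_num at this
  · rcases Nat.lt_or_ge n 8 with hn | hn
    · exact hf n hn
    · rw [gen8, if_neg (not_lt.2 hn), yHS, if_neg (not_lt.2 hn), map_one]

end CfsgLib.HSUniq
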