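import Cfsg.Agent.Lib.HSUniq.Embed
import Cfsg.Agent.Lib.HSUniq.DataEnd

/-!
Kernel checks for the classes of involutions.
-/

set_option autoImplicit false
set_option Elab.async false
set_option maxRecDepth 100000

namespace CfsgLib.HSUniq

/-- the second involution -/
def uC : ℕ := 129

/-- the conjugating element -/
def gC : ℕ := 1472

/-- the conjugate of the central involution -/
def aC : ℕ := 40

/-- the preimage of the second involution -/
def vC : ℕ := 6550

/-- a chain of conjugations leads to the target -/
noncomputable def stepsOK : List (ℕ × ℕ) → ℕ → ℕ → Bool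
  | [], p, tgt => Nat.beq p tgt
  | (kind, g) :: st, p, tgt =>
    if kind = 0 then Nat.blt g 10752 && Nat.blt p 10752 && stepsOK st (pconj g p) tgt
    else decide (HCode g) && decide (HCode p) && stepsOK st (hconj g p) tgt

theorem code_small : pmul 1 128 = uC ∧ pconj gC 2 = aC ∧ pconj gC vC = uC ∧ pmul uC uC = 0 ∧
    (uC ∈ mhList ∧ vC ∈ mhList ∧ aC ∈ mhList ∧ gC < 10752) ∧ pmul aC uC = pmul uC aC := by decide +kernel

theorem class_ok : (classList.all fun q => stepsOK q.2.2 q.1 (if q.2.1 = 0 then 2 else uC)) = true := by
  decide +kernel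

theorem class_all : (mhList.all fun p => Nat.beq p 0 || !(Nat.beq (pmul p p) 0) ||
    classList.any fun q => Nat.beq q.1 p) = true := by decide +kernel

theorem z_ok : (zList.all fun q => stepsOK q.2.2 (if q.2.1 = 0 then q.1 else hmul q.1 uC) 2) = true := by
  decide +kernel

theorem z_all : ((List.range 5).all fun i => mhList.all fun p =>
    let e := i * 10752 + p
    !(Nat.beq (hmul e uC) (hmul uC e)) || Nat.beq e 0 || Nat.beq e uC || !(Nat.beq (hmul e e) 0) ||
      zList.any fun q => Nat.beq q.1 e) = true := by decide +kernel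

theorem no_fusion : ((List.range 5).all fun i => mhList.all fun p =>
    !(Nat.beq (hmul (i * 10752 + p) vC) (hmul uC (i * 10752 + p)))) = true := by decide +kernel

theorem au_tu_ok : stepsOK auSteps (pmul aC uC) uC = true ∧ stepsOK tuSteps (pmul 2 uC) uC = true := by
  decide +kernel

theorem three_ok : let y := threeW.getD 0 []; let z := threeW.getD 1 []
    ((y ++ z ++ [0, 6]).all (fun l => Nat.blt l 8) && same8 (y ++ y ++ y) [] && same8 (z ++ z ++ z) [] &&
      same8 (y ++ z) (z ++ y) && same8 (y ++ [0, 6]) ([0, 6] ++ y) && same8 (z ++ [0, 6]) ([0, 6] ++ z)) = true ∧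
    same8 y [] = false ∧ same8 z [] = false ∧ same8 z y = false ∧ same8 z (y ++ y) = false := by
  decide +kernel

end CfsgLib.HSUniq
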