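import Cfsg.Agent.Lib.HSUniq.EndChecks
import Cfsg.Agent.Lib.Invol.StronglyEmbedded

/-!
The image of the concrete group is the whole group.
-/

set_option autoImplicit false
set_option maxRecDepth 100000
set_option maxHeartbeats 1000000

namespace CfsgLib.HSUniq

open CfsgLib.CosetEnum CfsgLib.HN

variable {G : Type*} [Group G] {t : G} {H R V M A : Subgroup G} {c s r w x : G}
  (D : HData t H R V M A c s r w x) {K : Subgroup G}

/-- what is used about the image -/
structure Img (c s r w x : G) (K : Subgroup G) : Prop where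
  letters : ∀ n, gen8 c s r w x n ∈ K
  card : Nat.card K = 44352000

theorem Img.valP_mem (I : Img c s r w x K) (p : ℕ) : valP c s w p ∈ K := by
  have hc : c ∈ K := I.letters 0
  have hs : s ∈ K := I.letters 2
  have hw : w ∈ K := I.letters 6
  refine K.mul_mem ?_ ?_
  · unfold av
    exact K.mul_mem (K.mul_mem (K.pow_mem hc _) (K.pow_mem (K.mul_mem (K.mul_mem hs hc) (K.inv_mem hs)) _))
      (K.pow_mem (K.mul_mem (K.mul_mem hs (K.mul_mem (K.mul_mem hs hc) (K.inv_mem hs))) (K.inv_mem hs)) _)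
  · refine Subgroup.list_prod_mem _ fun z hz => ?_
    obtain ⟨l, hl, rfl⟩ := List.mem_map.1 hz
    rcases lWords_mem hl with rfl | rfl
    exacts [hs, hw]

theorem Img.valH_mem (I : Img c s r w x K) (e : ℕ) : valH c s w x e ∈ K := by
  unfold valH
  split
  · exact I.valP_mem _
  · exact K.mul_mem (K.mul_mem (I.valP_mem _) (show x ∈ K from I.letters 7)) (I.valP_mem _)

include D

theorem Img.H_le (I : Img c s r w x K) : H ≤ K := fun g hg => by
  obtain ⟨e, -, rfl⟩ := valH_surj D hg
  exact I.valH_mem e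

/-- a chain of conjugations inside the image -/
theorem steps_spec (I : Img c s r w x K) : ∀ (st : List (ℕ × ℕ)) {p tgt : ℕ}, stepsOK st p tgt = true →
    ∃ k ∈ K, k * valH c s w x p * k⁻¹ = valH c s w x tgt := by
  intro st
  induction st with
  | nil => intro p tgt h; exact ⟨1, K.one_mem, by rw [Nat.eq_of_beq_eq_true h]; group⟩
  | cons a st ih =>
    obtain ⟨kind, g⟩ := a
    intro p tgt h
    rw [stepsOK] at h
    split at h <;> simp only [Bool.and_eq_true, Nat.blt_eq, decide_eq_true_eq] at h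
    · obtain ⟨⟨hg, hp⟩, hrest⟩ := h
      obtain ⟨k, hk, e⟩ := ih hrest
      obtain ⟨hlt, he⟩ := valP_conj D.loc.rel hg hp
      refine ⟨k * valP c s w g, K.mul_mem hk (I.valP_mem g), ?_⟩
      rw [← e, valH_low hlt, valH_low hp, he]; group
    · obtain ⟨⟨hg, hp⟩, hrest⟩ := h
      obtain ⟨k, hk, e⟩ := ih hrest
      obtain ⟨-, he⟩ := hconj_spec D hg hp
      refine ⟨k * valH c s w x g, K.mul_mem hk (I.valH_mem g), ?_⟩
      rw [← e, he]; group

theorem val_t : valH c s w x 2 = t := by rw [valH_low (by norm_num)]; exact D.loc.val_two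

theorem u_facts : valP c s w uC = c * w ∧ valP c s w uC * valP c s w uC = 1 ∧ valP c s w uC ≠ 1 ∧
    valP c s w uC ∈ H ∧ valP c s w aC ∈ H ∧ valP c s w aC * valP c s w uC = valP c s w uC * valP c s w aC ∧
    valP c s w gC * t * (valP c s w gC)⁻¹ = valP c s w aC ∧
    valP c s w gC * valP c s w vC * (valP c s w gC)⁻¹ = valP c s w uC := by
  obtain ⟨hcw, ha, hv, huu, ⟨hum, hvm, ham, hg⟩, hau⟩ := code_small
  have RR := D.loc.rel
  have hul := (mem_mhList.1 hum).1
  have hal := (mem_mhList.1 ham).1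
  refine ⟨?_, ?_, fun h => ?_, (mh_val D hum).2, (mh_val D ham).2, ?_, ?_, ?_⟩
  · rw [← hcw, (valP_mul RR (by norm_num) (by norm_num)).2, D.loc.val_one, D.loc.val_w]
  · rw [← (valP_mul RR hul hul).2, huu, valP_zero]
  · have := D.loc.inj _ hul 0 (by norm_num) (by rw [h, valP_zero])
    exact absurd this (by decide)
  · rw [← (valP_mul RR hal hul).2, hau, (valP_mul RR hul hal).2]
  · rw [← D.loc.val_two, ← (valP_conj RR hg (by norm_num)).2, ha]
  · rw [← (valP_conj RR hg (mem_mhList.1 hvm).1).2, hv]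

omit D in
theorem card_centralizer_conj {a b : G} (g : G) (h : g * a * g⁻¹ = b) :
    Nat.card (Subgroup.centralizer ({a} : Set G)) = Nat.card (Subgroup.centralizer ({b} : Set G)) := by
  refine Nat.card_congr (Equiv.subtypeEquiv (MulAut.conj g).toEquiv fun z => ?_)
  rw [Subgroup.mem_centralizer_singleton_iff, Subgroup.mem_centralizer_singleton_iff, ← h]
  show _ ↔ g * z * g⁻¹ * (g * a * g⁻¹) = g * a * g⁻¹ * (g * z * g⁻¹)
  constructor
  · intro h'
    calc g * z * g⁻¹ * (g * a * g⁻¹) = g * (z * a) * g⁻¹ := by group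
      _ = _ := by rw [h']; group
  · intro h'
    calc z * a = g⁻¹ * (g * z * g⁻¹ * (g * a * g⁻¹)) * g := by group
      _ = _ := by rw [h']; group

theorem t_not_u [Finite G] {f : HSGrp →* G} (hf : Function.Injective f)
    (hgen : ∀ n, f (yHS n) = gen8 c s r w x n) (g : G) : g * t * g⁻¹ ≠ valP c s w uC := by
  classical
  intro h
  obtain ⟨h3, n1, n2, n3, n4⟩ := three_ok
  simp only [Bool.and_eq_true, List.all_eq_true, Nat.blt_eq] at h3
  set y := threeW.getD 0 [] with hy
  set z := threeW.getD 1 [] with hz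
  obtain ⟨⟨⟨⟨⟨hlt, q1⟩, q2⟩, q3⟩, q4⟩, q5⟩ := h3
  have ly : ∀ l ∈ y, l < 8 := fun l hl => hlt l (by simp [hl])
  have lz : ∀ l ∈ z, l < 8 := fun l hl => hlt l (by simp [hl])
  have l0 : ∀ l ∈ ([0, 6] : List ℕ), l < 8 := by decide
  have app : ∀ {a b : List ℕ}, (∀ l ∈ a, l < 8) → (∀ l ∈ b, l < 8) → ∀ l ∈ a ++ b, l < 8 := fun ha hb l hl =>
    (List.mem_append.1 hl).elim (ha l) (hb l)
  have nil8 : ∀ l ∈ ([] : List ℕ), l < 8 := by simp
  have ey := eq_of_same (app (app ly ly) ly) nil8 q1
  have ez := eq_of_same (app (app lz lz) lz) nil8 q2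
  have eyz := eq_of_same (app ly lz) (app lz ly) q3
  have eyu := eq_of_same (app ly l0) (app l0 ly) q4
  have ezu := eq_of_same (app lz l0) (app l0 lz) q5
  simp only [prodW_append, prodW_nil] at ey ez eyz eyu ezu
  have hne : ∀ {a b : List ℕ}, (∀ l ∈ a, l < 8) → (∀ l ∈ b, l < 8) → same8 a b = false →
      f (prodW yHS a) ≠ f (prodW yHS b) := fun ha hb he e => by
    rw [same_of_eq ha hb (hf e)] at he
    exact Bool.noConfusion he
  set Y := f (prodW yHS y) with hY
  set Z := f (prodW yHS z) with hZ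
  have Y3 : Y * Y * Y = 1 := by rw [hY, ← map_mul, ← map_mul, ey, map_one]
  have Z3 : Z * Z * Z = 1 := by rw [hZ, ← map_mul, ← map_mul, ez, map_one]
  have YZ : Y * Z = Z * Y := by rw [hY, hZ, ← map_mul, eyz, map_mul]
  have Y1 : Y ≠ 1 := fun e => hne ly nil8 n1 (by rw [← hY, e]; simp)
  have Z1 : Z ≠ 1 := fun e => hne lz nil8 n2 (by rw [← hZ, e]; simp)
  have ZY : Z ≠ Y := hne lz ly n3
  have ZYY : Z ≠ Y * Y := fun e => hne lz (app ly ly) n4 (by rw [← hZ, e, prodW_append, map_mul])
  have hu : f (prodW yHS [0, 6]) = valP c s w uC := by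
    rw [(u_facts D).1]; simp [prodW, hgen, gen8, genX]
  set C := Subgroup.centralizer ({valP c s w uC} : Set G) with hC
  have hYC : Y ∈ C := Subgroup.mem_centralizer_singleton_iff.2 (by rw [hY, ← hu, ← map_mul, eyu, map_mul])
  have hZC : Z ∈ C := Subgroup.mem_centralizer_singleton_iff.2 (by rw [hZ, ← hu, ← map_mul, ezu, map_mul])
  let φ : Fin 3 × Fin 3 → C := fun q => ⟨Y ^ (q.1 : ℕ) * Z ^ (q.2 : ℕ), C.mul_mem (C.pow_mem hYC _) (C.pow_mem hZC _)⟩
  let Q : Subgroup C := Subgroup.closure (Set.range φ)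
  haveI : Fact (Nat.Prime 3) := ⟨by norm_num⟩
  have oY : orderOf Y = 3 := orderOf_eq_prime (by rw [← Y3]; simp [pow_succ]) Y1
  have oZ : orderOf Z = 3 := orderOf_eq_prime (by rw [← Z3]; simp [pow_succ]) Z1
  let ψ : Subgroup.zpowers (⟨Y, hYC⟩ : C) × Subgroup.zpowers (⟨Z, hZC⟩ : C) →* C :=
    MonoidHom.noncommCoprod (Subgroup.zpowers _).subtype (Subgroup.zpowers _).subtype fun a b => by
      obtain ⟨i, hi⟩ := Subgroup.mem_zpowers_iff.1 a.2
      obtain ⟨j, hj⟩ := Subgroup.mem_zpowers_iff.1 b.2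
      show Commute (a : C) (b : C)
      rw [← hi, ← hj]
      exact ((show Commute (⟨Y, hYC⟩ : C) ⟨Z, hZC⟩ from Subtype.ext YZ).zpow_left i).zpow_right j
  have hψ : Function.Injective ψ := by
    rw [injective_iff_map_eq_one]
    rintro ⟨⟨a, ha⟩, ⟨b, hb⟩⟩ hab
    have hab' : a * b = 1 := hab
    obtain ⟨i, hi, rfl⟩ : ∃ i < 3, (⟨Z, hZC⟩ : C) ^ i = b := by
      obtain ⟨i, hi⟩ := (IsOfFinOrder.mem_zpowers_iff_mem_range_orderOf (isOfFinOrder_of_finite _)).1 hb |>
        Finset.mem_image.1
      rw [Finset.mem_range, Subgroup.orderOf_mk, oZ] at hi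
      exact ⟨i, hi.1, hi.2⟩
    obtain ⟨j, hj, rfl⟩ : ∃ j < 3, (⟨Y, hYC⟩ : C) ^ j = a := by
      obtain ⟨i, hi⟩ := (IsOfFinOrder.mem_zpowers_iff_mem_range_orderOf (isOfFinOrder_of_finite _)).1 ha |>
        Finset.mem_image.1
      rw [Finset.mem_range, Subgroup.orderOf_mk, oY] at hi
      exact ⟨i, hi.1, hi.2⟩
    have e : Y ^ j * Z ^ i = 1 := congrArg Subtype.val hab'
    interval_cases i <;> interval_cases j <;> simp only [pow_zero, pow_one, pow_two, mul_one, one_mul] at e
    · simp
    · exact absurd e Y1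
    · exact absurd (mul_eq_left.1 (show Y * Y * Y = Y * Y from Y3.trans e.symm)) Y1
    · exact absurd e Z1
    · exact absurd ((mul_right_inj Y).1 (e.trans (show (1 : G) = Y * (Y * Y) by rw [← mul_assoc, Y3]))) ZYY
    · exact absurd ((mul_right_inj (Y * Y)).1 (e.trans (show (1 : G) = Y * Y * Y from Y3.symm))) ZY
    · exact absurd (mul_eq_left.1 (show Z * Z * Z = Z * Z from Z3.trans e.symm)) Z1
    · exfalso
      have : Y = Z := by
        calc Y = Y * (Z * Z * Z) := by rw [Z3, mul_one]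
          _ = Y * (Z * Z) * Z := by group
          _ = Z := by rw [e, one_mul]
      exact ZY this.symm
    · exfalso
      have : Y * Y = Z := by
        calc Y * Y = Y * Y * (Z * Z * Z) := by rw [Z3, mul_one]
          _ = Y * Y * (Z * Z) * Z := by group
          _ = Z := by rw [e, one_mul]
      exact ZYY this.symm
  have h9 : 9 ∣ Nat.card C := by
    have := Subgroup.card_subgroup_dvd_card ψ.range
    rwa [← Nat.card_congr (MonoidHom.ofInjective hψ).toEquiv, Nat.card_prod, Nat.card_zpowers, Nat.card_zpowers,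
      Subgroup.orderOf_mk, Subgroup.orderOf_mk, oY, oZ] at this
  rw [hC, ← card_centralizer_conj g h] at h9
  have hH : Subgroup.centralizer ({t} : Set G) = H := by
    ext z; rw [Subgroup.mem_centralizer_singleton_iff, D.setup.hH]
  rw [hH, D.setup.cardH] at h9
  norm_num at h9

theorem classify [Finite G] (I : Img c s r w x K) {y : G} (hy : y ∈ K) (h2 : orderOf y = 2) :
    ∃ k ∈ K, k * y * k⁻¹ = t ∨ k * y * k⁻¹ = valP c s w uC := by
  classical
  haveI : Fact (Nat.Prime 2) := ⟨Nat.prime_two⟩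
  have hlen := mh_facts.1
  have hget : ∀ j : Fin 1536, mhList.getD j 0 ∈ mhList := fun j => by
    rw [List.getD_eq_getElem _ _ (hlen.symm ▸ j.2)]; exact List.getElem_mem _
  have hMH : ∀ p ∈ mhList, valP c s w p ∈ M ⊓ H := fun p hp =>
    ⟨(D.loc.valM _).2 ⟨p, (mem_mhList.1 hp).1, rfl⟩, (mh_val D hp).2⟩
  let φ : Fin 1536 → (M ⊓ H : Subgroup G) := fun j => ⟨_, hMH _ (hget j)⟩
  have hφ : Function.Injective φ := fun i j h => by
    have := D.loc.inj _ (mem_mhList.1 (hget i)).1 _ (mem_mhList.1 (hget j)).1 (congrArg Subtype.val h)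
    rw [List.getD_eq_getElem _ _ (hlen.symm ▸ i.2), List.getD_eq_getElem _ _ (hlen.symm ▸ j.2)] at this
    exact Fin.ext (mhList_nodup.getElem_inj_iff.1 this)
  have hcard : Nat.card (M ⊓ H : Subgroup G) = 1536 := by
    refine le_antisymm ?_ (by simpa using Nat.card_le_card_of_injective φ hφ)
    have d1 := Subgroup.card_dvd_of_le (inf_le_left : M ⊓ H ≤ M)
    have d2 := Subgroup.card_dvd_of_le (inf_le_right : M ⊓ H ≤ H)
    rw [D.setup.cardM] at d1; rw [D.setup.cardH] at d2
    exact Nat.le_of_dvd (by norm_num) (by simpa using Nat.dvd_gcd d1 d2)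
  obtain ⟨P0, hP0⟩ := Sylow.exists_subgroup_card_pow_prime (G := (M ⊓ H : Subgroup G)) 2 (n := 9)
    (by rw [hcard]; norm_num)
  set P : Subgroup G := P0.map (M ⊓ H : Subgroup G).subtype with hPdef
  have hPle : P ≤ M ⊓ H := Subgroup.map_subtype_le _
  have hPK : P ≤ K := hPle.trans (inf_le_right.trans (I.H_le D))
  have hPcard : Nat.card (P.subgroupOf K) = 2 ^ 9 := by
    rw [Nat.card_congr (Subgroup.subgroupOfEquivOfLe hPK).toEquiv, hPdef,
      Subgroup.card_map_of_injective (Subgroup.subtype_injective _), hP0]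
  have hfac : (Nat.card K).factorization 2 = 9 := by
    rw [I.card, show (44352000 : ℕ) = 2 ^ 9 * 86625 by norm_num, Nat.factorization_mul (by norm_num) (by norm_num),
      Finsupp.add_apply, Nat.Prime.factorization_pow Nat.prime_two, Finsupp.single_eq_same,
      Nat.factorization_eq_zero_of_not_dvd (by norm_num : ¬ 2 ∣ 86625)]
  let S1 : Sylow 2 K := Sylow.ofCard (P.subgroupOf K) (by rw [hPcard, hfac])
  have hyp : IsPGroup 2 (Subgroup.zpowers (⟨y, hy⟩ : K)) := IsPGroup.of_card (n := 1) (by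
    rw [Nat.card_zpowers, Subgroup.orderOf_mk, h2, pow_one])
  obtain ⟨S2, hS2⟩ := hyp.exists_le_sylow
  obtain ⟨k, hk⟩ := MulAction.exists_smul_eq K S2 S1
  have hky : k * ⟨y, hy⟩ * k⁻¹ ∈ (S1 : Subgroup K) := by
    rw [← hk, Sylow.coe_subgroup_smul, Subgroup.mem_pointwise_smul_iff_inv_smul_mem]
    simpa [MulAut.smul_def, mul_assoc] using hS2 (Subgroup.mem_zpowers _)
  rw [Sylow.coe_ofCard, Subgroup.mem_subgroupOf] at hky
  obtain ⟨hkM, hkH⟩ := hPle hky
  obtain ⟨p, hp, hpe⟩ := (D.loc.valM _).1 hkM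
  have hpH : p ∈ mhList := mem_mhList.2 ⟨hp, (mem_H_iff D.setup D.loc hp).1 (hpe ▸ hkH)⟩
  have hyy : y * y = 1 := by rw [← pow_two, ← h2, pow_orderOf_eq_one]
  have hpe' : valP c s w p = (k : G) * y * (k : G)⁻¹ := hpe
  have hc := List.all_eq_true.1 class_all p hpH
  simp only [Bool.or_eq_true, Bool.not_eq_true', List.any_eq_true, Nat.beq_eq] at hc
  obtain ⟨q, hq, hqp⟩ : ∃ q ∈ classList, q.1 = p := by
    rcases hc with (h0 | hsq) | h
    · exfalso
      rw [h0, valP_zero] at hpe'
      have : y = 1 := by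
        calc y = (k : G)⁻¹ * ((k : G) * y * (k : G)⁻¹) * k := by group
          _ = 1 := by rw [← hpe']; group
      rw [this, orderOf_one] at h2
      norm_num at h2
    · exfalso
      refine Nat.ne_of_beq_eq_false hsq (D.loc.inj _ (valP_mul D.loc.rel hp hp).1 0 (by norm_num) ?_)
      rw [(valP_mul D.loc.rel hp hp).2, hpe', valP_zero]
      calc _ = (k : G) * (y * y) * (k : G)⁻¹ := by group
        _ = 1 := by rw [hyy]; group
    · exact h
  obtain ⟨k', hk', hke⟩ := steps_spec D I q.2.2 (List.all_eq_true.1 class_ok q hq)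
  refine ⟨k' * k, K.mul_mem hk' k.2, ?_⟩
  rw [hqp, valH_low hp, hpe'] at hke
  split at hke
  · left; rw [← val_t D, ← hke]; group
  · right; rw [← valH_low (x := x) (c := c) (s := s) (w := w) (show uC < 10752 by decide), ← hke]; group

theorem top_of_img [Finite G] (I : Img c s r w x K) (htu : ∀ g : G, g * t * g⁻¹ ≠ valP c s w uC) : K = ⊤ := by
  classical
  obtain ⟨-, huu, hu1, huH, haH, hau, hgt, hgv⟩ := u_facts D
  obtain ⟨-, -, -, -, ⟨hum, hvm, ham, -⟩, -⟩ := code_small
  set u := valP c s w uC with hu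
  set a := valP c s w aC with ha
  set g := valP c s w gC with hg
  have ht2 : t * t = 1 := by rw [← pow_two, ← D.setup.two, pow_orderOf_eq_one]
  have hHK := I.H_le D
  have hut : u * t = t * u := (D.setup.hH u).1 huH
  have hat : a * t = t * a := (D.setup.hH a).1 haH
  have conjU : ∀ {y : G} {k : G}, k * y * k⁻¹ = u → ∀ h : G, h * t * h⁻¹ ≠ y := fun {y k} hk h he =>
    htu (k * h) (by rw [← hk, ← he]; group)
  obtain ⟨hauS, htuS⟩ := au_tu_ok
  have hul := (mem_mhList.1 hum).1
  have htu' : ∀ h : G, h * t * h⁻¹ ≠ t * u := by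
    obtain ⟨k, -, hk⟩ := steps_spec D I _ htuS
    obtain ⟨hlt, he⟩ := valP_mul D.loc.rel (show 2 < 10752 by norm_num) hul
    rw [valH_low hlt, valH_low hul, he, D.loc.val_two, ← hu] at hk
    exact conjU hk
  have hau' : ∀ h : G, h * t * h⁻¹ ≠ a * u := by
    obtain ⟨k, -, hk⟩ := steps_spec D I _ hauS
    obtain ⟨hlt, he⟩ := valP_mul D.loc.rel (mem_mhList.1 ham).1 hul
    rw [valH_low hlt, valH_low hul, he, ← hu, ← ha] at hk
    exact conjU hk
  -- the centralizer of the second involution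
  have hCu : ∀ d : G, d * u = u * d → d ∈ K := by
    intro d hd
    have hdu : d * u * d⁻¹ = u := by rw [hd, mul_inv_cancel_right]
    have hdi : d⁻¹ * u = u * d⁻¹ := by
      calc d⁻¹ * u = d⁻¹ * (u * d) * d⁻¹ := by group
        _ = u * d⁻¹ := by rw [← hd]; group
    set b := d * a * d⁻¹ with hb
    have hbu : b * u = u * b := by
      calc b * u = d * a * (d⁻¹ * u) := by rw [hb]; group
        _ = d * (a * u) * d⁻¹ := by rw [hdi]; group
        _ = d * u * a * d⁻¹ := by rw [hau]; group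
        _ = u * b := by rw [hd, hb]; group
    have haa : a * a = 1 := by
      rw [← hgt]
      calc g * t * g⁻¹ * (g * t * g⁻¹) = g * (t * t) * g⁻¹ := by group
        _ = 1 := by rw [ht2]; group
    have hbb : b * b = 1 := by
      calc b * b = d * (a * a) * d⁻¹ := by rw [hb]; group
        _ = 1 := by rw [haa]; group
    have hbt : ∀ h : G, h * t * h⁻¹ ≠ b * u := fun h he => hau' (d⁻¹ * h) (by
      calc d⁻¹ * h * t * (d⁻¹ * h)⁻¹ = d⁻¹ * (h * t * h⁻¹) * d := by group
        _ = d⁻¹ * (d * a * (d⁻¹ * u)) * d := by rw [he, hb]; group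
        _ = a * u := by rw [hdi]; group)
    -- no element of the centralizer of u carries t to b
    have hno : ∀ e : G, e * u = u * e → e * t * e⁻¹ ≠ b := by
      intro e he hb'
      set h := e⁻¹ * d * g with hh
      have hht : h * t * h⁻¹ = t := by
        calc h * t * h⁻¹ = e⁻¹ * (d * (g * t * g⁻¹) * d⁻¹) * e := by rw [hh]; group
          _ = e⁻¹ * b * e := by rw [hgt]
          _ = t := by rw [← hb']; group
      have hhH : h ∈ H := (D.setup.hH h).2 (mul_inv_eq_iff_eq_mul.1 hht)
      have hhv : h * valP c s w vC * h⁻¹ = u := by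
        calc h * valP c s w vC * h⁻¹ = e⁻¹ * (d * (g * valP c s w vC * g⁻¹) * d⁻¹) * e := by rw [hh]; group
          _ = e⁻¹ * (u * e) := by rw [hgv, hdu, mul_assoc]
          _ = u := by rw [← he]; group
      obtain ⟨code, hcode, hval⟩ := valH_surj D hhH
      have hn := no_fusion
      simp only [List.all_eq_true, List.mem_range, Bool.not_eq_true'] at hn
      have hne := Nat.ne_of_beq_eq_false (hn (code / 10752) (by have := hcode.1; omega) (code % 10752) hcode.2)
      rw [show code / 10752 * 10752 + code % 10752 = code by omega] at hne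
      obtain ⟨m1, e1⟩ := hmul_spec D hcode (hcode_low hvm)
      obtain ⟨m2, e2⟩ := hmul_spec D (hcode_low hum) hcode
      refine hne (valH_inj D m1 m2 ?_)
      rw [e1, e2, hval, valH_low (mem_mhList.1 hvm).1, valH_low hul]
      exact mul_inv_eq_iff_eq_mul.1 hhv
    set q := b * t with hq
    have hqu : q * u = u * q := by
      calc q * u = b * (t * u) := by rw [hq]; group
        _ = b * (u * t) := by rw [hut]
        _ = b * u * t := by group
        _ = _ := by rw [hbu, hq]; group
    have htq : t * q * t = q⁻¹ := by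
      rw [hq, mul_inv_rev, inv_eq_of_mul_eq_one_left ht2, inv_eq_of_mul_eq_one_left hbb]
      calc t * (b * t) * t = t * b * (t * t) := by group
        _ = t * b := by rw [ht2, mul_one]
    have htqn : ∀ j : ℕ, t * q ^ j * t = (q ^ j)⁻¹ := fun j => by
      induction j with
      | zero => simp [ht2]
      | succ j ih =>
        calc t * q ^ (j + 1) * t = t * q ^ j * (t * t) * q * t := by rw [ht2, mul_one, pow_succ]; group
          _ = (t * q ^ j * t) * (t * q * t) := by group
          _ = (q ^ j)⁻¹ * q⁻¹ := by rw [ih, htq]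
          _ = (q ^ (j + 1))⁻¹ := by rw [pow_succ' q j, mul_inv_rev q (q ^ j)]
    have hconj : ∀ j : ℕ, q ^ j * t * (q ^ j)⁻¹ = q ^ (j + j) * t := fun j => by
      calc q ^ j * t * (q ^ j)⁻¹ = q ^ j * t * (t * q ^ j * t) := by rw [htqn]
        _ = q ^ j * (t * t) * q ^ j * t := by group
        _ = _ := by rw [ht2, mul_one, ← pow_add]
    have hqt : q * t = b := by rw [hq, mul_assoc, ht2, mul_one]
    set n := orderOf q with hn
    have hn0 : 0 < n := orderOf_pos q
    obtain ⟨z, hzu, hzt, hzb, hzz, hz1, hzne⟩ : ∃ z, z * u = u * z ∧ z * t = t * z ∧ z * b = b * z ∧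
        z * z = 1 ∧ z ≠ 1 ∧ z ≠ u := by
      rcases Nat.even_or_odd' n with ⟨m, hm | hm⟩
      swap
      · exfalso
        refine hno (q ^ (m + 1)) ((show Commute q u from hqu).pow_left _) ?_
        rw [hconj, show m + 1 + (m + 1) = n + 1 by omega, pow_succ, hn, pow_orderOf_eq_one, one_mul, hqt]
      set z := q ^ m with hzdef
      have hzz : z * z = 1 := by rw [hzdef, ← pow_add, show m + m = n by omega, hn, pow_orderOf_eq_one]
      by_cases hzu : z = u
      · exfalso
        rcases Nat.even_or_odd' m with ⟨l, hl | hl⟩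
        · refine htu' (q ^ l)⁻¹ ?_
          rw [inv_inv]
          calc (q ^ l)⁻¹ * t * q ^ l = t * q ^ l * (t * t) * q ^ l := by rw [← htqn]; group
            _ = t * z := by rw [ht2, mul_one, mul_assoc, ← pow_add, hzdef, hl]; ring_nf
            _ = t * u := by rw [hzu]
        · refine hbt (q ^ (l + 1)) ?_
          rw [hconj, show l + 1 + (l + 1) = m + 1 by omega, pow_succ, ← hzdef, hzu, mul_assoc, hqt, hbu]
      refine ⟨z, (show Commute q u from hqu).pow_left _, ?_, ?_, hzz, fun h => ?_, hzu⟩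
      · have h1 := htqn m
        rw [← hzdef, inv_eq_of_mul_eq_one_left hzz] at h1
        calc z * t = t * z * (t * t) := by rw [← mul_assoc, h1]
          _ = t * z := by rw [ht2, mul_one]
      · rw [← hqt]
        have h1 := htqn m
        rw [← hzdef, inv_eq_of_mul_eq_one_left hzz] at h1
        have hzt : z * t = t * z := by
          calc z * t = t * z * (t * t) := by rw [← mul_assoc, h1]
            _ = t * z := by rw [ht2, mul_one]
        calc z * (q * t) = z * q * t := by group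
          _ = q * (z * t) := by
              rw [show z * q = q * z from ((Commute.refl q).pow_left m).eq]; group
          _ = q * t * z := by rw [hzt]; group
      · have := Nat.le_of_dvd (by omega) (orderOf_dvd_of_pow_eq_one (show q ^ m = 1 from h))
        omega
    obtain ⟨code, hcode, hval⟩ := valH_surj D ((D.setup.hH z).2 hzt)
    have hz := z_all
    simp only [List.all_eq_true, List.mem_range, Bool.or_eq_true, Bool.not_eq_true', List.any_eq_true,
      Nat.beq_eq] at hz
    have h5 : code / 10752 < 5 := by have := hcode.1; omega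
    have hcd : code / 10752 * 10752 + code % 10752 = code := by omega
    have hzc := hz (code / 10752) h5 (code % 10752) hcode.2
    rw [hcd] at hzc
    obtain ⟨m1, e1⟩ := hmul_spec D hcode (hcode_low hum)
    obtain ⟨m2, e2⟩ := hmul_spec D (hcode_low hum) hcode
    obtain ⟨m3, e3⟩ := hmul_spec D hcode hcode
    have hv0 : valH c s w x 0 = 1 := by rw [valH_low (by norm_num), valP_zero]
    have h0 : HCode 0 := hcode_low (mem_mhList.2 (by decide +kernel))
    obtain ⟨qz, hqz, hqe⟩ : ∃ qz ∈ zList, qz.1 = code := by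
      rcases hzc with (((h | h) | h) | h) | h
      · refine absurd (valH_inj D m1 m2 ?_) (Nat.ne_of_beq_eq_false h)
        rw [e1, e2, hval, valH_low hul]; exact hzu
      · exact absurd (by rw [← hval, h, hv0]) hz1
      · exact absurd (by rw [← hval, h, valH_low hul]) hzne
      · refine absurd (valH_inj D m3 h0 ?_) (Nat.ne_of_beq_eq_false h)
        rw [e3, hval, hv0, hzz]
      · exact h
    obtain ⟨k, hk, hke⟩ := steps_spec D I qz.2.2 (List.all_eq_true.1 z_ok qz hqz)
    have hbz : ∀ z' : G, k * z' * k⁻¹ = t → z' * b = b * z' → b ∈ K := by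
      intro z' hk' hc
      have : k * b * k⁻¹ ∈ K := hHK ((D.setup.hH _).2 (by
        rw [← hk']
        calc k * b * k⁻¹ * (k * z' * k⁻¹) = k * (b * z') * k⁻¹ := by group
          _ = _ := by rw [← hc]; group))
      have e : b = k⁻¹ * (k * b * k⁻¹) * k := by group
      rw [e]; exact K.mul_mem (K.mul_mem (K.inv_mem hk) this) hk
    have hbK : b ∈ K := by
      rw [hqe, val_t D] at hke
      split at hke
      · exact hbz z (by rw [← hval]; exact hke) hzb
      · refine hbz (z * u) (by rw [e1, valH_low hul, hval] at hke; exact hke) ?_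
        calc z * u * b = z * (b * u) := by rw [hbu]; group
          _ = z * b * u := by group
          _ = b * (z * u) := by rw [hzb]; group
    have hb1 : b ≠ 1 := fun h => by
      have : t = 1 := by
        calc t = (d * g)⁻¹ * (d * (g * t * g⁻¹) * d⁻¹) * (d * g) := by group
          _ = 1 := by rw [hgt, ← hb, h]; group
      exact absurd (this ▸ D.setup.two) (by simp)
    haveI : Fact (Nat.Prime 2) := ⟨Nat.prime_two⟩
    obtain ⟨k', hk', hcase⟩ := classify D I hbK (orderOf_eq_prime (by rw [pow_two, hbb]) hb1)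
    have hke' : k' * b * k'⁻¹ = t := by
      rcases hcase with h | h
      · exact h
      · refine absurd ?_ (htu (k' * d * g))
        calc k' * d * g * t * (k' * d * g)⁻¹ = k' * (d * (g * t * g⁻¹) * d⁻¹) * k'⁻¹ := by group
          _ = k' * b * k'⁻¹ := by rw [hgt]
          _ = _ := h
    have hin : k' * d * g ∈ K := hHK ((D.setup.hH _).2 (mul_inv_eq_iff_eq_mul.1 (by
      calc k' * d * g * t * (k' * d * g)⁻¹ = k' * (d * (g * t * g⁻¹) * d⁻¹) * k'⁻¹ := by group
        _ = k' * b * k'⁻¹ := by rw [hgt]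
        _ = t := hke')))
    have e : d = k'⁻¹ * (k' * d * g) * g⁻¹ := by group
    rw [e]
    exact K.mul_mem (K.mul_mem (K.inv_mem hk') hin) (K.inv_mem (I.valP_mem gC))
  -- strong embedding
  by_contra hne
  have htK : t ∈ K := hHK ((D.setup.hH t).2 rfl)
  have heven : Even (Nat.card K) := by rw [I.card]; decide
  haveI : Fact (Nat.Prime 2) := ⟨Nat.prime_two⟩
  have hou : orderOf u = 2 := orderOf_eq_prime (by rw [pow_two, huu]) hu1
  have hCK : ∀ y ∈ K, orderOf y = 2 → Subgroup.centralizer ({y} : Set G) ≤ K := by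
    intro y hy h2 z hz
    replace hz := Subgroup.mem_centralizer_singleton_iff.1 hz
    obtain ⟨k, hk, hcase⟩ := classify D I hy h2
    have : k * z * k⁻¹ ∈ K := by
      have hz' : k * z * k⁻¹ * (k * y * k⁻¹) = k * y * k⁻¹ * (k * z * k⁻¹) := by
        calc _ = k * (z * y) * k⁻¹ := by group
          _ = _ := by rw [hz]; group
      rcases hcase with h | h <;> rw [h] at hz'
      · exact hHK ((D.setup.hH _).2 hz')
      · exact hCu _ hz'
    have e : z = k⁻¹ * (k * z * k⁻¹) * k := by group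
    rw [e]; exact K.mul_mem (K.mul_mem (K.inv_mem hk) this) hk
  have hSE : Cfsg.IsStronglyEmbedded K := by
    refine (CfsgLib.Invol.strongly_iff_centralizer_fusion hne heven).2 ⟨hCK, ?_⟩
    intro y hy y' hy' h2 h2' hconj
    obtain ⟨h, hh⟩ := isConj_iff.1 hconj
    obtain ⟨k, hk, hcase⟩ := classify D I hy h2
    obtain ⟨k', hk', hcase'⟩ := classify D I hy' h2'
    suffices heq : k * y * k⁻¹ = k' * y' * k'⁻¹ from
      ⟨k'⁻¹ * k, K.mul_mem (K.inv_mem hk') hk, by
        calc k'⁻¹ * k * y * (k'⁻¹ * k)⁻¹ = k'⁻¹ * (k * y * k⁻¹) * k' := by group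
          _ = y' := by rw [heq]; group⟩
    rcases hcase with e | e <;> rcases hcase' with e' | e' <;> rw [e, e']
    · refine absurd ?_ (htu (k' * h * k⁻¹))
      calc k' * h * k⁻¹ * t * (k' * h * k⁻¹)⁻¹ = k' * h * k⁻¹ * (k * y * k⁻¹) * (k' * h * k⁻¹)⁻¹ := by rw [e]
        _ = k' * (h * y * h⁻¹) * k'⁻¹ := by group
        _ = _ := by rw [hh]; exact e'
    · refine absurd ?_ (htu (k * h⁻¹ * k'⁻¹))
      calc k * h⁻¹ * k'⁻¹ * t * (k * h⁻¹ * k'⁻¹)⁻¹
          = k * h⁻¹ * k'⁻¹ * (k' * y' * k'⁻¹) * (k * h⁻¹ * k'⁻¹)⁻¹ := by rw [e']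
        _ = k * (h⁻¹ * (h * y * h⁻¹) * h) * k⁻¹ := by rw [hh]; group
        _ = k * y * k⁻¹ := by group
        _ = _ := e
  obtain ⟨h, hh⟩ := isConj_iff.1 (CfsgLib.Invol.strongly_isConj hSE D.setup.two hou)
  exact htu h hh

end CfsgLib.HSUniq
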