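import Cfsg.Agent.Lib.HSUniq.Normalize
import Cfsg.Agent.Lib.HSUniq.DataH

/-!
A computable model of the centralizer of the involution.
-/

set_option autoImplicit false
set_option Elab.async false
set_option maxRecDepth 100000

namespace CfsgLib.HSUniq

open CfsgLib.CosetEnum

/-- the image of the canonical parameters -/
def img0 : List ℕ := thImgs.getD 0 []

/-- the code of the conjugate involution -/
def yC : ℕ := 180

/-- representatives of the four classes in the 2-local part -/
def mC : ℕ → ℕ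
  | 0 => 0 | 1 => yC | 2 => 10534 | _ => 8378

/-- the element of an index in the subgroup normalized by the outer element -/
noncomputable def k0C (q : ℕ) : ℕ :=
  pmul (pmul (rAt false (q / 6)) (pev (List.replicate (q % 6 / 2) 4))) (if q % 2 = 0 then 0 else 128)

/-- its image -/
noncomputable def thC (q : ℕ) : ℕ :=
  pmul (pmul (rAt false (fimg false img0 (q / 6))) (pev (List.replicate (q % 6 / 2) 4))) (if q % 2 = 0 then 0 else 130)

/-- left multiplication by an element of the 2-local part -/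
noncomputable def lmulM (g e : ℕ) : ℕ :=
  if e < 10752 then pmul g e else
    let d := decT.at' 16 (pmul g (mC (e / 10752 - 1)))
    (d / 384 + 1) * 10752 + pmul (thK.at' 16 (d % 384)) (e % 10752)

/-- left multiplication by the outer element -/
noncomputable def lmulX (e : ℕ) : ℕ :=
  if e < 10752 then 10752 + e else if e < 21504 then e - 10752 else
    e / 10752 * 10752 + pmul yC (e % 10752)

/-- the product in the model -/
noncomputable def hmul (e f : ℕ) : ℕ :=
  if e < 10752 then lmulM e f else lmulM (mC (e / 10752 - 1)) (lmulX (lmulM (e % 10752) f))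

/-- the inverse in the model -/
noncomputable def hinv (e : ℕ) : ℕ :=
  if e < 10752 then pinv e else lmulM (pinv (e % 10752)) (lmulX (pinv (mC (e / 10752 - 1))))

/-- conjugation in the model -/
noncomputable def hconj (g e : ℕ) : ℕ := hmul (hmul g e) (hinv g)

/-- the value of a code -/
def valH {G : Type*} [Group G] (c s w x : G) (e : ℕ) : G :=
  if e < 10752 then valP c s w e else valP c s w (mC (e / 10752 - 1)) * x * valP c s w (e % 10752)

/-- the codes of the model -/
def HCode (e : ℕ) : Prop := e < 53760 ∧ e % 10752 ∈ mhList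

instance (e : ℕ) : Decidable (HCode e) := inferInstanceAs (Decidable (_ ∧ _))

theorem mh_filter : (List.range 10752).filter (fun p => Nat.beq (pconj p 2) 2) = mhList := by decide +kernel

theorem mh_facts : mhList.length = 1536 ∧
    (mhList.all fun u => Nat.blt (decT.at' 16 u) 1536 &&
      Nat.beq (pmul (mC (decT.at' 16 u / 384)) (k0C (decT.at' 16 u % 384))) u) = true ∧
    ((List.range 384).all fun q => Nat.beq (thK.at' 16 q) (thC q)) = true ∧
    ((List.range 384).all fun q => Nat.blt (q / 6) 64) = true ∧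
    ((List.range 4).all fun l => Nat.blt (mC l) 10752 && Nat.beq (pconj (mC l) 2) 2) = true ∧
    ((List.range 4).all fun i => (List.range 4).all fun j =>
      (Nat.beq i j) || !(Nat.beq (decT.at' 16 (pmul (pinv (mC i)) (mC j)) / 384) 0)) = true ∧
    (mhList.all fun q => !(Nat.beq (pmul q q) 0 && Nat.beq (pconj q (gR * 64)) (gR * 64) &&
      Nat.beq (pconj q 128) 130)) = true ∧
    pev (yWord false) = yC ∧ mC 2 = pmul (gR * 64) yC ∧ mC 3 = pmul (gR * 64) (mC 2) ∧
    pmul yC yC = 0 ∧ pconj 128 2 = 2 := by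
  decide +kernel

variable {G : Type*} [Group G] {t : G} {H R V M A : Subgroup G} {c s r w x : G}

theorem mem_mhList {p : ℕ} : p ∈ mhList ↔ p < 10752 ∧ pconj p 2 = 2 := by
  rw [← mh_filter, List.mem_filter, List.mem_range, Nat.beq_eq]

theorem mhList_nodup : mhList.Nodup := by
  rw [← mh_filter]
  exact List.Nodup.filter _ List.nodup_range

theorem valH_low {e : ℕ} (h : e < 10752) : valH c s w x e = valP c s w e := if_pos h

theorem valH_high (i p : ℕ) (hp : p < 10752) :
    valH c s w x ((i + 1) * 10752 + p) = valP c s w (mC i) * x * valP c s w p := by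
  rw [valH, if_neg (by omega)]
  congr 2
  · congr 2; omega
  · omega

/-- the data of the centralizer -/
structure HData (t : G) (H R V M A : Subgroup G) (c s r w x : G) : Prop where
  setup : Setup t H R V M A
  loc : LocalData t R M c s r w false
  out : OuterData t H R c s r w x img0 2 0

/-- closure of the codes of the 2-local part -/
structure MHClosed : Prop where
  mul : ∀ p ∈ mhList, ∀ q ∈ mhList, pmul p q ∈ mhList
  inv : ∀ p ∈ mhList, pinv p ∈ mhList
  th : ∀ u ∈ mhList, thK.at' 16 (decT.at' 16 u % 384) ∈ mhList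

/-- the relations behind the model, in any group -/
structure XRels {P : Type*} [Group P] (c s r w x : P) : Prop where
  rel : MRel c s r w
  xx : x * x = 1
  xr : x * r = r * x
  xw : x * w * x⁻¹ = valP c s w 130
  xy : (x * valP c s w (pev (yWord false))) ^ 3 = 1
  xR : ∀ j < 5, x * valP c s w (rAt false ((rgen false).getD j 0)) * x⁻¹ = valP c s w (rAt false (img0.getD j 0))
  closed : MHClosed

theorem mC_mem {l : ℕ} (hl : l < 4) : mC l ∈ mhList := by
  have h := mh_facts.2.2.2.2.1
  simp only [List.all_eq_true, List.mem_range, Bool.and_eq_true, Nat.blt_eq, Nat.beq_eq] at h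
  exact mem_mhList.2 (h l hl)

theorem HCode.cases {e : ℕ} (he : HCode e) :
    e ∈ mhList ∨ ∃ i < 4, ∃ p ∈ mhList, e = (i + 1) * 10752 + p := by
  by_cases h : e < 10752
  · exact Or.inl (Nat.mod_eq_of_lt h ▸ he.2)
  · exact Or.inr ⟨e / 10752 - 1, by have := he.1; omega, e % 10752, he.2, by omega⟩

theorem hcode_low {p : ℕ} (hp : p ∈ mhList) : HCode p := by
  have := (mem_mhList.1 hp).1
  exact ⟨by omega, by rwa [Nat.mod_eq_of_lt this]⟩

theorem hcode_high {i p : ℕ} (hi : i < 4) (hp : p ∈ mhList) : HCode ((i + 1) * 10752 + p) := by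
  have := (mem_mhList.1 hp).1
  exact ⟨by omega, by rwa [show ((i + 1) * 10752 + p) % 10752 = p by omega]⟩

section Generic

variable {P : Type*} [Group P] {c s r w x : P} (X : XRels c s r w x)
include X

theorem XRels.mh_mul {p q : ℕ} (hp : p ∈ mhList) (hq : q ∈ mhList) :
    pmul p q ∈ mhList ∧ valP c s w (pmul p q) = valP c s w p * valP c s w q :=
  ⟨X.closed.mul p hp q hq, (valP_mul X.rel (mem_mhList.1 hp).1 (mem_mhList.1 hq).1).2⟩

theorem XRels.mh_inv {p : ℕ} (hp : p ∈ mhList) :
    pinv p ∈ mhList ∧ valP c s w (pinv p) = (valP c s w p)⁻¹ :=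
  ⟨X.closed.inv p hp, (valP_inv X.rel (mem_mhList.1 hp).1).2⟩

theorem XRels.xconj : ∀ j < 64, fimg false img0 j < 64 ∧
    x * valP c s w (rAt false j) * x⁻¹ = valP c s w (rAt false (fimg false img0 j)) :=
  xconj_of_gens X.rel (List.mem_of_getElem? (i := 0) rfl) X.xR

theorem XRels.x_sq : x * x = 1 := X.xx

theorem XRels.x_inv : x⁻¹ = x := inv_eq_of_mul_eq_one_left (XRels.x_sq X)

theorem XRels.xyx : x * valP c s w yC * x = valP c s w yC * x * valP c s w yC := by
  have h := X.xy
  rw [mh_facts.2.2.2.2.2.2.2.1] at h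
  set y := valP c s w yC
  have hy : y * y = 1 := by
    have hm : yC ∈ mhList := mC_mem (l := 1) (by norm_num)
    rw [← (XRels.mh_mul X hm hm).2, mh_facts.2.2.2.2.2.2.2.2.2.2.1, valP_zero]
  have e : x * y * x * (y * x * y) = 1 := by
    rw [← h, pow_succ, pow_two]; group
  rw [eq_inv_of_mul_eq_one_left e, mul_inv_rev, mul_inv_rev, XRels.x_inv X, inv_eq_of_mul_eq_one_left hy, mul_assoc]

theorem XRels.xmx {l : ℕ} (hl : l < 4) (h0 : l ≠ 0) :
    x * valP c s w (mC l) * x = valP c s w (mC l) * x * valP c s w yC := by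
  obtain ⟨-, -, -, -, -, -, -, -, e2, e3, -⟩ := mh_facts
  have hy : yC ∈ mhList := mC_mem (l := 1) (by norm_num)
  have hr : valP c s w (gR * 64) = r := by
    rw [valP_lv, lv, ← X.rel.r_eq]
  have hrlt : gR * 64 ∈ mhList := mem_mhList.2 (by decide +kernel)
  have step : ∀ g : P, x * g * x = g * x * valP c s w yC → x * (r * g) * x = r * g * x * valP c s w yC := by
    intro g hg
    calc x * (r * g) * x = x * r * g * x := by group
      _ = r * (x * g * x) := by rw [X.xr]; group
      _ = _ := by rw [hg]; group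
  have v2 : valP c s w (mC 2) = r * valP c s w yC := by rw [e2, (XRels.mh_mul X hrlt hy).2, hr]
  have v3 : valP c s w (mC 3) = r * valP c s w (mC 2) := by
    rw [e3, (XRels.mh_mul X hrlt (mC_mem (l := 2) (by norm_num))).2, hr]
  interval_cases l
  · exact absurd rfl h0
  · exact XRels.xyx X
  · rw [v2]; exact step _ (XRels.xyx X)
  · rw [v3, v2]; exact step _ (step _ (XRels.xyx X))

/-- splitting an element of the 2-local part -/
theorem XRels.dec_spec {u : ℕ} (hu : u ∈ mhList) :
    decT.at' 16 u / 384 < 4 ∧ thK.at' 16 (decT.at' 16 u % 384) ∈ mhList ∧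
      valP c s w u * x = valP c s w (mC (decT.at' 16 u / 384)) * x * valP c s w (thK.at' 16 (decT.at' 16 u % 384)) := by
  obtain ⟨-, hdec, hth, hq6, -⟩ := mh_facts
  simp only [List.all_eq_true, List.mem_range, Bool.and_eq_true, Nat.blt_eq, Nat.beq_eq] at hdec hth hq6
  obtain ⟨hd, he⟩ := hdec u hu
  set q := decT.at' 16 u % 384 with hq
  have hq' : q < 384 := Nat.mod_lt _ (by norm_num)
  have hl : decT.at' 16 u / 384 < 4 := by omega
  have RR := X.rel
  have hi : q / 6 < 64 := hq6 q hq'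
  obtain ⟨hf, hx⟩ := XRels.xconj X _ hi
  set a := q % 6 / 2
  obtain ⟨la, ea⟩ := pev_spec RR x (W := List.replicate a 4) (fun l hl => by rw [List.eq_of_mem_replicate hl]; norm_num)
  have ea' : valP c s w (pev (List.replicate a 4)) = r ^ a := by
    rw [ea]; simp [prodW, List.map_replicate, List.prod_replicate, genX]
  obtain ⟨lk1, ek1⟩ := valP_mul RR (rAt_lt hi) la
  obtain ⟨lt1, et1⟩ := valP_mul RR (rAt_lt hf) la
  have hcom : Commute x r := X.xr
  have hb : (if q % 2 = 0 then 0 else 128) < 10752 ∧ (if q % 2 = 0 then 0 else 130) < 10752 := by split <;> norm_num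
  obtain ⟨lk2, ek2⟩ := valP_mul RR lk1 hb.1
  obtain ⟨lt2, et2⟩ := valP_mul RR lt1 hb.2
  have hxb : x * valP c s w (if q % 2 = 0 then 0 else 128) * x⁻¹ = valP c s w (if q % 2 = 0 then 0 else 130) := by
    split
    · rw [valP_zero]; group
    · rw [show valP c s w 128 = w by
        rw [← img_facts.2.2.1, (pev_spec RR 1 (W := [6]) (by decide)).2]; simp [prodW, genX], X.xw]
  have hk : x * valP c s w (k0C q) * x⁻¹ = valP c s w (thC q) := by
    rw [k0C, thC, ek2, et2, ek1, et1, ea', ← hx]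
    calc x * (valP c s w (rAt false (q / 6)) * r ^ a * valP c s w (if q % 2 = 0 then 0 else 128)) * x⁻¹
        = x * valP c s w (rAt false (q / 6)) * x⁻¹ * (x * r ^ a * x⁻¹) *
          (x * valP c s w (if q % 2 = 0 then 0 else 128) * x⁻¹) := by group
      _ = _ := by rw [hxb, (hcom.pow_right a).eq, mul_inv_cancel_right]
  have htm : thC q ∈ mhList := hth q hq' ▸ X.closed.th u hu
  have hkm : k0C q < 10752 := lk2
  rw [hth q hq']
  refine ⟨hl, htm, ?_⟩
  conv_lhs => rw [← he]
  rw [(valP_mul RR (mem_mhList.1 (mC_mem hl)).1 hkm).2, ← hk, XRels.x_inv X]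
  calc valP c s w (mC (decT.at' 16 u / 384)) * valP c s w (k0C q) * x
      = valP c s w (mC (decT.at' 16 u / 384)) * (x * x) * (valP c s w (k0C q) * x) := by
        rw [XRels.x_sq X, mul_one, mul_assoc]
    _ = _ := by group

theorem XRels.lmulM_spec {g e : ℕ} (hg : g ∈ mhList) (he : HCode e) :
    HCode (lmulM g e) ∧ valH c s w x (lmulM g e) = valP c s w g * valH c s w x e := by
  rcases HCode.cases he with hp | ⟨i, hi, p, hp, rfl⟩
  · have hlt := (mem_mhList.1 hp).1
    obtain ⟨h1, h2⟩ := XRels.mh_mul X hg hp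
    rw [lmulM, if_pos hlt, valH_low hlt, valH_low (mem_mhList.1 h1).1]
    exact ⟨hcode_low h1, h2⟩
  · have hlt := (mem_mhList.1 hp).1
    obtain ⟨u1, u2⟩ := XRels.mh_mul X hg (mC_mem hi)
    obtain ⟨hl, hk, hux⟩ := XRels.dec_spec X u1
    obtain ⟨q1, q2⟩ := XRels.mh_mul X hk hp
    rw [lmulM, if_neg (by omega)]
    simp only [show ((i + 1) * 10752 + p) / 10752 - 1 = i by omega, show ((i + 1) * 10752 + p) % 10752 = p by omega]
    refine ⟨hcode_high hl q1, ?_⟩
    rw [valH_high _ _ (mem_mhList.1 q1).1, valH_high _ _ hlt, q2]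
    calc valP c s w (mC (decT.at' 16 (pmul g (mC i)) / 384)) * x *
          (valP c s w (thK.at' 16 (decT.at' 16 (pmul g (mC i)) % 384)) * valP c s w p)
        = valP c s w (pmul g (mC i)) * x * valP c s w p := by rw [hux]; group
      _ = _ := by rw [u2]; group

theorem XRels.lmulX_spec {e : ℕ} (he : HCode e) :
    HCode (lmulX e) ∧ valH c s w x (lmulX e) = x * valH c s w x e := by
  rcases HCode.cases he with hp | ⟨i, hi, p, hp, rfl⟩
  · have hlt := (mem_mhList.1 hp).1
    rw [lmulX, if_pos hlt, show 10752 + e = (0 + 1) * 10752 + e by omega]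
    refine ⟨hcode_high (by norm_num) hp, ?_⟩
    rw [valH_high _ _ hlt, valH_low hlt, mC, valP_zero, one_mul]
  · have hlt := (mem_mhList.1 hp).1
    rw [lmulX, if_neg (by omega)]
    rcases Nat.eq_zero_or_pos i with rfl | hpos
    · rw [if_pos (by omega), show (0 + 1) * 10752 + p - 10752 = p by omega]
      refine ⟨hcode_low hp, ?_⟩
      rw [valH_low hlt, valH_high _ _ hlt, mC, valP_zero, one_mul, ← mul_assoc, XRels.x_sq X, one_mul]
    · rw [if_neg (by omega), show ((i + 1) * 10752 + p) / 10752 = i + 1 by omega,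
        show ((i + 1) * 10752 + p) % 10752 = p by omega]
      have hy : yC ∈ mhList := mC_mem (l := 1) (by norm_num)
      obtain ⟨q1, q2⟩ := XRels.mh_mul X hy hp
      refine ⟨hcode_high hi q1, ?_⟩
      rw [valH_high _ _ (mem_mhList.1 q1).1, valH_high _ _ hlt, q2]
      calc valP c s w (mC i) * x * (valP c s w yC * valP c s w p)
          = valP c s w (mC i) * x * valP c s w yC * valP c s w p := by group
        _ = _ := by rw [← XRels.xmx X hi (by omega)]; group

theorem XRels.hmul_spec {e f : ℕ} (he : HCode e) (hf : HCode f) :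
    HCode (hmul e f) ∧ valH c s w x (hmul e f) = valH c s w x e * valH c s w x f := by
  rcases HCode.cases he with hp | ⟨i, hi, p, hp, rfl⟩
  · rw [hmul, if_pos (mem_mhList.1 hp).1, valH_low (mem_mhList.1 hp).1]
    exact XRels.lmulM_spec X hp hf
  · have hlt := (mem_mhList.1 hp).1
    rw [hmul, if_neg (by omega), show ((i + 1) * 10752 + p) / 10752 - 1 = i by omega,
      show ((i + 1) * 10752 + p) % 10752 = p by omega]
    obtain ⟨a1, a2⟩ := XRels.lmulM_spec X hp hf
    obtain ⟨b1, b2⟩ := XRels.lmulX_spec X a1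
    obtain ⟨c1, c2⟩ := XRels.lmulM_spec X (mC_mem hi) b1
    refine ⟨c1, ?_⟩
    rw [c2, b2, a2, valH_high _ _ hlt]; group

theorem XRels.hinv_spec {e : ℕ} (he : HCode e) :
    HCode (hinv e) ∧ valH c s w x (hinv e) = (valH c s w x e)⁻¹ := by
  rcases HCode.cases he with hp | ⟨i, hi, p, hp, rfl⟩
  · have hlt := (mem_mhList.1 hp).1
    obtain ⟨h1, h2⟩ := XRels.mh_inv X hp
    rw [hinv, if_pos hlt, valH_low hlt, valH_low (mem_mhList.1 h1).1]
    exact ⟨hcode_low h1, h2⟩
  · have hlt := (mem_mhList.1 hp).1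
    rw [hinv, if_neg (by omega), show ((i + 1) * 10752 + p) / 10752 - 1 = i by omega,
      show ((i + 1) * 10752 + p) % 10752 = p by omega]
    obtain ⟨a1, a2⟩ := XRels.mh_inv X (mC_mem hi)
    obtain ⟨b1, b2⟩ := XRels.lmulX_spec X (hcode_low a1)
    obtain ⟨d1, d2⟩ := XRels.mh_inv X hp
    obtain ⟨c1, c2⟩ := XRels.lmulM_spec X d1 b1
    refine ⟨c1, ?_⟩
    rw [c2, b2, d2, valH_low (mem_mhList.1 a1).1, a2, valH_high _ _ hlt, mul_inv_rev, mul_inv_rev, XRels.x_inv X]

theorem XRels.hconj_spec {g e : ℕ} (hg : HCode g) (he : HCode e) :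
    HCode (hconj g e) ∧ valH c s w x (hconj g e) = valH c s w x g * valH c s w x e * (valH c s w x g)⁻¹ := by
  obtain ⟨a1, a2⟩ := XRels.hmul_spec X hg he
  obtain ⟨b1, b2⟩ := XRels.hinv_spec X hg
  obtain ⟨c1, c2⟩ := XRels.hmul_spec X a1 b1
  exact ⟨c1, by rw [hconj, c2, a2, b2]⟩

end Generic

variable (D : HData t H R V M A c s r w x)
include D

theorem mh_val {p : ℕ} (hp : p ∈ mhList) : p < 10752 ∧ valP c s w p ∈ H := by
  obtain ⟨h1, h2⟩ := mem_mhList.1 hp
  exact ⟨h1, (mem_H_iff D.setup D.loc h1).2 h2⟩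

theorem th_mem {u : ℕ} (hu : u ∈ mhList) : thK.at' 16 (decT.at' 16 u % 384) ∈ mhList := by
  obtain ⟨-, hdec, hth, hq6, -⟩ := mh_facts
  simp only [List.all_eq_true, List.mem_range, Bool.and_eq_true, Nat.blt_eq, Nat.beq_eq] at hdec hth hq6
  obtain ⟨hd, he⟩ := hdec u hu
  set q := decT.at' 16 u % 384 with hq
  have hq' : q < 384 := Nat.mod_lt _ (by norm_num)
  have hl : decT.at' 16 u / 384 < 4 := by omega
  have RR := D.loc.rel
  have hi : q / 6 < 64 := hq6 q hq'
  obtain ⟨hf, hx⟩ := xconj D.setup D.loc D.out _ hi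
  set a := q % 6 / 2
  obtain ⟨la, ea⟩ := pev_spec RR x (W := List.replicate a 4) (fun l hl => by rw [List.eq_of_mem_replicate hl]; norm_num)
  have ea' : valP c s w (pev (List.replicate a 4)) = r ^ a := by
    rw [ea]; simp [prodW, List.map_replicate, List.prod_replicate, genX]
  obtain ⟨lk1, ek1⟩ := valP_mul RR (rAt_lt hi) la
  obtain ⟨lt1, et1⟩ := valP_mul RR (rAt_lt hf) la
  have hcom : Commute x r := D.out.xr
  have hb : (if q % 2 = 0 then 0 else 128) < 10752 ∧ (if q % 2 = 0 then 0 else 130) < 10752 := by split <;> norm_num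
  obtain ⟨lk2, ek2⟩ := valP_mul RR lk1 hb.1
  obtain ⟨lt2, et2⟩ := valP_mul RR lt1 hb.2
  have hxb : x * valP c s w (if q % 2 = 0 then 0 else 128) * x⁻¹ = valP c s w (if q % 2 = 0 then 0 else 130) := by
    split
    · rw [valP_zero]; group
    · rw [D.loc.val_w, D.out.xw, show (130 : ℕ) = pmul 2 128 by decide +kernel,
        (valP_mul RR (by norm_num) (by norm_num)).2, D.loc.val_two, D.loc.val_w, pow_two, D.loc.sq]
  have hk : x * valP c s w (k0C q) * x⁻¹ = valP c s w (thC q) := by
    rw [k0C, thC, ek2, et2, ek1, et1, ea', ← hx]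
    calc x * (valP c s w (rAt false (q / 6)) * r ^ a * valP c s w (if q % 2 = 0 then 0 else 128)) * x⁻¹
        = x * valP c s w (rAt false (q / 6)) * x⁻¹ * (x * r ^ a * x⁻¹) *
          (x * valP c s w (if q % 2 = 0 then 0 else 128) * x⁻¹) := by group
      _ = _ := by rw [hxb, (hcom.pow_right a).eq, mul_inv_cancel_right]
  have hkm : k0C q ∈ mhList := by
    have hm := mC_mem hl
    have lk : k0C q < 10752 := lk2
    have h0 := (valP_mul RR (mem_mhList.1 hm).1 lk).2
    rw [he] at h0
    have h1 : valP c s w (k0C q) = (valP c s w (mC (decT.at' 16 u / 384)))⁻¹ * valP c s w u := by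
      rw [h0, inv_mul_cancel_left]
    exact mem_mhList.2 ⟨lk2, (mem_H_iff D.setup D.loc lk2).1 (h1 ▸ H.mul_mem (H.inv_mem (mh_val D hm).2) (mh_val D hu).2)⟩
  have htm : thC q ∈ mhList :=
    mem_mhList.2 ⟨lt2, (mem_H_iff D.setup D.loc lt2).1 (hk ▸ H.mul_mem (H.mul_mem D.out.xH (mh_val D hkm).2) (H.inv_mem D.out.xH))⟩
  rw [hth q hq']
  exact htm

theorem xrels : XRels c s r w x := by
  have RR := D.loc.rel
  have hm : MHClosed := by
    refine ⟨fun p hp q hq => ?_, fun p hp => ?_, fun u hu => th_mem D hu⟩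
    · obtain ⟨p1, p2⟩ := mh_val D hp
      obtain ⟨q1, q2⟩ := mh_val D hq
      obtain ⟨h1, h2⟩ := valP_mul RR p1 q1
      exact mem_mhList.2 ⟨h1, (mem_H_iff D.setup D.loc h1).1 (h2 ▸ H.mul_mem p2 q2)⟩
    · obtain ⟨p1, p2⟩ := mh_val D hp
      obtain ⟨h1, h2⟩ := valP_inv RR p1
      exact mem_mhList.2 ⟨h1, (mem_H_iff D.setup D.loc h1).1 (h2 ▸ H.inv_mem p2)⟩
  refine ⟨RR, by simpa using D.out.xx, D.out.xr, ?_, D.out.xy, D.out.xR, hm⟩
  rw [D.out.xw, show (130 : ℕ) = pmul 2 128 by decide +kernel, (valP_mul RR (by norm_num) (by norm_num)).2,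
    D.loc.val_two, D.loc.val_w, pow_two, D.loc.sq]

theorem x_sq : x * x = 1 := (xrels D).xx

theorem x_inv : x⁻¹ = x := (xrels D).x_inv

theorem dec_spec {u : ℕ} (hu : u ∈ mhList) :
    decT.at' 16 u / 384 < 4 ∧ thK.at' 16 (decT.at' 16 u % 384) ∈ mhList ∧
      valP c s w u * x = valP c s w (mC (decT.at' 16 u / 384)) * x * valP c s w (thK.at' 16 (decT.at' 16 u % 384)) :=
  (xrels D).dec_spec hu

theorem xmx {l : ℕ} (hl : l < 4) (h0 : l ≠ 0) :
    x * valP c s w (mC l) * x = valP c s w (mC l) * x * valP c s w yC := (xrels D).xmx hl h0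

theorem mh_mul {p q : ℕ} (hp : p ∈ mhList) (hq : q ∈ mhList) :
    pmul p q ∈ mhList ∧ valP c s w (pmul p q) = valP c s w p * valP c s w q := (xrels D).mh_mul hp hq

theorem mh_inv {p : ℕ} (hp : p ∈ mhList) : pinv p ∈ mhList ∧ valP c s w (pinv p) = (valP c s w p)⁻¹ :=
  (xrels D).mh_inv hp

theorem hmul_spec {e f : ℕ} (he : HCode e) (hf : HCode f) :
    HCode (hmul e f) ∧ valH c s w x (hmul e f) = valH c s w x e * valH c s w x f := (xrels D).hmul_spec he hf

theorem hinv_spec {e : ℕ} (he : HCode e) :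
    HCode (hinv e) ∧ valH c s w x (hinv e) = (valH c s w x e)⁻¹ := (xrels D).hinv_spec he

theorem hconj_spec {g e : ℕ} (hg : HCode g) (he : HCode e) :
    HCode (hconj g e) ∧ valH c s w x (hconj g e) = valH c s w x g * valH c s w x e * (valH c s w x g)⁻¹ :=
  (xrels D).hconj_spec hg he

theorem valH_mem {e : ℕ} (he : HCode e) : valH c s w x e ∈ H := by
  rcases HCode.cases he with hp | ⟨i, hi, p, hp, rfl⟩
  · rw [valH_low (mem_mhList.1 hp).1]; exact (mh_val D hp).2
  · rw [valH_high _ _ (mem_mhList.1 hp).1]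
    exact H.mul_mem (H.mul_mem (mh_val D (mC_mem hi)).2 D.out.xH) (mh_val D hp).2

theorem x_not_code {q : ℕ} (hq : q < 10752) : valP c s w q ≠ x := by
  intro h
  have hm : q ∈ mhList := mem_mhList.2 ⟨hq, (mem_H_iff D.setup D.loc hq).1 (h ▸ D.out.xH)⟩
  have hf := List.all_eq_true.1 mh_facts.2.2.2.2.2.2.1 q hm
  have RR := D.loc.rel
  have inj := D.loc.inj
  have hr : gR * 64 < 10752 := by decide
  obtain ⟨a1, a2⟩ := valP_mul RR hq hq
  obtain ⟨b1, b2⟩ := valP_conj RR hq hr
  obtain ⟨c1, c2⟩ := valP_conj RR hq (by norm_num : 128 < 10752)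
  have e1 : pmul q q = 0 := inj _ a1 _ (by norm_num) (by rw [a2, h, x_sq D, valP_zero])
  have e2 : pconj q (gR * 64) = gR * 64 := inj _ b1 _ hr (by
    rw [b2, h, D.loc.val_r, D.out.xr, mul_inv_cancel_right])
  have e3 : pconj q 128 = 130 := inj _ c1 _ (by norm_num) (by
    rw [c2, h, D.loc.val_w, D.out.xw, show (130 : ℕ) = pmul 2 128 by decide +kernel,
      (valP_mul RR (by norm_num) (by norm_num)).2, D.loc.val_two, D.loc.val_w, pow_two, D.loc.sq])
  simp [e1, e2, e3] at hf

theorem valH_inj {e f : ℕ} (he : HCode e) (hf : HCode f) (h : valH c s w x e = valH c s w x f) : e = f := by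
  have notX : ∀ {a b : ℕ}, a ∈ mhList → b ∈ mhList → valP c s w a * x ≠ valP c s w b := by
    intro a b ha hb h
    obtain ⟨a1, a2⟩ := mh_inv D ha
    obtain ⟨m1, m2⟩ := mh_mul D a1 hb
    refine x_not_code D (mem_mhList.1 m1).1 ?_
    rw [m2, a2, ← h, inv_mul_cancel_left]
  have low_high : ∀ {a i p : ℕ}, a ∈ mhList → i < 4 → p ∈ mhList →
      valP c s w a ≠ valP c s w (mC i) * x * valP c s w p := by
    intro a i p ha hi hp h
    obtain ⟨p1, p2⟩ := mh_inv D hp
    obtain ⟨m1, m2⟩ := mh_mul D ha p1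
    refine notX (mC_mem hi) m1 ?_
    rw [m2, p2, h, mul_inv_cancel_right]
  rcases HCode.cases he with hp | ⟨i, hi, p, hp, rfl⟩ <;>
    rcases HCode.cases hf with hq | ⟨j, hj, q, hq, rfl⟩
  · rw [valH_low (mem_mhList.1 hp).1, valH_low (mem_mhList.1 hq).1] at h
    exact D.loc.inj _ (mem_mhList.1 hp).1 _ (mem_mhList.1 hq).1 h
  · rw [valH_low (mem_mhList.1 hp).1, valH_high _ _ (mem_mhList.1 hq).1] at h
    exact absurd h (low_high hp hj hq)
  · rw [valH_low (mem_mhList.1 hq).1, valH_high _ _ (mem_mhList.1 hp).1] at h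
    exact absurd h.symm (low_high hq hi hp)
  · rw [valH_high _ _ (mem_mhList.1 hp).1, valH_high _ _ (mem_mhList.1 hq).1] at h
    by_cases hij : i = j
    · subst hij
      rw [D.loc.inj _ (mem_mhList.1 hp).1 _ (mem_mhList.1 hq).1 (mul_left_cancel h)]
    exfalso
    obtain ⟨a1, a2⟩ := mh_inv D (mC_mem hi)
    obtain ⟨u1, u2⟩ := mh_mul D a1 (mC_mem hj)
    obtain ⟨hl, hk, hux⟩ := dec_spec D u1
    have hd := mh_facts.2.2.2.2.2.1
    simp only [List.all_eq_true, List.mem_range, Bool.or_eq_true, Bool.not_eq_true', Nat.beq_eq] at hd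
    have hne : decT.at' 16 (pmul (pinv (mC i)) (mC j)) / 384 ≠ 0 :=
      Nat.ne_of_beq_eq_false ((hd i hi j hj).resolve_left hij)
    set l := decT.at' 16 (pmul (pinv (mC i)) (mC j)) / 384
    set θ := thK.at' 16 (decT.at' 16 (pmul (pinv (mC i)) (mC j)) % 384)
    have hy : yC ∈ mhList := mC_mem (l := 1) (by norm_num)
    obtain ⟨e1, e2⟩ := mh_mul D hk hq
    obtain ⟨f1, f2⟩ := mh_mul D hy e1
    refine low_high hp hl f1 ?_
    calc valP c s w p = (valP c s w (mC i) * x)⁻¹ * (valP c s w (mC i) * x * valP c s w p) := by group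
      _ = x * ((valP c s w (mC i))⁻¹ * valP c s w (mC j) * x) * valP c s w q := by
        rw [h, mul_inv_rev, x_inv D]; group
      _ = x * valP c s w (mC l) * x * (valP c s w θ * valP c s w q) := by
        rw [← a2, ← u2, hux]; group
      _ = _ := by rw [xmx D hl hne, f2, e2]; group

theorem valH_surj {g : G} (hg : g ∈ H) : ∃ e, HCode e ∧ valH c s w x e = g := by
  have hlen := mh_facts.1
  have hsome : ∀ k : Fin 5 × Fin 1536, HCode ((k.1 : ℕ) * 10752 + mhList.getD k.2 0) := by
    rintro ⟨i, j⟩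
    have hp : mhList.getD j 0 ∈ mhList := by
      rw [List.getD_eq_getElem _ _ (hlen.symm ▸ j.2)]; exact List.getElem_mem _
    have := (mem_mhList.1 hp).1
    have := i.2
    exact ⟨by dsimp; omega, by rw [show ((i : ℕ) * 10752 + mhList.getD j 0) % 10752 = mhList.getD j 0 by omega]; exact hp⟩
  let f : Fin 5 × Fin 1536 → H := fun k => ⟨_, valH_mem D (hsome k)⟩
  have hinj : Function.Injective f := by
    rintro ⟨i, j⟩ ⟨i', j'⟩ h
    have h' := valH_inj D (hsome _) (hsome _) (congrArg Subtype.val h)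
    dsimp at h'
    have hp : ∀ j : Fin 1536, mhList.getD j 0 ∈ mhList := fun j => by
      rw [List.getD_eq_getElem _ _ (hlen.symm ▸ j.2)]; exact List.getElem_mem _
    have := (mem_mhList.1 (hp j)).1
    have := (mem_mhList.1 (hp j')).1
    have hj : mhList.getD j 0 = mhList.getD j' 0 := by omega
    have hi : (i : ℕ) = i' := by omega
    rw [List.getD_eq_getElem _ _ (hlen.symm ▸ j.2), List.getD_eq_getElem _ _ (hlen.symm ▸ j'.2)] at hj
    exact Prod.ext (Fin.ext hi) (Fin.ext (mhList_nodup.getElem_inj_iff.1 hj))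
  haveI : Finite H := Nat.finite_of_card_ne_zero (by rw [D.setup.cardH]; norm_num)
  have hbij : Function.Bijective f :=
    (Nat.bijective_iff_injective_and_card f).2 ⟨hinj, by rw [D.setup.cardH, Nat.card_prod, Nat.card_fin, Nat.card_fin]⟩
  obtain ⟨k, hk⟩ := hbij.2 ⟨g, hg⟩
  exact ⟨_, hsome k, congrArg Subtype.val hk⟩

end CfsgLib.HSUniq
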