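import Cfsg.Agent.Lib.HSUniq.LocalChecks
import Cfsg.Agent.Lib.HSUniq.CheckMCases

/-!
The enumerations exclude the other parameters of the 2-local subgroup.
-/

set_option autoImplicit false
set_option maxRecDepth 100000

namespace CfsgLib.HSUniq

open CfsgLib.CosetEnum

/-- the common relators -/
def baseRels : List (List ℕ) :=
  [[0, 1], [2, 3], [4, 5], [0, 0, 0, 0], [2, 2, 2, 2, 2, 2, 2], [4, 4, 4], [4, 2, 5, 3, 3], [4, 0, 5, 1],
    [0, 2, 0, 3, 1, 2, 1, 3], [0, 2, 2, 0, 3, 3, 1, 2, 2, 1, 3, 3],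
    [2, 2, 2, 0, 3, 3, 3, 2, 2, 1, 3, 3, 2, 2, 1, 3, 3, 2, 1, 3, 2, 1, 3, 2, 1, 3, 1],
    [6, 6], [6, 4, 6, 4], [6, 0, 6, 0], [6, 2, 0, 3, 6, 2, 2, 1, 3, 3]]

/-- a word for a code -/
def codeWord (v : ℕ) : List ℕ :=
  List.replicate (v % 4) 0 ++ (List.replicate (v / 4 % 4) [2, 0, 3]).flatten ++
    (List.replicate (v / 16 % 4) [2, 2, 0, 3, 3]).flatten

/-- inverse word -/
def invWord (u : List ℕ) : List ℕ := (u.map fun l => ([1, 0, 3, 2, 5, 4, 6] : List ℕ).getD l l).reverse

/-- the third relator -/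
def relThree (z : ℕ) : List ℕ := [6, 2, 6, 2, 6, 2] ++ invWord (codeWord z)

/-- the fourth relator -/
def relFour (z : ℕ) : List ℕ := [6, 2, 2, 2, 6, 2, 2, 2, 6, 2, 2, 2, 6, 2, 2, 2] ++ invWord (codeWord z)

/-- the commutator with a conjugate -/
def relComm : List ℕ := [6, 2, 6, 2, 2, 6, 3, 3, 6, 3, 6, 2, 6, 2, 2, 6, 3, 3, 6, 3]

/-- a word for the centre of the second radical -/
def centWord : List ℕ := [2, 0, 0, 3, 2, 2, 0, 0, 3, 3]

/-- the number of a case -/
def caseCert : ℕ → Cert
  | 0 => certM0 | 1 => certM1 | 2 => certM2 | 3 => certM3 | 4 => certM4 | 5 => certM5 | 6 => certM6 | 7 => certM7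
  | 8 => certM8 | 9 => certM9 | 10 => certM10 | 11 => certM11 | 12 => certM12 | 13 => certM13 | 14 => certM14
  | _ => certM15

/-- the extra relators of a case -/
def caseRels : List (List (List ℕ)) :=
  [[relThree 0, relFour 13], [relThree 0, relFour 10], [relThree 0, relFour 7],
   [relThree 4, relFour 0], [relThree 4, relFour 10], [relThree 4, relFour 7],
   [relThree 8, relFour 0], [relThree 8, relFour 13], [relThree 8, relFour 7],
   [relThree 12, relFour 0], [relThree 12, relFour 13], [relThree 12, relFour 10],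
   [relThree 4, relFour 13, relComm], [relThree 4, relFour 13, relComm ++ centWord],
   [relThree 12, relFour 7, relComm], [relThree 12, relFour 7, relComm ++ centWord]]

theorem case_info : ((List.range 16).all fun i =>
    decide ((caseCert i).K = 7) && decide ((caseCert i).invs = [1, 0, 3, 2, 5, 4, 6]) &&
    decide ((caseCert i).subs = [[2], [4]]) && Nat.blt (caseCert i).N 512 &&
    decide ((caseCert i).rels = baseRels ++ caseRels.getD i [])) = true := by
  decide +kernel

theorem case_complete : ∀ i, (caseCert i).Complete := by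
  intro i
  unfold caseCert
  split
  all_goals first
    | exact certM0_complete | exact certM1_complete | exact certM2_complete | exact certM3_complete
    | exact certM4_complete | exact certM5_complete | exact certM6_complete | exact certM7_complete
    | exact certM8_complete | exact certM9_complete | exact certM10_complete | exact certM11_complete
    | exact certM12_complete | exact certM13_complete | exact certM14_complete | exact certM15_complete

section

variable {G : Type*} [Group G] {c s r w : G}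

theorem prodW_replicate {gen : ℕ → G} (u : List ℕ) : ∀ n,
    prodW gen (List.replicate n u).flatten = prodW gen u ^ n
  | 0 => by simp
  | n + 1 => by rw [List.replicate_succ, List.flatten_cons, prodW_append, prodW_replicate u n, pow_succ']

theorem prodW_codeWord (v : ℕ) : prodW (genX c s r w 1) (codeWord v) = av c s v := by
  have h0 : prodW (genX c s r w 1) (List.replicate (v % 4) 0) = c ^ (v % 4) := by
    simp [prodW, List.map_replicate, List.prod_replicate, genX]
  rw [codeWord, prodW_append, prodW_append, h0, prodW_replicate, prodW_replicate]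
  simp [prodW, genX, av, mul_assoc]

theorem base_hold (R : ARel c s w) (hr3 : r ^ 3 = 1) (hrs : r * s * r⁻¹ = s * s) (hrc : r * c * r⁻¹ = c)
    (hwr : w * r * w = r⁻¹) : ∀ x ∈ baseRels, prodW (genX c s r w 1) x = 1 := by
  have hwc := R.wc
  have hwa := R.wa
  have hcube := R.cube
  simp only [baseRels, List.forall_mem_cons]
  refine ⟨?_, ?_, ?_, ?_, ?_, ?_, ?_, ?_, ?_, ?_, ?_, ?_, ?_, ?_, ?_, by simp⟩
  all_goals simp only [prodW, List.map_cons, List.map_nil, List.prod_cons, List.prod_nil, genX, mul_one]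
  · exact mul_inv_cancel c
  · exact mul_inv_cancel s
  · exact mul_inv_cancel r
  · simpa [pow_succ, mul_assoc] using R.c4
  · simpa [pow_succ, mul_assoc] using R.s7
  · simpa [pow_succ, mul_assoc] using hr3
  · rw [show r * (s * (r⁻¹ * (s⁻¹ * s⁻¹))) = r * s * r⁻¹ * (s⁻¹ * s⁻¹) by group, hrs]; group
  · rw [show r * (c * (r⁻¹ * c⁻¹)) = r * c * r⁻¹ * c⁻¹ by group, hrc, mul_inv_cancel]
  · have e := R.com1.eq
    rw [show c * (s * (c * (s⁻¹ * (c⁻¹ * (s * (c⁻¹ * s⁻¹)))))) = c * (s * c * s⁻¹) * c⁻¹ * (s * c * s⁻¹)⁻¹ by group, e]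
    group
  · have e := R.com2.eq
    rw [show c * (s * (s * (c * (s⁻¹ * (s⁻¹ * (c⁻¹ * (s * (s * (c⁻¹ * (s⁻¹ * s⁻¹)))))))))) =
      c * (s * (s * c * s⁻¹) * s⁻¹) * c⁻¹ * (s * (s * c * s⁻¹) * s⁻¹)⁻¹ by simp [mul_assoc], e]
    group
  · calc _ = s * (s * (s * c * s⁻¹) * s⁻¹) * s⁻¹ *
        (c * (s * c * s⁻¹) ^ 3 * (s * (s * c * s⁻¹) * s⁻¹) ^ 2)⁻¹ := by simp [pow_succ]; group
      _ = 1 := by rw [hcube, mul_inv_cancel]
  · exact R.ww
  · rw [show w * (r * (w * r)) = w * r * w * r by group, hwr, inv_mul_cancel]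
  · rw [show w * (c * (w * c)) = w * c * w * c by group, hwc, inv_mul_cancel]
  · rw [show w * (s * (c * (s⁻¹ * (w * (s * (s * (c⁻¹ * (s⁻¹ * s⁻¹)))))))) =
      w * (s * c * s⁻¹) * w * (s * (s * c * s⁻¹) * s⁻¹)⁻¹ by simp [mul_assoc], hwa, mul_inv_cancel]

/-- In each case the generated group is too small. -/
theorem case_false [Finite G] (i : ℕ) (hi : i < 16) (R : ARel c s w) (hr3 : r ^ 3 = 1)
    (hrs : r * s * r⁻¹ = s * s) (hrc : r * c * r⁻¹ = c) (hwr : w * r * w = r⁻¹)
    (hextra : ∀ x ∈ caseRels.getD i [], prodW (genX c s r w 1) x = 1) (M : Subgroup G)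
    (hM : M ≤ Subgroup.closure {y | ∃ g < 7, genX c s r w 1 g = y}) (hcard : Nat.card M = 10752) : False := by
  classical
  have h := List.all_eq_true.1 case_info i (List.mem_range.2 hi)
  simp only [Bool.and_eq_true, decide_eq_true_eq, Nat.blt_eq] at h
  obtain ⟨⟨⟨⟨hK, hinv⟩, hsubs⟩, hN⟩, hrels⟩ := h
  let U : Subgroup G := Subgroup.closure {s, r}
  have hU : Nat.card U ≤ 21 := by
    let S0 := Subgroup.zpowers s
    let R0 := Subgroup.zpowers r
    have hn : R0 ≤ Subgroup.normalizer (S0 : Set G) := by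
      rw [Subgroup.zpowers_le, Subgroup.mem_normalizer_iff]
      have h1 : ∀ y ∈ S0, r * y * r⁻¹ ∈ S0 := by
        intro y hy
        obtain ⟨k, rfl⟩ := Subgroup.mem_zpowers_iff.1 hy
        rw [← MulAut.conj_apply, map_zpow, MulAut.conj_apply, hrs]
        exact S0.zpow_mem (S0.mul_mem (Subgroup.mem_zpowers s) (Subgroup.mem_zpowers s)) k
      intro y
      refine ⟨h1 y, fun hy => ?_⟩
      have h2 := h1 _ (h1 _ hy)
      have e : r * (r * (r * y * r⁻¹) * r⁻¹) * r⁻¹ = r ^ 3 * y * (r ^ 3)⁻¹ := by simp [pow_succ]; group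
      rwa [e, hr3, one_mul, inv_one, mul_one] at h2
    have hUle : U ≤ S0 ⊔ R0 := by
      rw [Subgroup.closure_le]
      rintro y (rfl | rfl)
      · exact (le_sup_left : S0 ≤ _) (Subgroup.mem_zpowers _)
      · exact (le_sup_right : R0 ≤ _) (Subgroup.mem_zpowers _)
    refine (Subgroup.card_le_of_le hUle).trans ?_
    have hs : Nat.card S0 ≤ 7 := by
      rw [Nat.card_zpowers]; exact Nat.le_of_dvd (by norm_num) (orderOf_dvd_of_pow_eq_one R.s7)
    have hr : Nat.card R0 ≤ 3 := by
      rw [Nat.card_zpowers]; exact Nat.le_of_dvd (by norm_num) (orderOf_dvd_of_pow_eq_one hr3)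
    let φ : S0 × R0 → (S0 ⊔ R0 : Subgroup G) := fun p => ⟨(p.1 : G) * p.2,
      Subgroup.mul_mem _ ((le_sup_left : S0 ≤ _) p.1.2) ((le_sup_right : R0 ≤ _) p.2.2)⟩
    have hφ : Function.Surjective φ := by
      rintro ⟨x, hx⟩
      rw [← SetLike.mem_coe, Subgroup.coe_mul_of_right_le_normalizer_left S0 R0 hn] at hx
      obtain ⟨a, ha, b, hb, rfl⟩ := hx
      exact ⟨(⟨a, ha⟩, ⟨b, hb⟩), rfl⟩
    refine (Nat.card_le_card_of_surjective φ hφ).trans ?_
    rw [Nat.card_prod]
    exact (Nat.mul_le_mul hs hr).trans (by norm_num)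
  have m : Model (caseCert i) U (genX c s r w 1) := by
    refine ⟨by rw [hK]; rfl, fun g => ?_, fun x hx => ?_, fun x hx => ?_⟩
    · rw [Cert.inv, hinv]
      match g with
      | 0 => exact mul_inv_cancel c
      | 1 => exact inv_mul_cancel c
      | 2 => exact mul_inv_cancel s
      | 3 => exact inv_mul_cancel s
      | 4 => exact mul_inv_cancel r
      | 5 => exact inv_mul_cancel r
      | 6 => exact R.ww
      | 7 => exact one_mul 1
      | 8 => show (1 : G)⁻¹ * (1 : G)⁻¹ = 1; simp
      | n + 9 => exact one_mul 1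
    · rw [hrels, List.mem_append] at hx
      exact hx.elim (base_hold R hr3 hrs hrc hwr x) (hextra x)
    · rw [hsubs] at hx
      simp only [List.mem_cons, List.not_mem_nil, or_false] at hx
      rcases hx with rfl | rfl
      · exact Subgroup.subset_closure (by simp [prodW, genX])
      · exact Subgroup.subset_closure (by simp [prodW, genX])
  obtain ⟨hfin, hle⟩ := finite_card_le (case_complete i) m 21 hU
  rw [hK] at hle
  have := Subgroup.card_le_of_le hM
  omega

end

end CfsgLib.HSUniq
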