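import Cfsg.Agent.Lib.HSUniq.Model

/-!
The two candidates for the radical of the centralizer inside the 2-local subgroup.
-/

set_option autoImplicit false
set_option Elab.async false
set_option maxRecDepth 100000

namespace CfsgLib.HSUniq

/-- the involution of the radical, as a word -/
def wWord : Bool → List ℕ
  | false => [6]
  | true => [0, 6]

/-- the elements of the radical -/
def rListV : Bool → List ℕ
  | false => rList
  | true => rListB

/-- their words -/
def rWordsV : Bool → List (List ℕ)
  | false => rWords
  | true => rWordsB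

/-- words for the five generators -/
def rGenW (b : Bool) : List (List ℕ) :=
  [[0], [2, 0, 3, 2, 0, 3], [2, 2, 0, 3, 3, 2, 2, 0, 3, 3], [3, 4] ++ wWord b ++ [5, 2],
    [4, 3, 4] ++ wWord b ++ [5, 2, 5]]

/-- a word in the five generators, in letters -/
def rExp (b : Bool) (u : List ℕ) : List ℕ := u.flatMap fun k => (rGenW b).getD k []

theorem rData_ok : ∀ b : Bool, (rListV b).length = 64 ∧ (rListV b).Nodup ∧
    ((List.range 64).all fun i => ((rWordsV b).getD i []).all (fun k => Nat.blt k 5) &&
      Nat.beq (pev (rExp b ((rWordsV b).getD i []))) ((rListV b).getD i 0) &&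
      Nat.blt ((rListV b).getD i 0) 10752) = true ∧
    (rGenW b).all (fun u => u.all fun l => Nat.blt l 7) = true := by
  decide +kernel

theorem conj_facts : pconj (pev [3, 4]) 40 = 2 ∧ pev [3, 4] < 10752 ∧ pev [4] = gR * 64 ∧
    pev (2 :: 0 :: 3 :: [2, 0, 3]) = 8 ∧ pev [2, 2, 0, 3, 3, 2, 2, 0, 3, 3] = 32 := by decide +kernel

end CfsgLib.HSUniq
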