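import Cfsg.Agent.Lib.HSUniq.Basis
import Cfsg.Agent.Lib.HSUniq.MCases
import Cfsg.Agent.Lib.HSUniq.RData

/-!
Generators of the 2-local subgroup with the relations of the model, and the radical inside it.
-/

set_option autoImplicit false
set_option maxRecDepth 100000
set_option maxHeartbeats 1000000

namespace CfsgLib.HSUniq

open CfsgLib.CosetEnum

variable {G : Type*} [Group G] [Finite G] {t : G} {H R V M A : Subgroup G}

theorem par_facts : (∀ v < 64, vadd v v = emb (par v) ∧ par v < 8 ∧ vadd (vneg v) v = 0 ∧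
    (par v = 0 → ∃ b ∈ List.range 8, emb b = v)) ∧
    (∀ b < 8, emb b < 64 ∧ vadd (emb b) (emb b) = 0 ∧ par (emb b) = 0) ∧
    (∀ u < 64, ∀ v < 64, par (vadd u v) = bxor (par u) (par v)) ∧
    (∀ a < 8, ∀ b < 8, ∀ e < 8, ∀ i < 64, bxor (par i) (bxor (par i) (timg (a, b, e) 0)) = 0) := by
  decide +kernel

theorem timg_iter_facts : (∀ b < 8, (timg (2, 4, 3))^[7] b = b) ∧
    (∀ b < 8, (timg (2, 4, 3))^[8] b = timg (2, 4, 3) b) ∧
    (∀ b < 8, (timg (1, 4, 6))^[3] b = b) ∧ (∀ b < 8, (timg (1, 4, 6))^[4] b = timg (1, 4, 6) b) ∧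
    (∀ b < 8, timg (1, 0, 0) b = b ∨ timg (1, 0, 0) b ≠ b) := by decide +kernel

/-- The relations and the radical. -/
structure LocalData (t : G) (R M : Subgroup G) (c s r w : G) (var : Bool) : Prop where
  rel : MRel c s r w
  sq : c * c = t
  valM : ∀ g, g ∈ M ↔ ∃ p < 10752, valP c s w p = g
  inj : ∀ p < 10752, ∀ q < 10752, valP c s w p = valP c s w q → p = q
  valR : ∀ g, g ∈ R ↔ ∃ p ∈ rListV var, valP c s w p = g

theorem acts_iter {f : ℕ → G} {m : G} {a b e : ℕ} (ha : a < 8) (hb : b < 8) (he : e < 8)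
    (h : Acts8 f m (a, b, e)) :
    ∀ n, ∀ k < 8, (timg (a, b, e))^[n] k < 8 ∧ m ^ n * f k * (m ^ n)⁻¹ = f ((timg (a, b, e))^[n] k) := by
  intro n
  induction n with
  | zero => intro k hk; simp [hk]
  | succ n ih =>
    intro k hk
    obtain ⟨h1, h2⟩ := ih k hk
    rw [Function.iterate_succ_apply']
    refine ⟨timg_lt a ha b hb e he _ h1, ?_⟩
    rw [← h _ h1, ← h2, pow_succ']; group

theorem linR_lt (β v : ℕ) : linR β v < 64 := vlin_lt _ _ _ _

theorem linR'_lt (v : ℕ) : linR' v < 64 := linR_lt _ _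

theorem linW_lt (v : ℕ) : linW v < 64 := vlin_lt _ _ _ _

theorem linS_lt (β v : ℕ) : linS β v < 64 := vlin_lt _ _ _ _

theorem linC_lt (p q v : ℕ) : linC p q v < 64 := vlin_lt _ _ _ _

theorem linWS_lt (n v : ℕ) : linWS n v < 64 := linW_lt _

theorem vneg_lt (v : ℕ) : vneg v < 64 := vsmul_lt _ _

theorem exists_local (S : Setup t H R V M A) :
    ∃ (c s r w : G) (var : Bool), LocalData t R M c s r w var := by
  classical
  obtain ⟨f, F⟩ := exists_coord S
  obtain ⟨h7, h3, hrs, hwr, hww, hw6, hws, hfix, i1, i2, i3, i4⟩ := triples_facts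
  obtain ⟨it7, it8, it3, it4, -⟩ := timg_iter_facts
  obtain ⟨pf1, pf2, pf3, -⟩ := par_facts
  have hM1 : ∀ b < 8, (1 : G) * f b * 1⁻¹ = f b := fun b _ => by simp
  have trivA : ∀ m ∈ M, (∀ b < 8, m * f b * m⁻¹ = f b) → m ∈ A := fun m hm h => by
    have := S.same_act F hm (M.one_mem) fun b hb => (h b hb).trans (hM1 b hb).symm
    simpa using this
  have Vsq : ∀ v ∈ V, v * v = 1 := fun v hv => ((S.V_iff v).1 hv).2
  have VA : ∀ v ∈ V, v ∈ A := fun v hv => ((S.V_iff v).1 hv).1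
  -- the element of order seven
  obtain ⟨gs, hgs, ags⟩ := S.exists_act F (by norm_num) (by norm_num) (by norm_num) i1
  have iS := acts_iter (by norm_num) (by norm_num) (by norm_num) ags
  have hgs7A : gs ^ 7 ∈ A := trivA _ (M.pow_mem hgs 7) fun b hb => by rw [(iS 7 b hb).2, it7 b hb]
  set s : G := gs ^ 8 with hsdef
  have hs7 : s ^ 7 = 1 := by
    rw [hsdef, ← pow_mul, show 8 * 7 = 7 * 4 * 2 from rfl, pow_mul, pow_mul, S.A_four _ hgs7A, one_pow]
  have hsM : s ∈ M := M.pow_mem hgs 8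
  have acS : ∀ b < 8, s * f b * s⁻¹ = f (timg (2, 4, 3) b) := fun b hb => by
    rw [hsdef, (iS 8 b hb).2, it8 b hb]
  have hfixS : ∀ a ∈ A, s * a = a * s → a = 1 := by
    have hV : ∀ v ∈ V, s * v = v * s → v = 1 := by
      intro v hv h
      obtain ⟨b, hb, rfl⟩ := F.surj v hv
      have h' : s * f b * s⁻¹ = f b := by rw [h, mul_inv_cancel_right]
      rw [acS b hb] at h'
      rw [hfix b hb (F.inj _ (timg_lt 2 (by norm_num) 4 (by norm_num) 3 (by norm_num) b hb) b hb h'), F.zero]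
    intro a ha h
    have ha2 : a * a ∈ V := (S.V_iff _).2 ⟨A.mul_mem ha ha, by
      have := S.A_four a ha; rw [show (4 : ℕ) = 2 + 2 from rfl, pow_add, pow_two] at this; exact this⟩
    have h2 : a * a = 1 := hV _ ha2 (by
      have hc : Commute s a := h
      exact (hc.mul_right hc).eq)
    exact hV a ((S.V_iff a).2 ⟨ha, h2⟩) h
  -- the element of order three
  obtain ⟨gr, hgr, agr⟩ := S.exists_act F (by norm_num) (by norm_num) (by norm_num) i2
  have iR := acts_iter (by norm_num) (by norm_num) (by norm_num) agr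
  set r0 : G := gr ^ 4 with hr0def
  have hr0M : r0 ∈ M := M.pow_mem hgr 4
  have hgr3A : gr ^ 3 ∈ A := trivA _ (M.pow_mem hgr 3) fun b hb => by rw [(iR 3 b hb).2, it3 b hb]
  have hr03 : r0 ^ 3 = 1 := by
    rw [hr0def, ← pow_mul, show 4 * 3 = 3 * 4 from rfl, pow_mul, S.A_four _ hgr3A]
  have acR0 : ∀ b < 8, r0 * f b * r0⁻¹ = f (timg (1, 4, 6) b) := fun b hb => by
    rw [hr0def, (iR 4 b hb).2, it4 b hb]
  have lt243 : ∀ b < 8, timg (2, 4, 3) b < 8 := fun b hb =>
    timg_lt 2 (by norm_num) 4 (by norm_num) 3 (by norm_num) b hb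
  have lt146 : ∀ b < 8, timg (1, 4, 6) b < 8 := fun b hb =>
    timg_lt 1 (by norm_num) 4 (by norm_num) 6 (by norm_num) b hb
  have hb0 : r0 * s * r0⁻¹ * (s * s)⁻¹ ∈ A := by
    have h := S.same_act F (M.mul_mem hr0M hsM) (M.mul_mem (M.mul_mem hsM hsM) hr0M) fun b hb => by
      have e1 : r0 * s * f b * (r0 * s)⁻¹ = r0 * (s * f b * s⁻¹) * r0⁻¹ := by group
      have e2 : s * s * r0 * f b * (s * s * r0)⁻¹ = s * (s * (r0 * f b * r0⁻¹) * s⁻¹) * s⁻¹ := by group
      rw [e1, e2, acS b hb, acR0 _ (lt243 b hb), acR0 b hb, acS _ (lt146 b hb), acS _ (lt243 _ (lt146 b hb)), hrs b hb]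
    have := S.A_normal _ (M.mul_mem (M.mul_mem hsM hsM) hr0M) _ h
    have e : s * s * r0 * ((s * s * r0)⁻¹ * (r0 * s)) * (s * s * r0)⁻¹ = r0 * s * r0⁻¹ * (s * s)⁻¹ := by group
    rwa [e] at this
  obtain ⟨a, ha, hra⟩ : ∃ a ∈ A, (a * r0) * s * (a * r0)⁻¹ = s * s := by
    let ψ : A → A := fun a => ⟨(a : G) * (s * s * (a : G)⁻¹ * (s * s)⁻¹),
      A.mul_mem a.2 (S.A_normal _ (M.mul_mem hsM hsM) _ (A.inv_mem a.2))⟩
    have hψ : Function.Injective ψ := by
      rintro ⟨x, hx⟩ ⟨y, hy⟩ h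
      have h' : x * (s * s * x⁻¹ * (s * s)⁻¹) = y * (s * s * y⁻¹ * (s * s)⁻¹) := congrArg Subtype.val h
      have hk : x⁻¹ * y ∈ A := A.mul_mem (A.inv_mem hx) hy
      have e : s * s * (x⁻¹ * y) = (x⁻¹ * y) * (s * s) := by
        have h1 : s * s * x⁻¹ * y = x⁻¹ * y * (s * s) := by
          calc s * s * x⁻¹ * y = x⁻¹ * (x * (s * s * x⁻¹ * (s * s)⁻¹)) * (s * s) * y := by group
            _ = x⁻¹ * (y * (s * s * y⁻¹ * (s * s)⁻¹)) * (s * s) * y := by rw [h']
            _ = _ := by group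
        rw [← h1]; group
      have e4 : s = (s * s) ^ 4 := by
        rw [← pow_two, ← pow_mul, show 2 * 4 = 7 + 1 from rfl, pow_add, hs7, one_mul, pow_one]
      have := hfixS _ hk (by rw [e4]; exact ((show Commute (s * s) (x⁻¹ * y) from e).pow_left 4).eq)
      exact Subtype.ext (inv_mul_eq_one.1 this)
    obtain ⟨⟨a, ha⟩, hae⟩ := Finite.injective_iff_surjective.1 hψ ⟨_, A.inv_mem hb0⟩
    refine ⟨a, ha, ?_⟩
    have h' : a * (s * s * a⁻¹ * (s * s)⁻¹) = (r0 * s * r0⁻¹ * (s * s)⁻¹)⁻¹ := congrArg Subtype.val hae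
    have hc := S.A_comm a ha _ hb0
    calc a * r0 * s * (a * r0)⁻¹ = a * (r0 * s * r0⁻¹ * (s * s)⁻¹) * (s * s * a⁻¹ * (s * s)⁻¹) * (s * s) := by group
      _ = (r0 * s * r0⁻¹ * (s * s)⁻¹) * (a * (s * s * a⁻¹ * (s * s)⁻¹)) * (s * s) := by rw [hc]; group
      _ = s * s := by rw [h', mul_inv_cancel, one_mul]
  set r : G := a * r0 with hrdef
  have hrM : r ∈ M := M.mul_mem (S.A_le ha) hr0M
  have actA : ∀ x ∈ A, ∀ v ∈ V, x * v * x⁻¹ = v := fun x hx v hv => by
    rw [S.A_comm x hx v (VA v hv), mul_inv_cancel_right]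
  have acR : ∀ b < 8, r * f b * r⁻¹ = f (timg (1, 4, 6) b) := fun b hb => by
    rw [← actA a ha _ (F.mem _ (lt146 b hb)), ← acR0 b hb, hrdef]; group
  have hr3 : r ^ 3 = 1 := by
    have h3A : r ^ 3 ∈ A := trivA _ (M.pow_mem hrM 3) fun b hb => by
      have e : r ^ 3 * f b * (r ^ 3)⁻¹ = r * (r * (r * f b * r⁻¹) * r⁻¹) * r⁻¹ := by simp [pow_succ, mul_assoc]
      rw [e, acR b hb, acR _ (lt146 b hb), acR _ (lt146 _ (lt146 b hb)), h3 b hb]
    refine hfixS _ h3A ?_
    have e1 : r ^ 3 * s * (r ^ 3)⁻¹ = r * (r * (r * s * r⁻¹) * r⁻¹) * r⁻¹ := by simp [pow_succ, mul_assoc]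
    have e2 : ∀ n : ℕ, r * s ^ n * r⁻¹ = s ^ (2 * n) := fun n => by
      rw [← MulAut.conj_apply, map_pow, MulAut.conj_apply, hra, ← pow_two, ← pow_mul]
    have e3 : r ^ 3 * s * (r ^ 3)⁻¹ = s := by
      rw [e1, hra, ← pow_two, e2, e2, show 2 * (2 * 2) = 7 + 1 from rfl, pow_add, hs7, one_mul, pow_one]
    conv_lhs => rw [← e3]
    group
  -- the square root
  obtain ⟨a0, ha0, ha0t⟩ := S.rootA t S.tV
  have hrt : r * t * r⁻¹ = t := by
    have := acR 1 (by norm_num)
    rwa [show timg (1, 4, 6) 1 = 1 from rfl, F.one] at this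
  have hA1 : r * a0 * r⁻¹ ∈ A := S.A_normal r hrM a0 ha0
  have hA2 : r * (r * a0 * r⁻¹) * r⁻¹ ∈ A := S.A_normal r hrM _ hA1
  set c : G := a0 * (r * a0 * r⁻¹) * (r * (r * a0 * r⁻¹) * r⁻¹) with hcdef
  have hcA : c ∈ A := A.mul_mem (A.mul_mem ha0 hA1) hA2
  have hrc : r * c * r⁻¹ = c := by
    have e : r * c * r⁻¹ = (r * a0 * r⁻¹) * (r * (r * a0 * r⁻¹) * r⁻¹) * (r ^ 3 * a0 * (r ^ 3)⁻¹) := by
      rw [hcdef]; simp [pow_succ, mul_assoc]
    rw [e, hr3, one_mul, inv_one, mul_one, S.A_comm _ (A.mul_mem hA1 hA2) _ ha0, hcdef]; simp only [mul_assoc]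
  have sqmul : ∀ x ∈ A, ∀ y ∈ A, (x * y) * (x * y) = (x * x) * (y * y) := fun x hx y hy => by
    calc x * y * (x * y) = x * (y * x) * y := by group
      _ = _ := by rw [S.A_comm y hy x hx]; group
  have hct : c * c = t := by
    have e1 : (r * a0 * r⁻¹) * (r * a0 * r⁻¹) = t := by
      rw [show (r * a0 * r⁻¹) * (r * a0 * r⁻¹) = r * (a0 * a0) * r⁻¹ by group, ha0t, hrt]
    have e2 : (r * (r * a0 * r⁻¹) * r⁻¹) * (r * (r * a0 * r⁻¹) * r⁻¹) = t := by
      rw [show (r * (r * a0 * r⁻¹) * r⁻¹) * (r * (r * a0 * r⁻¹) * r⁻¹) =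
        r * ((r * a0 * r⁻¹) * (r * a0 * r⁻¹)) * r⁻¹ by group, e1, hrt]
    rw [hcdef, sqmul _ (A.mul_mem ha0 hA1) _ hA2, sqmul _ ha0 _ hA1, ha0t, e1, e2, S.t_sq, one_mul]
  have hA1' : s * c * s⁻¹ ∈ A := S.A_normal s hsM c hcA
  have hA2' : s * (s * c * s⁻¹) * s⁻¹ ∈ A := S.A_normal s hsM _ hA1'
  have C : CRel c s := ⟨S.A_four c hcA, S.A_comm c hcA _ hA1', S.A_comm c hcA _ hA2'⟩
  have avA : ∀ v, av c s v ∈ A := fun v => A.mul_mem (A.mul_mem (A.pow_mem hcA _) (A.pow_mem hA1' _)) (A.pow_mem hA2' _)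
  have av1 : av c s 1 = c := by simp [av]
  have av4 : av c s 4 = s * c * s⁻¹ := by simp [av]
  have av16 : av c s 16 = s * (s * c * s⁻¹) * s⁻¹ := by simp [av]
  have conjLin : ∀ g : G, ∀ p q e : ℕ, g * c * g⁻¹ = av c s p → g * (s * c * s⁻¹) * g⁻¹ = av c s q →
      g * (s * (s * c * s⁻¹) * s⁻¹) * g⁻¹ = av c s e → ∀ v, g * av c s v * g⁻¹ = av c s (vlin p q e v) := by
    intro g p q e h1 h2 h3 v
    rw [conj_av, h1, h2, h3, av_vlin C]
  have sqt : ∀ b < 8, av c s (emb b) = f b := by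
    have e2 : av c s 2 = t := by rw [← hct]; simp [av, pow_two]
    have f2 : f 2 = s * t * s⁻¹ := by
      have := acS 1 (by norm_num); rw [F.one] at this; exact this.symm
    have f4 : f 4 = s * f 2 * s⁻¹ := (acS 2 (by norm_num)).symm
    have e8 : av c s 8 = f 2 := by rw [f2, ← hct]; simp [av, pow_two, mul_assoc]
    have e32 : av c s 32 = f 4 := by rw [f4, f2, ← hct]; simp [av, pow_two, mul_assoc]
    intro b hb
    have l1 : ∀ (P : Prop) [Decidable P],
        (if P then 1 else 0) < 8 ∧ (if P then 2 else 0) < 8 ∧ (if P then 4 else 0) < 8 := fun P _ => by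
      split <;> simp
    rw [bits_eq b hb, F.mul _ (bxor_facts _ (l1 _).1 _ (l1 _).2.1).1 _ (l1 _).2.2, F.mul _ (l1 _).1 _ (l1 _).2.1,
      (bxor_facts _ (bxor_facts _ (l1 _).1 _ (l1 _).2.1).1 _ (l1 _).2.2).2, (bxor_facts _ (l1 _).1 _ (l1 _).2.1).2,
      av_vadd C, av_vadd C]
    have z0 : av c s (emb 0) = f 0 := by rw [F.zero]; simp [av, emb]
    congr 1
    · congr 1
      · split
        · exact e2.trans F.one.symm
        · exact z0
      · split
        · exact e8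
        · exact z0
    · split
      · exact e32
      · exact z0
  have avsq : ∀ v < 64, av c s v * av c s v = f (par v) := fun v hv => by
    rw [← av_vadd C, (pf1 v hv).1, sqt _ (pf1 v hv).2.1]
  have avinj : ∀ u < 64, ∀ v < 64, av c s u = av c s v → u = v := by
    have hker : ∀ v < 64, av c s v = 1 → v = 0 := by
      intro v hv h
      obtain ⟨-, hp8, -, hp0⟩ := pf1 v hv
      have := avsq v hv
      rw [h, one_mul, ← F.zero] at this
      obtain ⟨b, hb, rfl⟩ := hp0 (F.inj _ (by norm_num) _ hp8 this).symm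
      rw [sqt b (List.mem_range.1 hb), ← F.zero] at h
      rw [F.inj b (List.mem_range.1 hb) 0 (by norm_num) h]; rfl
    intro u hu v hv h
    have h1 : av c s (vadd (vneg v) u) = 1 := by
      rw [av_vadd C, h, ← av_vadd C, (pf1 v hv).2.2.1, av_zero]
    have h2 := hker _ (vadd_lt _ _) h1
    exact ((show ∀ v < 64, ∀ u < 64, vadd (vneg v) u = 0 → u = v by decide +kernel) v hv u hu h2)
  have avsurj : ∀ x ∈ A, ∃ v < 64, av c s v = x := by
    let g : Fin 64 → A := fun v => ⟨av c s v, avA v⟩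
    have hg : Function.Bijective g := (Nat.bijective_iff_injective_and_card g).2
      ⟨fun u v h => Fin.ext (avinj u u.2 v v.2 (congrArg Subtype.val h)), by rw [Nat.card_fin, S.cardA]⟩
    intro x hx
    obtain ⟨v, hv⟩ := hg.2 ⟨x, hx⟩
    exact ⟨v, v.2, congrArg Subtype.val hv⟩
  have lineq : ∀ g : G, ∀ L : ℕ → ℕ, (∀ v, g * av c s v * g⁻¹ = av c s (L v)) → ∀ v, L v < 64 →
      ∀ L2 : ℕ, L2 < 64 → g * av c s v * g⁻¹ = av c s L2 → L v = L2 := fun g L hL v hv L2 h2 h =>
    avinj _ hv _ h2 ((hL v).symm.trans h)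
  -- the linear maps of s and r
  obtain ⟨β, hβ, eβ⟩ := avsurj _ (S.A_normal s hsM _ hA2')
  have linS' : ∀ v, s * av c s v * s⁻¹ = av c s (linS β v) :=
    conjLin s 4 16 β av4.symm av16.symm eβ.symm
  have linRr : ∀ v, r * av c s v * r⁻¹ = av c s (linR β v) := by
    refine conjLin r 1 16 _ (hrc.trans av1.symm) ?_ ?_
    · rw [av16]
      calc r * (s * c * s⁻¹) * r⁻¹ = (r * s * r⁻¹) * (r * c * r⁻¹) * (r * s * r⁻¹)⁻¹ := by group
        _ = _ := by rw [hra, hrc]; group
    · rw [← linS', ← linS', ← linS', ← linS', av1]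
      calc r * (s * (s * c * s⁻¹) * s⁻¹) * r⁻¹ =
          (r * s * r⁻¹) * (r * s * r⁻¹) * (r * c * r⁻¹) * ((r * s * r⁻¹) * (r * s * r⁻¹))⁻¹ := by group
        _ = _ := by rw [hra, hrc]; group
  have hβ45 : β = 45 := by
    have lS : ∀ v, linS β v < 64 := fun v => vlin_lt _ _ _ _
    refine cube_unique β hβ ?_ (fun v hv => ?_) (fun v hv => ?_)
    · have h := avsq β hβ
      have e : av c s β * av c s β = f 3 := by
        rw [eβ, ← av16, show s * av c s 16 * s⁻¹ * (s * av c s 16 * s⁻¹) = s * (av c s 16 * av c s 16) * s⁻¹ by group,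
          avsq 16 (by norm_num), show par 16 = 4 from rfl, acS 4 (by norm_num)]
        rfl
      exact F.inj _ (pf1 β hβ).2.1 3 (by norm_num) (h.symm.trans e)
    · have hv64 : v < 64 := by simp only [List.mem_cons, List.not_mem_nil, or_false] at hv; omega
      refine avinj _ (lS _) _ hv64 ?_
      simp only [← linS']
      calc _ = s ^ 7 * av c s v * (s ^ 7)⁻¹ := by simp [pow_succ, mul_assoc]
        _ = _ := by rw [hs7]; simp
    · refine avinj _ (linR_lt _ _) _ (lS _) ?_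
      simp only [← linS', ← linRr]
      calc r * (s * av c s v * s⁻¹) * r⁻¹ = (r * s * r⁻¹) * (r * av c s v * r⁻¹) * (r * s * r⁻¹)⁻¹ := by group
        _ = _ := by rw [hra]; group
  subst hβ45
  -- the second radical
  obtain ⟨g0, hg0, ag0⟩ := S.exists_act F (by norm_num) (by norm_num) (by norm_num) i4
  have htp : g0 * t * g0⁻¹ = f 6 := by
    have := ag0 1 (by norm_num); rw [F.one] at this; exact this
  let R' : Subgroup G := R.map (MulAut.conj g0).toMonoidHom
  have memR' : ∀ x, x ∈ R → g0 * x * g0⁻¹ ∈ R' := fun x hx => ⟨x, hx, rfl⟩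
  have toR : ∀ m : G, m * f 6 * m⁻¹ = t → ∀ x ∈ R', m * x * m⁻¹ ∈ R := by
    rintro m hm _ ⟨x, hx, rfl⟩
    have : (m * g0) * t * (m * g0)⁻¹ = t := by
      calc (m * g0) * t * (m * g0)⁻¹ = m * (g0 * t * g0⁻¹) * m⁻¹ := by group
        _ = t := by rw [htp, hm]
    have h := S.conjR this hx
    show m * (g0 * x * g0⁻¹) * m⁻¹ ∈ R
    have e : m * (g0 * x * g0⁻¹) * m⁻¹ = m * g0 * x * (m * g0)⁻¹ := by group
    rw [e]; exact h
  have normR' : ∀ m : G, m * f 6 * m⁻¹ = f 6 → ∀ x ∈ R', m * x * m⁻¹ ∈ R' := by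
    intro m hm x hx
    have h := toR (g0⁻¹ * m) (by
      calc g0⁻¹ * m * f 6 * (g0⁻¹ * m)⁻¹ = g0⁻¹ * (m * f 6 * m⁻¹) * g0 := by group
        _ = t := by rw [hm, ← htp]; group) x hx
    have := memR' _ h
    have e : g0 * (g0⁻¹ * m * x * (g0⁻¹ * m)⁻¹) * g0⁻¹ = m * x * m⁻¹ := by group
    rwa [e] at this
  have VR' : ∀ v ∈ V, v ∈ R' := fun v hv => by
    have h1 : g0⁻¹ * v * g0⁻¹⁻¹ ∈ V := ((S.hM _).1 (M.inv_mem hg0) v).1 hv
    have := memR' _ (S.V_le_R h1)
    have e : g0 * (g0⁻¹ * v * g0⁻¹⁻¹) * g0⁻¹ = v := by group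
    rwa [e] at this
  obtain ⟨c0, hc0R, hc0t, hc0c⟩ := S.rootR
  have hc0A : c0 ∈ A := S.kerV _ (S.RM hc0R) fun v hv => hc0c v (S.V_le_R hv)
  obtain ⟨γ, hγ, eγ⟩ := avsurj _ (S.A_normal g0 hg0 _ hc0A)
  have hγp : par γ = 6 := by
    refine F.inj _ (pf1 γ hγ).2.1 6 (by norm_num) ?_
    rw [← avsq γ hγ, eγ, ← htp, ← hc0t]; group
  have parR' : ∀ v < 64, par v = 0 ∨ par v = 6 → av c s v ∈ R' := by
    intro v hv hp
    have base : ∀ u < 64, par u = 0 → av c s u ∈ R' := fun u hu h => by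
      obtain ⟨b, hb, rfl⟩ := (pf1 u hu).2.2.2 h
      rw [sqt b (List.mem_range.1 hb)]; exact VR' _ (F.mem _ (List.mem_range.1 hb))
    rcases hp with h | h
    · exact base v hv h
    · have hu := vadd_lt (vneg γ) v
      have h0 : par (vadd (vneg γ) v) = 0 := by
        rw [pf3 _ (vneg_lt γ) _ hv, h,
          (show ∀ u < 64, par (vneg u) = par u by decide +kernel) γ hγ, hγp]
        rfl
      have := R'.mul_mem (eγ ▸ memR' _ hc0R) (base _ hu h0)
      rwa [← av_vadd C, (show ∀ u < 64, ∀ v < 64, vadd u (vadd (vneg u) v) = v by decide +kernel) γ hγ v hv] at this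
  have sqR' : ∀ x ∈ R', x * x = 1 ∨ x * x = f 6 := by
    rintro _ ⟨x, hx, rfl⟩
    show g0 * x * g0⁻¹ * (g0 * x * g0⁻¹) = 1 ∨ g0 * x * g0⁻¹ * (g0 * x * g0⁻¹) = f 6
    rw [show g0 * x * g0⁻¹ * (g0 * x * g0⁻¹) = g0 * (x * x) * g0⁻¹ by group, ← htp]
    rcases S.sqR x hx with h | h <;> rw [h]
    · exact Or.inl (by group)
    · exact Or.inr rfl
  -- an element of the second radical acting as the involution
  obtain ⟨w1, hw1, aw1⟩ := S.exists_act F (by norm_num) (by norm_num) (by norm_num) i3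
  have lt142 : ∀ b < 8, timg (1, 4, 2) b < 8 := fun b hb =>
    timg_lt 1 (by norm_num) 4 (by norm_num) 2 (by norm_num) b hb
  have hg0V : ∀ v ∈ V, g0 * v * g0⁻¹ ∈ V := fun v hv => ((S.hM g0).1 hg0 v).1 hv
  obtain ⟨e0, he0, ae0⟩ := S.R_act F (m := g0⁻¹ * w1 * g0) (by
      calc g0⁻¹ * w1 * g0 * t * (g0⁻¹ * w1 * g0)⁻¹ = g0⁻¹ * (w1 * (g0 * t * g0⁻¹) * w1⁻¹) * g0 := by group
        _ = t := by rw [htp, aw1 6 (by norm_num), show timg (1, 4, 2) 6 = 6 from rfl, ← htp]; group)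
    (fun v hv => by
      obtain ⟨b, hb, eb⟩ := F.surj _ (hg0V v hv)
      have e : g0⁻¹ * w1 * g0 * v * (g0⁻¹ * w1 * g0)⁻¹ = g0⁻¹ * (w1 * f b * w1⁻¹) * g0 := by rw [eb]; group
      rw [e, aw1 b hb]
      rcases hw6 b hb with h | h
      · left; rw [h, eb]; group
      · right; rw [h, F.mul b hb 6 (by norm_num), eb, ← htp]; group)
  set e' : G := g0 * e0 * g0⁻¹ with he'def
  have he'R : e' ∈ R' := memR' _ he0
  have he'M : e' ∈ M := M.mul_mem (M.mul_mem hg0 (S.RM he0)) (M.inv_mem hg0)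
  have acE : ∀ b < 8, e' * f b * e'⁻¹ = f (timg (1, 4, 2) b) := by
    intro b hb
    have hv : g0⁻¹ * f b * g0⁻¹⁻¹ ∈ V := ((S.hM _).1 (M.inv_mem hg0) _).1 (F.mem b hb)
    calc e' * f b * e'⁻¹ = g0 * (e0 * (g0⁻¹ * f b * g0⁻¹⁻¹) * e0⁻¹) * g0⁻¹ := by rw [he'def]; group
      _ = w1 * f b * w1⁻¹ := by rw [ae0 _ hv]; group
      _ = _ := aw1 b hb
  -- inverting r
  have lR : ∀ v, r * av c s v * r⁻¹ = av c s (linR' v) := linRr
  have lR2 : ∀ v, r⁻¹ * av c s v * r = av c s (linR' (linR' v)) := fun v => by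
    rw [← lR, ← lR]
    have : r⁻¹ = r * r := inv_eq_of_mul_eq_one_right (by rw [← hr3]; simp [pow_succ, mul_assoc])
    conv_lhs => rw [this]
    rw [show r * (r * av c s v * r⁻¹) * r⁻¹ = r * r * av c s v * (r * r)⁻¹ by group, ← this, inv_inv]
  have hd : e' * r * e'⁻¹ * r ∈ A := by
    have h := S.same_act F (M.mul_mem (M.mul_mem hrM he'M) hrM) he'M fun b hb => by
      have e1 : r * e' * r * f b * (r * e' * r)⁻¹ = r * (e' * (r * f b * r⁻¹) * e'⁻¹) * r⁻¹ := by group
      rw [e1, acR b hb, acE _ (lt146 b hb), acR _ (lt142 _ (lt146 b hb)), acE b hb, hwr b hb,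
        h3 _ (lt142 b hb)]
    have h' := S.A_normal _ he'M _ h
    have e : e' * (e'⁻¹ * (r * e' * r)) * e'⁻¹ = r * (e' * r * e'⁻¹ * r) * r⁻¹ := by group
    rw [e] at h'
    have := S.A_normal _ (M.inv_mem hrM) _ h'
    have e2 : r⁻¹ * (r * (e' * r * e'⁻¹ * r) * r⁻¹) * r⁻¹⁻¹ = e' * r * e'⁻¹ * r := by group
    rwa [e2] at this
  obtain ⟨δ, hδ, eδ⟩ := avsurj _ hd
  obtain ⟨α, hα, heα⟩ : ∃ α ∈ List.range 64, vadd α (vneg (linR' (linR' α))) = vneg δ := by
    refine norm_solve δ hδ (avinj _ (vadd_lt _ _) 0 (by norm_num) ?_)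
    rw [av_vadd C, av_vadd C, av_zero, ← lR2, ← lR, eδ]
    calc e' * r * e'⁻¹ * r * (r⁻¹ * (e' * r * e'⁻¹ * r) * r * (r * (e' * r * e'⁻¹ * r) * r⁻¹))
        = e' * r * e'⁻¹ * (e' * r * e'⁻¹) * (r ^ 3 * (e' * r * e'⁻¹)) := by simp [pow_succ, mul_assoc]
      _ = e' * (r * r * r) * e'⁻¹ := by rw [hr3, one_mul]; simp [mul_assoc]
      _ = 1 := by rw [show r * r * r = 1 by rw [← hr3]; simp [pow_succ, mul_assoc]]; group
  rw [List.mem_range] at hα
  set w0 : G := av c s α * e' with hw0def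
  have hw0M : w0 ∈ M := M.mul_mem (S.A_le (avA α)) he'M
  have avneg : ∀ v < 64, av c s (vneg v) = (av c s v)⁻¹ := fun v hv =>
    eq_inv_of_mul_eq_one_left (by rw [← av_vadd C, (pf1 v hv).2.2.1, av_zero])
  have hw0r : w0 * r * w0⁻¹ = r⁻¹ := by
    have h1 : av c s (vadd α (vneg (linR' (linR' α)))) = av c s (vneg δ) := by rw [heα]
    rw [av_vadd C, avneg _ (linR'_lt _), avneg _ hδ, ← lR2, eδ] at h1
    calc w0 * r * w0⁻¹ = av c s α * (e' * r * e'⁻¹ * r) * (r⁻¹ * (av c s α)⁻¹ * r) * r⁻¹ := by rw [hw0def]; group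
      _ = (e' * r * e'⁻¹ * r) * (av c s α * (r⁻¹ * (av c s α)⁻¹ * r)) * r⁻¹ := by
          rw [S.A_comm _ (avA α) _ hd]; group
      _ = (e' * r * e'⁻¹ * r) * (av c s α * (r⁻¹ * av c s α * r)⁻¹) * r⁻¹ := by group
      _ = r⁻¹ := by rw [h1, mul_inv_cancel, one_mul]
  have acW : ∀ b < 8, w0 * f b * w0⁻¹ = f (timg (1, 4, 2) b) := fun b hb => by
    rw [← actA _ (avA α) _ (F.mem _ (lt142 b hb)), ← acE b hb, hw0def]; group
  have hw02 : w0 * w0 ∈ A := trivA _ (M.mul_mem hw0M hw0M) fun b hb => by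
    rw [show w0 * w0 * f b * (w0 * w0)⁻¹ = w0 * (w0 * f b * w0⁻¹) * w0⁻¹ by group, acW b hb,
      acW _ (lt142 b hb), hww b hb]
  have hws3A : (w0 * s) ^ 3 ∈ A := trivA _ (M.pow_mem (M.mul_mem hw0M hsM) 3) fun b hb => by
    have e : (w0 * s) ^ 3 * f b * ((w0 * s) ^ 3)⁻¹ =
        w0 * (s * (w0 * (s * (w0 * (s * f b * s⁻¹) * w0⁻¹) * s⁻¹) * w0⁻¹) * s⁻¹) * w0⁻¹ := by
      simp [pow_succ, mul_assoc]
    rw [e, acS b hb, acW _ (lt243 b hb), acS _ (lt142 _ (lt243 b hb)), acW _ (lt243 _ (lt142 _ (lt243 b hb))),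
      acS _ (lt142 _ (lt243 _ (lt142 _ (lt243 b hb)))),
      acW _ (lt243 _ (lt142 _ (lt243 _ (lt142 _ (lt243 b hb))))), hws b hb]
  obtain ⟨p, hp, ep⟩ := avsurj _ (S.A_normal _ hw0M _ hcA)
  obtain ⟨q, hq, eq'⟩ := avsurj _ (S.A_normal _ hw0M _ hA1')
  have hw0rc : ∀ x : G, r * x * r⁻¹ = x → r * (w0 * x * w0⁻¹) * r⁻¹ = w0 * x * w0⁻¹ := fun x hx => by
    have e : r * w0 = w0 * r⁻¹ := by
      calc r * w0 = (w0 * r * w0⁻¹)⁻¹ * w0 := by rw [hw0r, inv_inv]
        _ = _ := by group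
    have hx' : r⁻¹ * x * r = x := by
      calc r⁻¹ * x * r = r⁻¹ * (r * x * r⁻¹) * r := by rw [hx]
        _ = x := by group
    calc r * (w0 * x * w0⁻¹) * r⁻¹ = (r * w0) * x * (r * w0)⁻¹ := by group
      _ = w0 * (r⁻¹ * x * r) * w0⁻¹ := by rw [e]; group
      _ = _ := by rw [hx']
  have linWw : ∀ v, w0 * av c s v * w0⁻¹ = av c s (vlin p q (linR' (linR' q)) v) := by
    refine conjLin w0 p q _ ep.symm eq'.symm ?_
    rw [← lR2, eq']
    have e : w0 * r = r⁻¹ * w0 := by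
      calc w0 * r = (w0 * r * w0⁻¹) * w0 := by group
        _ = _ := by rw [hw0r]
    have e2 : s * (s * c * s⁻¹) * s⁻¹ = r * (s * c * s⁻¹) * r⁻¹ := by
      calc s * (s * c * s⁻¹) * s⁻¹ = (s * s) * c * (s * s)⁻¹ := by group
        _ = (r * s * r⁻¹) * (r * c * r⁻¹) * (r * s * r⁻¹)⁻¹ := by rw [hra, hrc]
        _ = _ := by group
    rw [e2]
    calc w0 * (r * (s * c * s⁻¹) * r⁻¹) * w0⁻¹ = (w0 * r) * (s * c * s⁻¹) * (w0 * r)⁻¹ := by group
      _ = _ := by rw [e]; group
  obtain ⟨hp3, hq16⟩ : p = 3 ∧ q = 16 := by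
    have h := List.all_eq_true.1 w_unique p (List.mem_range.2 hp)
    have hp1 : linR' p = p := avinj _ (linR'_lt _) _ hp (by rw [← lR, ep, hw0rc c hrc])
    have hp2 : par p = 1 := F.inj _ (pf1 p hp).2.1 1 (by norm_num) (by
      rw [← avsq p hp, ep, show w0 * c * w0⁻¹ * (w0 * c * w0⁻¹) = w0 * (c * c) * w0⁻¹ by group, hct, ← F.one,
        acW 1 (by norm_num)]
      rfl)
    simp only [hp1, hp2, Nat.beq_eq, List.all_eq_true, List.mem_range, Bool.or_eq_true, Bool.and_eq_true,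
      Bool.not_eq_true', and_self, Bool.and_eq_false_iff] at h
    rcases h with h | h
    · simp at h
    have hq4 : par q = 4 := F.inj _ (pf1 q hq).2.1 4 (by norm_num) (by
      rw [← avsq q hq, eq', show w0 * (s * c * s⁻¹) * w0⁻¹ * (w0 * (s * c * s⁻¹) * w0⁻¹) =
        w0 * (s * (c * c) * s⁻¹) * w0⁻¹ by group, hct, ← F.one, acS 1 (by norm_num), acW _ (lt243 1 (by norm_num))]
      rfl)
    rcases h q hq with hh | hh
    swap
    · exact hh
    exfalso
    have hfA : ∀ x : G, x ∈ A → ∀ v, x * av c s v * x⁻¹ = av c s v := fun x hx v => by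
      rw [S.A_comm x hx _ (avA v), mul_inv_cancel_right]
    have c1 : ∀ v ∈ ([1, 4, 16] : List ℕ), linC p q (linC p q v) = v := fun v hv => by
      have hv64 : v < 64 := by simp only [List.mem_cons, List.not_mem_nil, or_false] at hv; omega
      refine avinj _ (linC_lt _ _ _) _ hv64 ?_
      unfold linC
      rw [← linWw, ← linWw]
      calc w0 * (w0 * av c s v * w0⁻¹) * w0⁻¹ = (w0 * w0) * av c s v * (w0 * w0)⁻¹ := by group
        _ = _ := hfA _ hw02 v
    have c2 : ∀ v ∈ ([1, 4, 16] : List ℕ),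
        linC p q (linS 45 (linC p q (linS 45 (linC p q (linS 45 v))))) = v := fun v hv => by
      have hv64 : v < 64 := by simp only [List.mem_cons, List.not_mem_nil, or_false] at hv; omega
      refine avinj _ (linC_lt _ _ _) _ hv64 ?_
      simp only [linC, ← linWw, ← linS']
      refine Eq.trans ?_ (hfA _ hws3A v)
      simp [pow_succ, mul_assoc]
    simp only [List.mem_cons, List.not_mem_nil, or_false, forall_eq_or_imp, forall_eq] at c1 c2
    simp [hq4, c1.1, c1.2.1, c1.2.2, c2.1, c2.2.1, c2.2.2] at hh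
  subst hp3 hq16
  have lW : ∀ v, w0 * av c s v * w0⁻¹ = av c s (linW v) := fun v => by rw [linWw, linW_eq]
  obtain ⟨k, hk, ek⟩ := avsurj _ hw02
  have hk1 : linR' k = k := avinj _ (linR'_lt _) _ hk (by
    rw [← lR, ek]
    have e : r * w0 = w0 * r⁻¹ := by
      calc r * w0 = (w0 * r * w0⁻¹)⁻¹ * w0 := by rw [hw0r, inv_inv]
        _ = _ := by group
    calc r * (w0 * w0) * r⁻¹ = (r * w0) * w0 * r⁻¹ := by group
      _ = w0 * (w0 * r * w0⁻¹) * w0 * r⁻¹ := by rw [e, hw0r]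
      _ = w0 * w0 := by group)
  have hk2 : linW k = k := avinj _ (linW_lt _) _ hk (by rw [← lW, ek]; group)
  have hval : av c s (vadd (vadd (vneg α) (linW (vneg α))) k) = e' * e' := by
    rw [av_vadd C, av_vadd C, ← lW, ek, avneg α hα, hw0def]; group
  obtain ⟨hk0, j, hj, hjp⟩ : k = 0 ∧ ∃ j ∈ List.range 4, par (vadd j α) = 0 ∨ par (vadd j α) = 6 := by
    have h := List.all_eq_true.1 k_zero (vneg α) (List.mem_range.2 (vsmul_lt _ _))
    rw [List.all_eq_true] at h
    have hh := h k (List.mem_range.2 hk)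
    have hcond : vadd (vadd (vneg α) (linW (vneg α))) k = 0 ∨ vadd (vadd (vneg α) (linW (vneg α))) k = 40 := by
      rcases sqR' e' he'R with h2 | h2
      · exact Or.inl (avinj _ (vadd_lt _ _) 0 (by norm_num) (by rw [hval, h2, av_zero]))
      · refine Or.inr (avinj _ (vadd_lt _ _) 40 (by norm_num) ?_)
        rw [hval, h2, ← sqt 6 (by norm_num)]
        rfl
    rw [(show ∀ u < 64, vneg (vneg u) = u by decide +kernel) α hα] at hh
    simp only [hk1, hk2, Bool.or_eq_true, Bool.and_eq_true, Nat.beq_eq, List.any_eq_true, Bool.not_eq_true',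
      Bool.and_eq_false_iff, Bool.or_eq_false_iff, and_self, true_and, Bool.true_and, Bool.or_true] at hh
    rcases hh with hh | hh
    · rcases hcond with hc | hc <;> simp [hc] at hh
    · exact hh
  subst hk0
  rw [av_zero] at ek
  rw [List.mem_range] at hj
  have avj : av c s j = c ^ j := by
    interval_cases j <;> simp [av]
  set w : G := c ^ j * w0 with hwdef
  have hwM : w ∈ M := M.mul_mem (M.pow_mem (S.A_le hcA) j) hw0M
  have hwR : w ∈ R' := by
    have := R'.mul_mem (parR' _ (vadd_lt j α) hjp) he'R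
    rwa [av_vadd C, avj, mul_assoc] at this
  have hw0i : w0⁻¹ = w0 := inv_eq_of_mul_eq_one_left ek.symm
  have lWw : ∀ v, w * av c s v * w⁻¹ = av c s (linW v) := fun v => by
    calc w * av c s v * w⁻¹ = c ^ j * (w0 * av c s v * w0⁻¹) * (c ^ j)⁻¹ := by rw [hwdef]; group
      _ = _ := by rw [lW, S.A_comm _ (A.pow_mem hcA j) _ (avA _), mul_inv_cancel_right]
  have hwc' : w0 * c * w0⁻¹ = c⁻¹ := by
    rw [← av1, lW, show linW 1 = vneg 1 from rfl, avneg 1 (by norm_num)]
  have hww' : w * w = 1 := by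
    calc c ^ j * w0 * (c ^ j * w0) = c ^ j * (w0 * c ^ j * w0⁻¹) * (w0 * w0) := by group
      _ = c ^ j * (c⁻¹) ^ j := by
          rw [← ek, mul_one]; congr 1
          rw [← MulAut.conj_apply, map_pow, MulAut.conj_apply, hwc']
      _ = 1 := by rw [inv_pow, mul_inv_cancel]
  have hwi : w⁻¹ = w := inv_eq_of_mul_eq_one_left hww'
  have hwr' : w * r * w = r⁻¹ := by
    have hcr : Commute (c ^ j) r := ((show Commute r c from by
      calc r * c = (r * c * r⁻¹) * r := by group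
        _ = c * r := by rw [hrc]).symm).pow_left j
    calc w * r * w = w * r * w⁻¹ := by rw [hwi]
      _ = c ^ j * (w0 * r * w0⁻¹) * (c ^ j)⁻¹ := by rw [hwdef]; group
      _ = r⁻¹ := by rw [hw0r, hcr.inv_right.eq]; group
  have cube45 : av c s 45 = c * (s * c * s⁻¹) ^ 3 * (s * (s * c * s⁻¹) * s⁻¹) ^ 2 := by simp [av]
  have RA : ARel c s w :=
    ⟨C, hs7, by rw [← cube45]; exact eβ.symm, hww', by
      conv_lhs => rw [← av1]; arg 2; rw [← hwi]
      rw [lWw, show linW 1 = vneg 1 from rfl, avneg 1 (by norm_num), av1], by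
      conv_lhs => rw [← av4]; arg 2; rw [← hwi]
      rw [lWw, ← av16]; rfl⟩
  have acw : ∀ b < 8, w * f b * w⁻¹ = f (timg (1, 4, 2) b) := fun b hb => by
    rw [← actA _ (A.pow_mem hcA j) _ (F.mem _ (lt142 b hb)), ← acW b hb, hwdef]; group
  -- every element has a normal form
  have hlvM : ∀ g, lv s w g ∈ M := fun g => by
    refine M.list_prod_mem fun x hx => ?_
    obtain ⟨l, hl, rfl⟩ := List.mem_map.1 hx
    rcases lWords_mem hl with rfl | rfl
    · exact hsM
    · exact hwM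
  have hact : ∀ g < 168, ∀ u < 64, lv s w g * f (par u) * (lv s w g)⁻¹ = f (par (act g u)) := by
    intro g hg u hu
    have h' := act_table
    simp only [List.all_eq_true, List.mem_range, Bool.and_eq_true, Nat.blt_eq] at h'
    rw [← avsq u hu, ← avsq _ (h' g hg u hu).1]
    have := lv_act RA hg hu
    calc lv s w g * (av c s u * av c s u) * (lv s w g)⁻¹
        = (lv s w g * av c s u) * (lv s w g)⁻¹ * ((lv s w g * av c s u) * (lv s w g)⁻¹) := by group
      _ = _ := by rw [this]; group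
  have hnf : ∀ m ∈ M, ∃ p < 10752, valP c s w p = m := by
    intro m hm
    obtain ⟨x, hx, y, hy, z, hz, hind, hmact⟩ := S.triple F hm
    have h := cover
    simp only [List.all_eq_true, List.mem_range, Bool.or_eq_true, List.any_eq_true, Bool.and_eq_true, Nat.beq_eq,
      Bool.not_eq_true'] at h
    obtain ⟨g, hg, ⟨g1, g2⟩, g3⟩ := (h x hx y hy z hz).resolve_left (by simp [hind])
    have hl := acts_of_images F hx hy hz (by have := hact g hg 1 (by norm_num); rwa [g1] at this)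
      (by have := hact g hg 4 (by norm_num); rwa [g2] at this) (by have := hact g hg 16 (by norm_num); rwa [g3] at this)
    have hA := S.same_act F hm (hlvM g) fun b hb => (hmact b hb).trans (hl b hb).symm
    have hA' := S.A_normal _ (hlvM g) _ hA
    obtain ⟨v, hv, ev⟩ := avsurj _ hA'
    refine ⟨g * 64 + v, by omega, ?_⟩
    rw [valP, show (g * 64 + v) % 64 = v by omega, show (g * 64 + v) / 64 = g by omega, ev]
    group
  have hclos : M ≤ Subgroup.closure {y | ∃ g < 7, genX c s r w 1 g = y} := by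
    intro m hm
    obtain ⟨p, -, rfl⟩ := hnf m hm
    set K := Subgroup.closure {y | ∃ g < 7, genX c s r w 1 g = y}
    have kc : c ∈ K := Subgroup.subset_closure ⟨0, by norm_num, rfl⟩
    have ks : s ∈ K := Subgroup.subset_closure ⟨2, by norm_num, rfl⟩
    have kw : w ∈ K := Subgroup.subset_closure ⟨6, by norm_num, rfl⟩
    have k1 : s * c * s⁻¹ ∈ K := K.mul_mem (K.mul_mem ks kc) (K.inv_mem ks)
    refine K.mul_mem (K.mul_mem (K.mul_mem (K.pow_mem kc _) (K.pow_mem k1 _))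
      (K.pow_mem (K.mul_mem (K.mul_mem ks k1) (K.inv_mem ks)) _)) (K.list_prod_mem fun x hx => ?_)
    obtain ⟨l, hl, rfl⟩ := List.mem_map.1 hx
    rcases lWords_mem hl with rfl | rfl
    · exact ks
    · exact kw
  -- the two parameters
  obtain ⟨zf1, zf3, zn3, z88, zn4, z1010, zlet⟩ := z_facts
  have lS45 : ∀ v, s * av c s v * s⁻¹ = av c s (linS 45 v) := linS'
  have lws : ∀ n v, (w * s ^ n) * av c s v * (w * s ^ n)⁻¹ = av c s (linWS n v) := by
    intro n v
    have hn : ∀ n v, s ^ n * av c s v * (s ^ n)⁻¹ = av c s ((linS 45)^[n] v) := by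
      intro n
      induction n with
      | zero => intro v; simp
      | succ n ih =>
        intro v
        rw [Function.iterate_succ_apply, ← ih, ← lS45, pow_succ]; group
    rw [linWS, ← lWw, ← hn]; group
  have actz : ∀ n : ℕ, ∀ e : ℕ, (w * s ^ n) ^ e ∈ A → ∀ z < 64, av c s z = (w * s ^ n) ^ e →
      linWS n z = z := by
    intro n e he z hz ez
    refine avinj _ (linWS_lt _ _) _ hz ?_
    rw [← lws, ez]
    rw [(Commute.self_pow (w * s ^ n) e).eq, mul_inv_cancel_right]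
  have hsp : ∀ b < 8, s ^ 3 * f b * (s ^ 3)⁻¹ = f (timg (2, 4, 3) (timg (2, 4, 3) (timg (2, 4, 3) b))) := by
    intro b hb
    rw [← acS _ (lt243 _ (lt243 b hb)), ← acS _ (lt243 b hb), ← acS b hb]
    simp [pow_succ, mul_assoc]
  have hz3A : (w * s ^ 1) ^ 3 ∈ A := trivA _ (M.pow_mem (M.mul_mem hwM (M.pow_mem hsM 1)) 3) fun b hb => by
    have e : (w * s ^ 1) ^ 3 * f b * ((w * s ^ 1) ^ 3)⁻¹ =
        w * (s * (w * (s * (w * (s * f b * s⁻¹) * w⁻¹) * s⁻¹) * w⁻¹) * s⁻¹) * w⁻¹ := by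
      simp [pow_succ, mul_assoc]
    rw [e, acS b hb, acw _ (lt243 b hb), acS _ (lt142 _ (lt243 b hb)), acw _ (lt243 _ (lt142 _ (lt243 b hb))),
      acS _ (lt142 _ (lt243 _ (lt142 _ (lt243 b hb)))),
      acw _ (lt243 _ (lt142 _ (lt243 _ (lt142 _ (lt243 b hb))))), hws b hb]
  have hz4A : (w * s ^ 3) ^ 4 ∈ A := trivA _ (M.pow_mem (M.mul_mem hwM (M.pow_mem hsM 3)) 4) fun b hb => by
    let φ : ℕ → ℕ := fun k => timg (1, 4, 2) (timg (2, 4, 3) (timg (2, 4, 3) (timg (2, 4, 3) k)))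
    have hφ : ∀ k < 8, φ k < 8 ∧ (w * s ^ 3) * f k * (w * s ^ 3)⁻¹ = f (φ k) := fun k hk =>
      ⟨lt142 _ (lt243 _ (lt243 _ (lt243 k hk))), by
        rw [← acw _ (lt243 _ (lt243 _ (lt243 k hk))), ← hsp k hk]; group⟩
    have h4 : ∀ k < 8, φ (φ (φ (φ k))) = k := by decide +kernel
    obtain ⟨l1, d1⟩ := hφ b hb
    obtain ⟨l2, d2⟩ := hφ _ l1
    obtain ⟨l3, d3⟩ := hφ _ l2
    obtain ⟨-, d4⟩ := hφ _ l3
    rw [show (w * s ^ 3) ^ 4 * f b * ((w * s ^ 3) ^ 4)⁻¹ = (w * s ^ 3) * ((w * s ^ 3) * ((w * s ^ 3) *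
      ((w * s ^ 3) * f b * (w * s ^ 3)⁻¹) * (w * s ^ 3)⁻¹) * (w * s ^ 3)⁻¹) * (w * s ^ 3)⁻¹ by
      generalize w * s ^ 3 = y; simp [pow_succ, mul_assoc], d1, d2, d3, d4, h4 b hb]
  obtain ⟨z3, hz3, ez3⟩ := avsurj _ hz3A
  obtain ⟨z4, hz4, ez4⟩ := avsurj _ hz4A
  have o3 := zf1 z3 hz3 (actz 1 3 hz3A z3 hz3 ez3)
  have o4 := zf3 z4 hz4 (actz 3 4 hz4A z4 hz4 ez4)
  have hinvW : ∀ v, prodW (genX c s r w 1) (invWord (codeWord v)) = (av c s v)⁻¹ := by
    intro v
    rw [← prodW_codeWord (r := r) (w := w) v]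
    have key : ∀ u : List ℕ, (∀ l ∈ u, l < 7) →
        prodW (genX c s r w 1) (invWord u) = (prodW (genX c s r w 1) u)⁻¹ := by
      intro u
      induction u with
      | nil => intro _; simp [invWord]
      | cons l u ih =>
        intro hu
        have e : invWord (l :: u) = invWord u ++ [([1, 0, 3, 2, 5, 4, 6] : List ℕ).getD l l] := by simp [invWord]
        rw [e, prodW_append, ih fun a ha => hu a (List.mem_cons_of_mem _ ha), prodW_cons, prodW_cons, prodW_nil,
          mul_inv_rev, mul_one]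
        congr 1
        have hl := hu l List.mem_cons_self
        interval_cases l <;> simp [genX, hwi]
    refine key _ fun l hl => ?_
    simp only [codeWord, List.mem_append, List.mem_replicate, List.mem_flatten] at hl
    rcases hl with (⟨-, rfl⟩ | ⟨L, ⟨-, rfl⟩, hl⟩) | ⟨L, ⟨-, rfl⟩, hl⟩
    · norm_num
    · simp at hl; omega
    · simp at hl; omega
  have r3 : prodW (genX c s r w 1) (relThree z3) = 1 := by
    rw [relThree, prodW_append, hinvW, ez3]
    simp [prodW, genX, pow_succ, mul_assoc]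
  have r4 : prodW (genX c s r w 1) (relFour z4) = 1 := by
    rw [relFour, prodW_append, hinvW, ez4]
    simp [prodW, genX, pow_succ, mul_assoc]
  have hfw : (s * w * s * s) * f 6 * (s * w * s * s)⁻¹ = f 6 := by
    rw [show (s * w * s * s) * f 6 * (s * w * s * s)⁻¹ = s * (w * (s * (s * f 6 * s⁻¹) * s⁻¹) * w⁻¹) * s⁻¹ by group,
      acS 6 (by norm_num), acS _ (lt243 6 (by norm_num)), acw _ (lt243 _ (lt243 6 (by norm_num))),
      acS _ (lt142 _ (lt243 _ (lt243 6 (by norm_num))))]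
    rfl
  have rc : prodW (genX c s r w 1) relComm = 1 ∨ prodW (genX c s r w 1) (relComm ++ centWord) = 1 := by
    set q := (s * w * s * s) * w * (s * w * s * s)⁻¹ with hqdef
    have hqR : q ∈ R' := normR' _ hfw w hwR
    have hq2 : q * q = 1 := by rw [hqdef]; simp only [← MulAut.conj_apply, ← map_mul, hww', map_one]
    have hqi : q⁻¹ = q := inv_eq_of_mul_eq_one_left hq2
    have hv : prodW (genX c s r w 1) relComm = (w * q) * (w * q) := by
      rw [hqdef, show (s * w * s * s)⁻¹ = s⁻¹ * s⁻¹ * w * s⁻¹ by rw [mul_inv_rev, mul_inv_rev, mul_inv_rev, hwi]; group]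
      simp [prodW, relComm, genX, mul_assoc]
    have hc : prodW (genX c s r w 1) centWord = f 6 := by
      rw [← sqt 6 (by norm_num)]
      simp [prodW, centWord, genX, av, emb, pow_two, mul_assoc]
    rcases sqR' _ (R'.mul_mem hwR hqR) with h | h
    · exact Or.inl (hv.trans h)
    · refine Or.inr ?_
      rw [prodW_append, hv, hc, h, Vsq _ (F.mem 6 (by norm_num))]
  have bad : ∀ i < 16, (∀ x ∈ caseRels.getD i [], prodW (genX c s r w 1) x = 1) → False := fun i hi hx =>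
    case_false i hi RA hr3 hra hrc hwr' hx M hclos S.cardM
  -- the conclusion
  have fin : ∀ var : Bool, ∀ v : G, ARel c s v → (v * s ^ 1) ^ 3 = 1 → (v * s ^ 3) ^ 4 = 1 → v ∈ M →
      (∀ b < 8, v * f b * v⁻¹ = f (timg (1, 4, 2) b)) →
      prodW (genX c s r v 1) (wWord var) = w → LocalData t R M c s r v var := by
    intro var v RV h3' h4' hvM acv hwv
    have hlvM' : ∀ g, lv s v g ∈ M := fun g => by
      refine M.list_prod_mem fun x hx => ?_
      obtain ⟨l, hl, rfl⟩ := List.mem_map.1 hx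
      rcases lWords_mem hl with rfl | rfl
      · exact hsM
      · exact hvM
    have RM0 : MRel c s (lv s v gR) v := ⟨RV, by simpa using h3', by simpa [pow_succ, mul_assoc] using h4', rfl⟩
    obtain ⟨lf1, lf2, lf3, lf4, -, hgS, -, hgR, hlS, -, hconj⟩ := lcode_facts
    have hrho : r = lv s v gR := by
      have e1 : lv s v gS = s := by rw [lv, hlS]; simp [genL]
      have hi := inv_table
      simp only [List.all_eq_true, List.mem_range, Bool.and_eq_true, Nat.beq_eq, Nat.blt_eq] at hi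
      have e2 : lv s v (ginv gR) = (lv s v gR)⁻¹ := eq_inv_of_mul_eq_one_left (by
        rw [(lv_mul RM0 (hi gR hgR).1 hgR).2, (hi gR hgR).2, lv_zero])
      have e3 : lv s v gR * s * (lv s v gR)⁻¹ = s * s := by
        calc lv s v gR * s * (lv s v gR)⁻¹ = lv s v gR * lv s v gS * lv s v (ginv gR) := by rw [e1, e2]
          _ = lv s v (gmul (gmul gR gS) (ginv gR)) := by
              rw [(lv_mul RM0 hgR hgS).2, (lv_mul RM0 (lv_mul RM0 hgR hgS).1 (hi gR hgR).1).2]
          _ = lv s v gS * lv s v gS := by rw [hconj, (lv_mul RM0 hgS hgS).2]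
          _ = s * s := by rw [e1]
      have hA : (lv s v gR)⁻¹ * r ∈ A := by
        refine S.same_act F hrM (hlvM' gR) fun b hb => ?_
        have h' := act_table
        simp only [List.all_eq_true, List.mem_range, Bool.and_eq_true, Nat.blt_eq] at h'
        have act' : ∀ u < 64, lv s v gR * f (par u) * (lv s v gR)⁻¹ = f (par (act gR u)) := fun u hu => by
          rw [← avsq u hu, ← avsq _ (h' gR hgR u hu).1]
          have := lv_act RV hgR hu
          calc lv s v gR * (av c s u * av c s u) * (lv s v gR)⁻¹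
              = (lv s v gR * av c s u) * (lv s v gR)⁻¹ * ((lv s v gR * av c s u) * (lv s v gR)⁻¹) := by group
            _ = _ := by rw [this]; group
        obtain ⟨-, p1, p4, p16, -⟩ := f_fix
        have hl := acts_of_images F (a := 1) (b := 4) (e := 6) (by norm_num) (by norm_num) (by norm_num)
          (by have := act' 1 (by norm_num); rwa [p1] at this) (by have := act' 4 (by norm_num); rwa [p4] at this)
          (by have := act' 16 (by norm_num); rwa [p16] at this)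
        rw [acR b hb, hl b hb]
      have := hfixS _ hA (by
        set ρ := lv s v gR
        calc s * (ρ⁻¹ * r) = ρ⁻¹ * (ρ * s * ρ⁻¹) * r := by group
          _ = ρ⁻¹ * (r * s * r⁻¹) * r := by rw [e3, hra]
          _ = ρ⁻¹ * r * s := by group)
      exact (inv_mul_eq_one.1 this).symm
    have RM' : MRel c s r v := ⟨RV, RM0.ws3, RM0.ws4, hrho⟩
    have valMem : ∀ p, valP c s v p ∈ M := fun p => M.mul_mem (S.A_le (avA _)) (hlvM' _)
    have hwv' : prodW (genX c s r v 1) (wWord var) = w := hwv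
    have hnf' : ∀ m ∈ M, ∃ p < 10752, valP c s v p = m := by
      intro m hm
      obtain ⟨p, hp, rfl⟩ := hnf m hm
      have hlw : ∀ l ∈ wWord var, l < 7 := by cases var <;> decide
      obtain ⟨w1lt, w1e⟩ := pev_spec RM' 1 hlw
      obtain ⟨hslt, hse⟩ := lcode_spec RM' 1 2 (by norm_num)
      have key : ∀ W : List ℕ, (∀ l ∈ W, l = 0 ∨ l = 2) → ∃ q < 10752, valP c s v q = prodW (genL s w) W := by
        intro W
        induction W with
        | nil => intro _; exact ⟨0, by norm_num, by rw [valP_zero]; rfl⟩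
        | cons l W ih =>
          intro hW
          obtain ⟨q, hq, eq⟩ := ih fun a ha => hW a (List.mem_cons_of_mem _ ha)
          rcases hW l List.mem_cons_self with rfl | rfl
          · obtain ⟨h1, h2⟩ := valP_mul RM' hslt hq
            exact ⟨_, h1, by rw [h2, eq, hse, prodW_cons]; rfl⟩
          · obtain ⟨h1, h2⟩ := valP_mul RM' w1lt hq
            exact ⟨_, h1, by rw [h2, eq, w1e, hwv', prodW_cons]; rfl⟩
      obtain ⟨q, hq, eq⟩ := key (lWords.getD (p / 64) []) fun l hl => lWords_mem hl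
      have hv : p % 64 < 10752 := by omega
      obtain ⟨h1, h2⟩ := valP_mul RM' hv hq
      exact ⟨_, h1, by rw [h2, eq, valP_av (Nat.mod_lt _ (by norm_num))]; rfl⟩
    let φ : Fin 10752 → M := fun p => ⟨valP c s v p, valMem p⟩
    have hφs : Function.Surjective φ := fun ⟨m, hm⟩ => by
      obtain ⟨p, hp, e⟩ := hnf' m hm
      exact ⟨⟨p, hp⟩, Subtype.ext e⟩
    have hφ : Function.Bijective φ := (Nat.bijective_iff_surjective_and_card φ).2
      ⟨hφs, by rw [Nat.card_fin, S.cardM]⟩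
    have inj' : ∀ p < 10752, ∀ q < 10752, valP c s v p = valP c s v q → p = q := fun p hp q hq h =>
      congrArg Fin.val (hφ.1 (Subtype.ext h : φ ⟨p, hp⟩ = φ ⟨q, hq⟩))
    refine ⟨RM', hct, fun g => ⟨hnf' g, by rintro ⟨p, -, rfl⟩; exact valMem p⟩, inj', ?_⟩
    obtain ⟨hlen, hnd, hchk, hgw⟩ := rData_ok var
    simp only [List.all_eq_true, List.mem_range, Bool.and_eq_true, Nat.beq_eq, Nat.blt_eq] at hchk hgw
    obtain ⟨cf1, cf2, cf3, cf4, cf5⟩ := conj_facts
    have ht2 : valP c s v 2 = t := by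
      rw [valP_av (by norm_num), show (2 : ℕ) = emb 1 from rfl, sqt 1 (by norm_num), F.one]
    have hu : valP c s v (pev [3, 4]) * f 6 * (valP c s v (pev [3, 4]))⁻¹ = t := by
      have := (valP_conj RM' cf2 (by norm_num : 40 < 10752)).2
      rwa [cf1, ht2, valP_av (by norm_num : 40 < 64), show (40 : ℕ) = emb 6 from rfl, sqt 6 (by norm_num),
        eq_comm] at this
    have hgen : ∀ k < 5, prodW (genX c s r v 1) ((rGenW var).getD k []) ∈ R := by
      have hcR : c ∈ R := by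
        obtain ⟨γ0, hγ0, eγ0⟩ := avsurj _ hc0A
        have hp0 : par γ0 = 1 := F.inj _ (pf1 γ0 hγ0).2.1 1 (by norm_num) (by
          rw [← avsq γ0 hγ0, eγ0, hc0t, F.one])
        have hp1 : par (vadd (vneg γ0) 1) = 0 := by
          revert hp0; revert γ0; intro γ0 h _; exact (show ∀ u < 64, par u = 1 → par (vadd (vneg u) 1) = 0 by
            decide +kernel) γ0 h
        obtain ⟨b, hb, eb⟩ := (pf1 _ (vadd_lt _ _)).2.2.2 hp1
        have := R.mul_mem hc0R (S.V_le_R (F.mem b (List.mem_range.1 hb)))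
        rw [← sqt b (List.mem_range.1 hb), eb, ← eγ0, ← av_vadd C,
          (show ∀ u < 64, vadd u (vadd (vneg u) 1) = 1 by decide +kernel) γ0 hγ0, av1] at this
        exact this
      have hev : ∀ W : List ℕ, (∀ l ∈ W, l < 7) → ∀ b < 8, pev W = emb b → prodW (genX c s r v 1) W ∈ R :=
        fun W hW b hb e => by
          rw [← (pev_spec RM' 1 hW).2, e, valP_av (pf2 b hb).1, sqt b hb]
          exact S.V_le_R (F.mem b hb)
      have he3 : prodW (genX c s r v 1) ([3, 4] ++ wWord var ++ [5, 2]) ∈ R := by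
        rw [prodW_append, prodW_append, hwv']
        have e52 : prodW (genX c s r v 1) [5, 2] = (prodW (genX c s r v 1) [3, 4])⁻¹ := by simp [prodW, genX]
        rw [e52, ← (pev_spec RM' 1 (W := [3, 4]) (by decide)).2]
        exact toR _ hu w hwR
      intro k hk
      interval_cases k
      · simpa [rGenW, prodW, genX] using hcR
      · exact hev _ (by cases var <;> decide) 2 (by norm_num) cf4
      · exact hev _ (by cases var <;> decide) 4 (by norm_num) cf5
      · exact he3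
      · have := S.conjR hrt he3
        have e : (rGenW var).getD 4 [] = [4] ++ ([3, 4] ++ wWord var ++ [5, 2]) ++ [5] := by
          cases var <;> rfl
        rw [e, prodW_append, prodW_append, show prodW (genX c s r v 1) [4] = r by simp [prodW, genX],
          show prodW (genX c s r v 1) [5] = r⁻¹ by simp [prodW, genX]]
        exact this
    have hin : ∀ p ∈ rListV var, p < 10752 ∧ valP c s v p ∈ R := by
      intro p hp
      obtain ⟨i, hi, rfl⟩ := List.getElem_of_mem hp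
      obtain ⟨⟨hk5, hev⟩, hlt⟩ := hchk i (hlen ▸ hi)
      rw [← List.getD_eq_getElem _ 0 hi]
      refine ⟨hlt, ?_⟩
      have hexp : ∀ l ∈ rExp var ((rWordsV var).getD i []), l < 7 := by
        intro l hl
        obtain ⟨k, hk, hlk⟩ := List.mem_flatMap.1 hl
        rcases Nat.lt_or_ge k (rGenW var).length with h | h
        · rw [List.getD_eq_getElem _ _ h] at hlk; exact hgw _ (List.getElem_mem h) l hlk
        · rw [List.getD_eq_default _ _ h] at hlk; simp at hlk
      rw [← hev, (pev_spec RM' 1 hexp).2]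
      generalize (rWordsV var).getD i [] = u at hk5
      induction u with
      | nil => exact R.one_mem
      | cons k u ih =>
        rw [rExp, List.flatMap_cons, prodW_append]
        exact R.mul_mem (hgen k (hk5 k List.mem_cons_self)) (ih fun a ha => hk5 a (List.mem_cons_of_mem _ ha))
    intro g
    constructor
    · intro hg
      let ψ : Fin (rListV var).length → R := fun i => ⟨valP c s v ((rListV var).get i), (hin _ (List.get_mem _ i)).2⟩
      have hψ : Function.Bijective ψ := (Nat.bijective_iff_injective_and_card ψ).2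
        ⟨fun i j h => hnd.get_inj_iff.1 (inj' _ (hin _ (List.get_mem _ i)).1 _ (hin _ (List.get_mem _ j)).1
          (congrArg Subtype.val h)), by rw [Nat.card_fin, hlen, S.cardR]⟩
      obtain ⟨i, hi⟩ := hψ.2 ⟨g, hg⟩
      exact ⟨_, List.get_mem _ i, congrArg Subtype.val hi⟩
    · rintro ⟨p, hp, rfl⟩
      exact (hin p hp).2
  have good0 : z3 = 0 → z4 = 0 → ∃ (c s r w : G) (var : Bool), LocalData t R M c s r w var := by
    rintro rfl rfl
    rw [av_zero] at ez3 ez4
    exact ⟨c, s, r, w, false, fin false w RA ez3.symm ez4.symm hwM acw (by simp [prodW, wWord, genX])⟩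
  have good1 : z3 = 8 → z4 = 10 → ∃ (c s r w : G) (var : Bool), LocalData t R M c s r w var := by
    rintro rfl rfl
    set v : G := av c s 3 * w with hvdef
    have hvM : v ∈ M := M.mul_mem (S.A_le (avA 3)) hwM
    have hc3 : av c s 3 = c⁻¹ := by rw [show (3 : ℕ) = vneg 1 from rfl, avneg 1 (by norm_num), av1]
    have lv' : ∀ u, v * av c s u * v⁻¹ = av c s (linW u) := fun u => by
      calc v * av c s u * v⁻¹ = av c s 3 * (w * av c s u * w⁻¹) * (av c s 3)⁻¹ := by rw [hvdef]; group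
        _ = _ := by rw [lWw, S.A_comm _ (avA 3) _ (avA _), mul_inv_cancel_right]
    have hvv : v * v = 1 := by
      calc v * v = av c s 3 * (w * av c s 3 * w⁻¹) * (w * w) := by rw [hvdef]; group
        _ = 1 := by rw [lWw, hww', mul_one, ← av_vadd C, show vadd 3 (linW 3) = 0 from rfl, av_zero]
    have hvi : v⁻¹ = v := inv_eq_of_mul_eq_one_left hvv
    have RV : ARel c s v := ⟨C, hs7, RA.cube, hvv, by
      conv_lhs => rw [← av1]; arg 2; rw [← hvi]
      rw [lv', show linW 1 = vneg 1 from rfl, avneg 1 (by norm_num), av1], by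
      conv_lhs => rw [← av4]; arg 2; rw [← hvi]
      rw [lv', ← av16]; rfl⟩
    have h3' : (v * s ^ 1) ^ 3 = 1 := by
      set y := w * s ^ 1 with hy
      have e : v * s ^ 1 = av c s 3 * y := by rw [hvdef, hy]; group
      have e2 : (av c s 3 * y) ^ 3 = av c s 3 * (y * av c s 3 * y⁻¹) *
          (y * (y * av c s 3 * y⁻¹) * y⁻¹) * y ^ 3 := by simp [pow_succ, mul_assoc]
      rw [e, e2, lws, lws, ← ez3, ← av_vadd C, ← av_vadd C, ← av_vadd C, zn3, z88, av_zero]
    have h4' : (v * s ^ 3) ^ 4 = 1 := by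
      set y := w * s ^ 3 with hy
      have e : v * s ^ 3 = av c s 3 * y := by rw [hvdef, hy]; group
      have e2 : (av c s 3 * y) ^ 4 = av c s 3 * (y * av c s 3 * y⁻¹) * ((y * (y * av c s 3 * y⁻¹) * y⁻¹) *
          (y * (y * (y * av c s 3 * y⁻¹) * y⁻¹) * y⁻¹)) * y ^ 4 := by simp [pow_succ, mul_assoc]
      rw [e, e2, lws, lws, lws, ← ez4, ← av_vadd C, ← av_vadd C, ← av_vadd C, ← av_vadd C, zn4, z1010, av_zero]
    refine ⟨c, s, r, v, true, fin true v RV h3' h4' hvM (fun b hb => ?_) ?_⟩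
    · rw [← actA _ (avA 3) _ (F.mem _ (lt142 b hb)), ← acw b hb, hvdef]; group
    · rw [hvdef, hc3]; simp [prodW, wWord, genX]
  by_contra hcon
  have badc : ∀ i < 16, ∀ L : List (List ℕ), caseRels.getD i [] = L →
      (∀ x ∈ L, prodW (genX c s r w 1) x = 1) → False := fun i hi L hL hx => bad i hi (hL ▸ hx)
  rcases o3 with rfl | rfl | rfl | rfl <;> rcases o4 with rfl | rfl | rfl | rfl
  · exact hcon (good0 rfl rfl)
  · exact badc 0 (by norm_num) _ rfl (by simp [caseRels, r3, r4])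
  · exact badc 1 (by norm_num) _ rfl (by simp [caseRels, r3, r4])
  · exact badc 2 (by norm_num) _ rfl (by simp [caseRels, r3, r4])
  · exact badc 3 (by norm_num) _ rfl (by simp [caseRels, r3, r4])
  · rcases rc with h | h
    · exact badc 12 (by norm_num) _ rfl (by simp [caseRels, r3, r4, h])
    · exact badc 13 (by norm_num) _ rfl (by simp [caseRels, r3, r4, h])
  · exact badc 4 (by norm_num) _ rfl (by simp [caseRels, r3, r4])
  · exact badc 5 (by norm_num) _ rfl (by simp [caseRels, r3, r4])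
  · exact badc 6 (by norm_num) _ rfl (by simp [caseRels, r3, r4])
  · exact badc 7 (by norm_num) _ rfl (by simp [caseRels, r3, r4])
  · exact hcon (good1 rfl rfl)
  · exact badc 8 (by norm_num) _ rfl (by simp [caseRels, r3, r4])
  · exact badc 9 (by norm_num) _ rfl (by simp [caseRels, r3, r4])
  · exact badc 10 (by norm_num) _ rfl (by simp [caseRels, r3, r4])
  · exact badc 11 (by norm_num) _ rfl (by simp [caseRels, r3, r4])
  · rcases rc with h | h
    · exact badc 14 (by norm_num) _ rfl (by simp [caseRels, r3, r4, h])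
    · exact badc 15 (by norm_num) _ rfl (by simp [caseRels, r3, r4, h])

end CfsgLib.HSUniq
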