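import Cfsg.Agent.Lib.HSUniq.Data
import Cfsg.Agent.Lib.HSUniq.CheckL
import Cfsg.Agent.Lib.CosetEnum.Use
import Mathlib.Tactic

/-!
A computable model of the 2-local subgroup.
-/

set_option autoImplicit false
set_option maxRecDepth 100000

namespace CfsgLib.HSUniq

open CfsgLib.CosetEnum

/-- the letters: `c, c⁻¹, s, s⁻¹, r, r⁻¹, w, x, x⁻¹` -/
def genX {G : Type*} [Group G] (c s r w x : G) : ℕ → G
  | 0 => c | 1 => c⁻¹ | 2 => s | 3 => s⁻¹ | 4 => r | 5 => r⁻¹ | 6 => w | 7 => x | 8 => x⁻¹ | _ => 1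

/-- the two letters of the complement -/
def genL {G : Type*} [Group G] (s w : G) : ℕ → G
  | 0 => s | 1 => s⁻¹ | 2 => w | _ => 1

theorem map_genX {G G' : Type*} [Group G] [Group G'] (f : G →* G') (c s r w x : G) (n : ℕ) :
    f (genX c s r w x n) = genX (f c) (f s) (f r) (f w) (f x) n := by
  match n with
  | 0 => rfl | 1 => exact map_inv f c | 2 => rfl | 3 => exact map_inv f s | 4 => rfl
  | 5 => exact map_inv f r | 6 => rfl | 7 => rfl | 8 => exact map_inv f x | n + 9 => exact map_one f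

/-- an element of the abelian group, from its code -/
def av {G : Type*} [Group G] (c s : G) (v : ℕ) : G :=
  c ^ (v % 4) * (s * c * s⁻¹) ^ (v / 4 % 4) * (s * (s * c * s⁻¹) * s⁻¹) ^ (v / 16 % 4)

/-- addition of codes -/
def vadd (u v : ℕ) : ℕ :=
  (u % 4 + v % 4) % 4 + 4 * ((u / 4 % 4 + v / 4 % 4) % 4) + 16 * ((u / 16 % 4 + v / 16 % 4) % 4)

/-- multiples of a code -/
def vsmul : ℕ → ℕ → ℕ
  | 0, _ => 0
  | n + 1, v => vadd v (vsmul n v)

/-- the linear map with the given images of the basis -/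
def vlin (a b e v : ℕ) : ℕ := vadd (vadd (vsmul (v % 4) a) (vsmul (v / 4 % 4) b)) (vsmul (v / 16 % 4) e)

theorem vadd_lt (u v : ℕ) : vadd u v < 64 := by unfold vadd; omega

theorem vsmul_lt : ∀ n v, vsmul n v < 64
  | 0, _ => by norm_num [vsmul]
  | _ + 1, _ => vadd_lt _ _

theorem vlin_lt (a b e v : ℕ) : vlin a b e v < 64 := vadd_lt _ _

noncomputable def act (g v : ℕ) : ℕ := actT.at' 8 (g * 64 + v)
noncomputable def gmul (g h : ℕ) : ℕ := mulT.at' 8 (g * 168 + h)
noncomputable def ginv (g : ℕ) : ℕ := invT.at' 8 g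

/-- negation of a code -/
def vneg (v : ℕ) : ℕ := vsmul 3 v

/-- the product in the model: a code is `64 g + v` -/
noncomputable def pmul (p q : ℕ) : ℕ :=
  gmul (p / 64) (q / 64) * 64 + vadd (p % 64) (act (p / 64) (q % 64))

/-- the inverse in the model -/
noncomputable def pinv (p : ℕ) : ℕ :=
  ginv (p / 64) * 64 + vneg (act (ginv (p / 64)) (p % 64))

/-- the codes of the first seven letters -/
def lcode : ℕ → ℕ
  | 0 => 1 | 1 => 3 | 2 => gS * 64 | 3 => 1920 | 4 => gR * 64 | 5 => 9920 | 6 => gW * 64 | _ => 0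

/-- the value of a word in the first seven letters -/
noncomputable def pev : List ℕ → ℕ
  | [] => 0
  | l :: w => pmul (lcode l) (pev w)

/-- conjugation in the model -/
noncomputable def pconj (g p : ℕ) : ℕ := pmul (pmul g p) (pinv g)

theorem L_step : ((List.range 168).all fun g => ([(0, gS), (2, gW)] : List (ℕ × ℕ)).all fun l =>
    Nat.blt (gmul g l.2) 168 &&
    Nat.beq (certL.run 0 (lWords.getD g [] ++ [l.1] ++ certL.revInv (lWords.getD (gmul g l.2) []))) 0) = true := by
  decide +kernel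

theorem L_basic : (lWords.all fun w => w.all fun l => l == 0 || l == 2) = true ∧ lWords.length = 168 ∧
    lWords.getD 0 [] = [] ∧ certL.K = 3 ∧ certL.invs = [1, 0, 2] ∧ certL.subs = [] ∧
    certL.rels = [[0, 1], [1, 0], [0, 0, 0, 0, 0, 0, 0], [2, 2], [2, 0, 2, 0, 2, 0],
      [2, 0, 0, 0, 2, 0, 0, 0, 2, 0, 0, 0, 2, 0, 0, 0]] := by decide +kernel

/-- the image of a code under a letter of the complement -/
def letterV (l v : ℕ) : ℕ := if l = 0 then vlin 4 16 (vadd 1 (vadd (vsmul 3 4) (vsmul 2 16))) v else vlin 3 16 4 v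

theorem mul_table : ((List.range 168).all fun h => (List.range 168).all fun g =>
    Nat.beq (gmul g h) ((lWords.getD h []).foldl (fun a l => gmul a (if l = 0 then gS else gW)) g)) = true := by
  decide +kernel

theorem act_table : ((List.range 168).all fun g => (List.range 64).all fun v =>
    Nat.blt (act g v) 64 && Nat.beq (act g v) ((lWords.getD g []).foldr letterV v)) = true := by
  decide +kernel

theorem inv_table : ((List.range 168).all fun g => Nat.blt (ginv g) 168 && Nat.beq (gmul (ginv g) g) 0) = true := by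
  decide +kernel

theorem lcode_facts : lcode 0 = 1 ∧ lcode 1 = 3 ∧ lcode 3 = pinv (lcode 2) ∧ lcode 5 = pinv (lcode 4) ∧
    (List.range 9).all (fun l => Nat.blt (lcode l) 10752) = true ∧ gS < 168 ∧ gW < 168 ∧ gR < 168 ∧
    lWords.getD gS [] = [0] ∧ lWords.getD gW [] = [2] ∧
    gmul (gmul gR gS) (ginv gR) = gmul gS gS := by decide +kernel

/-- The relations of the abelian group. -/
structure CRel {G : Type*} [Group G] (c s : G) : Prop where
  c4 : c ^ 4 = 1
  com1 : Commute c (s * c * s⁻¹)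
  com2 : Commute c (s * (s * c * s⁻¹) * s⁻¹)

/-- The relations of the 2-local subgroup, before the last two. -/
structure ARel {G : Type*} [Group G] (c s w : G) : Prop extends CRel c s where
  s7 : s ^ 7 = 1
  cube : s * (s * (s * c * s⁻¹) * s⁻¹) * s⁻¹ = c * (s * c * s⁻¹) ^ 3 * (s * (s * c * s⁻¹) * s⁻¹) ^ 2
  ww : w * w = 1
  wc : w * c * w = c⁻¹
  wa : w * (s * c * s⁻¹) * w = s * (s * c * s⁻¹) * s⁻¹

/-- The relations of the 2-local subgroup. -/
structure MRel {G : Type*} [Group G] (c s r w : G) : Prop extends ARel c s w where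
  ws3 : (w * s) ^ 3 = 1
  ws4 : (w * (s * s * s)) ^ 4 = 1
  r_eq : r = prodW (genL s w) (lWords.getD gR [])

section

variable {G : Type*} [Group G] {c s r w : G}

theorem pow_mod_four {a : G} (h : a ^ 4 = 1) (n : ℕ) : a ^ (n % 4) = a ^ n := by
  conv_rhs => rw [← Nat.mod_add_div n 4, pow_add, pow_mul, h, one_pow, mul_one]

theorem av_vadd (R : CRel c s) (u v : ℕ) : av c s (vadd u v) = av c s u * av c s v := by
  unfold av
  set a := s * c * s⁻¹ with ha
  set b := s * a * s⁻¹ with hb
  have hconj : ∀ x : G, (s * x * s⁻¹) ^ 4 = s * x ^ 4 * s⁻¹ := fun x => by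
    rw [← MulAut.conj_apply, ← map_pow, MulAut.conj_apply]
  have a4 : a ^ 4 = 1 := by rw [ha, hconj, R.c4]; group
  have b4 : b ^ 4 = 1 := by rw [hb, hconj, a4]; group
  have hab : Commute a b := by
    have := R.com1
    show a * b = b * a
    calc a * b = s * (c * a) * s⁻¹ := by rw [hb, ha]; group
      _ = s * (a * c) * s⁻¹ := by rw [show c * a = a * c from this]
      _ = b * a := by rw [hb, ha]; group
  have key : ∀ i j k : ℕ, i < 4 → j < 4 → k < 4 →
      (i + 4 * j + 16 * k) % 4 = i ∧ (i + 4 * j + 16 * k) / 4 % 4 = j ∧ (i + 4 * j + 16 * k) / 16 % 4 = k := by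
    intro i j k _ _ _; omega
  obtain ⟨h0, h1, h2⟩ : vadd u v % 4 = (u % 4 + v % 4) % 4 ∧ vadd u v / 4 % 4 = (u / 4 % 4 + v / 4 % 4) % 4 ∧
      vadd u v / 16 % 4 = (u / 16 % 4 + v / 16 % 4) % 4 :=
    key _ _ _ (Nat.mod_lt _ (by norm_num)) (Nat.mod_lt _ (by norm_num)) (Nat.mod_lt _ (by norm_num))
  rw [h0, h1, h2, pow_mod_four R.c4, pow_mod_four a4, pow_mod_four b4, pow_add, pow_add, pow_add]
  have e1 : c ^ (v % 4) * a ^ (u / 4 % 4) = a ^ (u / 4 % 4) * c ^ (v % 4) := (R.com1.pow_pow _ _).eq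
  have e2 : c ^ (v % 4) * b ^ (u / 16 % 4) = b ^ (u / 16 % 4) * c ^ (v % 4) := (R.com2.pow_pow _ _).eq
  have e3 := (hab.pow_pow (v / 4 % 4) (u / 16 % 4)).eq
  change _ = c ^ (u % 4) * a ^ (u / 4 % 4) * b ^ (u / 16 % 4) * (c ^ (v % 4) * a ^ (v / 4 % 4) * b ^ (v / 16 % 4))
  calc c ^ (u % 4) * c ^ (v % 4) * (a ^ (u / 4 % 4) * a ^ (v / 4 % 4)) * (b ^ (u / 16 % 4) * b ^ (v / 16 % 4))
      = c ^ (u % 4) * (c ^ (v % 4) * a ^ (u / 4 % 4)) * (a ^ (v / 4 % 4) * b ^ (u / 16 % 4)) * b ^ (v / 16 % 4) := by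
        group
    _ = c ^ (u % 4) * a ^ (u / 4 % 4) * (c ^ (v % 4) * b ^ (u / 16 % 4)) * a ^ (v / 4 % 4) * b ^ (v / 16 % 4) := by
        rw [e1, e3]; simp only [mul_assoc]
    _ = _ := by rw [e2]; simp only [mul_assoc]

theorem av_zero : av c s 0 = 1 := by simp [av]

theorem av_vsmul (R : CRel c s) : ∀ n v, av c s (vsmul n v) = av c s v ^ n
  | 0, _ => by rw [vsmul, pow_zero]; exact av_zero
  | n + 1, v => by rw [vsmul, av_vadd R, av_vsmul R n v, pow_succ']

theorem av_vlin (R : CRel c s) (a b e v : ℕ) :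
    av c s (vlin a b e v) = av c s a ^ (v % 4) * av c s b ^ (v / 4 % 4) * av c s e ^ (v / 16 % 4) := by
  rw [vlin, av_vadd R, av_vadd R, av_vsmul R, av_vsmul R, av_vsmul R]

theorem conj_av (g : G) (v : ℕ) :
    g * av c s v * g⁻¹ = (g * c * g⁻¹) ^ (v % 4) * (g * (s * c * s⁻¹) * g⁻¹) ^ (v / 4 % 4) *
      (g * (s * (s * c * s⁻¹) * s⁻¹) * g⁻¹) ^ (v / 16 % 4) := by
  simp only [← MulAut.conj_apply, ← map_pow, ← map_mul, av]

theorem s_av (R : ARel c s w) (v : ℕ) : s * av c s v = av c s (letterV 0 v) * s := by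
  have e1 : av c s 4 = s * c * s⁻¹ := by simp [av]
  have e2 : av c s 16 = s * (s * c * s⁻¹) * s⁻¹ := by simp [av]
  have e0 : av c s 1 = c := by simp [av]
  have h : s * av c s v * s⁻¹ = av c s (letterV 0 v) := by
    rw [conj_av, letterV, if_pos rfl, av_vlin R.toCRel, e1, e2, av_vadd R.toCRel, av_vadd R.toCRel, av_vsmul R.toCRel, av_vsmul R.toCRel,
      e0, e1, e2, R.cube]
    simp [mul_assoc]
  rw [← h]; group

theorem w_av (R : ARel c s w) (v : ℕ) : w * av c s v = av c s (letterV 2 v) * w := by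
  have e1 : av c s 4 = s * c * s⁻¹ := by simp [av]
  have e2 : av c s 16 = s * (s * c * s⁻¹) * s⁻¹ := by simp [av]
  have e3 : av c s 3 = c⁻¹ := by
    have h : av c s 3 = c ^ 3 := by simp [av]
    rw [h, eq_inv_iff_mul_eq_one, ← pow_succ, R.c4]
  have hwi : w⁻¹ = w := inv_eq_of_mul_eq_one_left R.ww
  have hb : w * (s * (s * c * s⁻¹) * s⁻¹) * w = s * c * s⁻¹ := by
    rw [← R.wa]
    calc w * (w * (s * c * s⁻¹) * w) * w = (w * w) * (s * c * s⁻¹) * (w * w) := by group
      _ = _ := by rw [R.ww]; group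
  have h : w * av c s v * w⁻¹ = av c s (letterV 2 v) := by
    rw [conj_av, letterV, if_neg (by norm_num), av_vlin R.toCRel, e1, e2, e3, hwi, R.wc, R.wa, hb]
  rw [← h]; group

/-- the complement element -/
def lv (s w : G) (g : ℕ) : G := prodW (genL s w) (lWords.getD g [])

/-- the element of a code -/
def valP (c s w : G) (p : ℕ) : G := av c s (p % 64) * lv s w (p / 64)

theorem lWords_mem {g : ℕ} {l : ℕ} (hl : l ∈ lWords.getD g []) : l = 0 ∨ l = 2 := by
  have h := L_basic.1
  simp only [List.all_eq_true, Bool.or_eq_true, beq_iff_eq] at h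
  rcases Nat.lt_or_ge g lWords.length with hg | hg
  · rw [List.getD_eq_getElem _ _ hg] at hl
    exact h _ (List.getElem_mem hg) l hl
  · rw [List.getD_eq_default _ _ hg] at hl
    simp at hl

theorem genL_eq (l : ℕ) (hl : l = 0 ∨ l = 2) : genL s w l = if l = 0 then s else w := by
  rcases hl with rfl | rfl <;> rfl

theorem lv_act (R : ARel c s w) {g : ℕ} (hg : g < 168) {v : ℕ} (hv : v < 64) :
    lv s w g * av c s v = av c s (act g v) * lv s w g := by
  have h := act_table
  simp only [List.all_eq_true, List.mem_range, Bool.and_eq_true, Nat.beq_eq] at h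
  rw [(h g hg v hv).2, lv]
  have key : ∀ W : List ℕ, (∀ l ∈ W, l = 0 ∨ l = 2) →
      prodW (genL s w) W * av c s v = av c s (W.foldr letterV v) * prodW (genL s w) W := by
    intro W
    induction W with
    | nil => intro _; simp
    | cons l W ih =>
      intro hW
      rw [List.foldr_cons, prodW_cons, mul_assoc, ih fun a ha => hW a (List.mem_cons_of_mem _ ha), ← mul_assoc,
        ← mul_assoc]
      congr 1
      rcases hW l List.mem_cons_self with rfl | rfl
      · exact s_av R _
      · exact w_av R _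
  exact key _ fun l hl => lWords_mem hl

theorem modelL (R : MRel c s r w) : Model certL (⊥ : Subgroup G) (genL s w) := by
  obtain ⟨-, -, -, hK, hinv, hsub, hrels⟩ := L_basic
  have hs7 := R.s7
  refine ⟨by rw [hK]; rfl, fun g => ?_, fun x hx => ?_, fun x hx => by simp [hsub] at hx⟩
  · rw [Cert.inv, hinv]
    rcases g with _ | _ | _ | g
    · exact mul_inv_cancel s
    · exact inv_mul_cancel s
    · exact R.ww
    · simp [genL]
  · rw [hrels] at hx
    simp only [List.mem_cons, List.not_mem_nil, or_false] at hx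
    rcases hx with rfl | rfl | rfl | rfl | rfl | rfl
    · simp [prodW, genL]
    · simp [prodW, genL]
    · show s * (s * (s * (s * (s * (s * (s * 1)))))) = 1
      simpa [pow_succ, mul_assoc] using hs7
    · show w * (w * 1) = 1
      rw [mul_one, R.ww]
    · show w * (s * (w * (s * (w * (s * 1))))) = 1
      simpa [pow_succ, mul_assoc] using R.ws3
    · show w * (s * (s * (s * (w * (s * (s * (s * (w * (s * (s * (s * (w * (s * (s * (s * 1))))))))))))))) = 1
      simpa [pow_succ, mul_assoc] using R.ws4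

theorem lv_step (R : MRel c s r w) {g : ℕ} (hg : g < 168) :
    (gmul g gS < 168 ∧ lv s w g * s = lv s w (gmul g gS)) ∧
      (gmul g gW < 168 ∧ lv s w g * w = lv s w (gmul g gW)) := by
  have h := L_step
  simp only [List.all_eq_true, List.mem_range, Bool.and_eq_true, List.mem_cons, List.not_mem_nil, or_false,
    Nat.blt_eq] at h
  have key : ∀ l : ℕ × ℕ, (l = (0, gS) ∨ l = (2, gW)) →
      gmul g l.2 < 168 ∧ lv s w g * genL s w l.1 = lv s w (gmul g l.2) := by
    intro l hl
    obtain ⟨hlt, hrun⟩ := h g hg l hl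
    refine ⟨hlt, ?_⟩
    have m := modelL R
    have h1 := eq_one_of_run certL_complete m ?_ hrun
    · rw [prodW_append, prodW_append, m.revInv_eq, mul_inv_eq_one] at h1
      rw [lv, lv, ← h1]; simp
    · rw [List.all_eq_true]
      intro a ha
      rw [L_basic.2.2.2.1, Nat.blt_eq]
      simp only [List.mem_append, Cert.revInv, List.mem_reverse, List.mem_map, List.mem_singleton] at ha
      rcases ha with (ha | rfl) | ⟨b, hb, rfl⟩
      · rcases lWords_mem ha with rfl | rfl <;> norm_num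
      · rcases hl with rfl | rfl <;> norm_num
      · rw [Cert.inv, L_basic.2.2.2.2.1]
        rcases lWords_mem hb with rfl | rfl <;> decide
  exact ⟨key (0, gS) (Or.inl rfl), key (2, gW) (Or.inr rfl)⟩

theorem lv_mul (R : MRel c s r w) {g h : ℕ} (hg : g < 168) (hh : h < 168) :
    gmul g h < 168 ∧ lv s w g * lv s w h = lv s w (gmul g h) := by
  have ht := mul_table
  simp only [List.all_eq_true, List.mem_range, Nat.beq_eq] at ht
  rw [ht h hh g hg]
  have key : ∀ W : List ℕ, (∀ l ∈ W, l = 0 ∨ l = 2) → ∀ a < 168,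
      W.foldl (fun a l => gmul a (if l = 0 then gS else gW)) a < 168 ∧
        lv s w a * prodW (genL s w) W = lv s w (W.foldl (fun a l => gmul a (if l = 0 then gS else gW)) a) := by
    intro W
    induction W with
    | nil => intro _ a ha; simp [ha]
    | cons l W ih =>
      intro hW a ha
      rw [List.foldl_cons, prodW_cons, ← mul_assoc]
      have hs := lv_step R ha
      rcases hW l List.mem_cons_self with rfl | rfl
      · rw [show genL s w 0 = s from rfl, hs.1.2, if_pos rfl]
        exact ih (fun a ha => hW a (List.mem_cons_of_mem _ ha)) _ hs.1.1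
      · rw [show genL s w 2 = w from rfl, hs.2.2, if_neg (by norm_num)]
        exact ih (fun a ha => hW a (List.mem_cons_of_mem _ ha)) _ hs.2.1
  exact key _ (fun l hl => lWords_mem hl) g hg

theorem lv_zero : lv s w 0 = 1 := by rw [lv, L_basic.2.2.1]; rfl

theorem valP_zero : valP c s w 0 = 1 := by
  rw [valP, Nat.zero_mod, Nat.zero_div, lv_zero, mul_one, av_zero]

theorem valP_mul (R : MRel c s r w) {p q : ℕ} (hp : p < 10752) (hq : q < 10752) :
    pmul p q < 10752 ∧ valP c s w (pmul p q) = valP c s w p * valP c s w q := by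
  have hg : p / 64 < 168 := by omega
  have hh : q / 64 < 168 := by omega
  obtain ⟨hlt, hmul⟩ := lv_mul R hg hh
  have hlt64 := vadd_lt (p % 64) (act (p / 64) (q % 64))
  refine ⟨by unfold pmul; omega, ?_⟩
  have e1 : pmul p q % 64 = vadd (p % 64) (act (p / 64) (q % 64)) := by unfold pmul; omega
  have e2 : pmul p q / 64 = gmul (p / 64) (q / 64) := by unfold pmul; omega
  rw [valP, e1, e2, av_vadd R.toCRel, ← hmul, valP, valP]
  have := lv_act R.toARel hg (Nat.mod_lt q (by norm_num : 64 > 0))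
  calc av c s (p % 64) * av c s (act (p / 64) (q % 64)) * (lv s w (p / 64) * lv s w (q / 64))
      = av c s (p % 64) * (av c s (act (p / 64) (q % 64)) * lv s w (p / 64)) * lv s w (q / 64) := by group
    _ = _ := by rw [← this]; group

theorem valP_inv (R : MRel c s r w) {p : ℕ} (hp : p < 10752) :
    pinv p < 10752 ∧ valP c s w (pinv p) = (valP c s w p)⁻¹ := by
  have h := inv_table
  simp only [List.all_eq_true, List.mem_range, Bool.and_eq_true, Nat.beq_eq, Nat.blt_eq] at h
  obtain ⟨hlt, hg⟩ := h (p / 64) (by omega)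
  have hn : vneg (act (ginv (p / 64)) (p % 64)) < 64 := vsmul_lt _ _
  have hlt' : pinv p < 10752 := by unfold pinv; omega
  refine ⟨hlt', eq_inv_of_mul_eq_one_left ?_⟩
  rw [← (valP_mul R hlt' hp).2]
  have e1 : pinv p % 64 = vneg (act (ginv (p / 64)) (p % 64)) := by unfold pinv; omega
  have e2 : pinv p / 64 = ginv (p / 64) := by unfold pinv; omega
  have e3 : pmul (pinv p) p = vadd (vneg (act (ginv (p / 64)) (p % 64))) (act (ginv (p / 64)) (p % 64)) := by
    unfold pmul; rw [e1, e2, hg, zero_mul, zero_add]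
  have e4 : ∀ v, v < 64 → vadd (vneg v) v = 0 := by decide +kernel
  have h64 : act (ginv (p / 64)) (p % 64) < 64 := by
    have h' := act_table
    simp only [List.all_eq_true, List.mem_range, Bool.and_eq_true, Nat.blt_eq] at h'
    exact (h' _ hlt _ (Nat.mod_lt _ (by norm_num))).1
  rw [e3, e4 _ h64, valP_zero]

theorem valP_av {v : ℕ} (hv : v < 64) : valP c s w v = av c s v := by
  rw [valP, Nat.mod_eq_of_lt hv, Nat.div_eq_of_lt hv, lv_zero, mul_one]

theorem valP_lv (g : ℕ) : valP c s w (g * 64) = lv s w g := by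
  rw [valP, Nat.mul_mod_left, av_zero, one_mul, Nat.mul_div_cancel _ (by norm_num)]

theorem lcode_spec (R : MRel c s r w) (x : G) : ∀ l < 7,
    lcode l < 10752 ∧ valP c s w (lcode l) = genX c s r w x l := by
  obtain ⟨-, -, h3, h5, hlt, -, -, -, hs, hw, -⟩ := lcode_facts
  simp only [List.all_eq_true, List.mem_range, Nat.blt_eq] at hlt
  have v2 : valP c s w (lcode 2) = s := by
    show valP c s w (gS * 64) = s
    rw [valP_lv, lv, hs]; simp [genL]
  have v4 : valP c s w (lcode 4) = r := by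
    show valP c s w (gR * 64) = r
    rw [valP_lv, lv, ← R.r_eq]
  intro l hl
  refine ⟨hlt l (by omega), ?_⟩
  interval_cases l
  · show valP c s w 1 = c
    rw [valP_av (by norm_num)]; simp [av]
  · show valP c s w 3 = c⁻¹
    rw [valP_av (by norm_num)]
    have h : av c s 3 = c ^ 3 := by simp [av]
    rw [h, eq_inv_iff_mul_eq_one, ← pow_succ, R.c4]
  · exact v2
  · show valP c s w (lcode 3) = s⁻¹
    rw [h3, (valP_inv R (hlt 2 (by norm_num))).2, v2]
  · exact v4
  · show valP c s w (lcode 5) = r⁻¹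
    rw [h5, (valP_inv R (hlt 4 (by norm_num))).2, v4]
  · show valP c s w (gW * 64) = w
    rw [valP_lv, lv, hw]; simp [genL]

theorem pev_spec (R : MRel c s r w) (x : G) : ∀ {W : List ℕ}, (∀ l ∈ W, l < 7) →
    pev W < 10752 ∧ valP c s w (pev W) = prodW (genX c s r w x) W := by
  intro W
  induction W with
  | nil => intro _; exact ⟨by norm_num [pev], by rw [pev, valP_zero]; rfl⟩
  | cons l W ih =>
    intro hW
    obtain ⟨h1, e1⟩ := ih fun a ha => hW a (List.mem_cons_of_mem _ ha)
    obtain ⟨h2, e2⟩ := lcode_spec R x l (hW l List.mem_cons_self)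
    obtain ⟨h3, e3⟩ := valP_mul R h2 h1
    exact ⟨h3, by rw [pev, e3, e2, e1, prodW_cons]⟩

theorem valP_conj (R : MRel c s r w) {g p : ℕ} (hg : g < 10752) (hp : p < 10752) :
    pconj g p < 10752 ∧ valP c s w (pconj g p) = valP c s w g * valP c s w p * (valP c s w g)⁻¹ := by
  obtain ⟨h1, e1⟩ := valP_mul R hg hp
  obtain ⟨h2, e2⟩ := valP_inv R hg
  obtain ⟨h3, e3⟩ := valP_mul R h1 h2
  exact ⟨h3, by rw [pconj, e3, e1, e2]⟩

end

end CfsgLib.HSUniq
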