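import Cfsg.Agent.Lib.HSUniq.XCases

/-!
Twisting the involution by the central one leaves a single parameter.
-/

set_option autoImplicit false
set_option maxRecDepth 100000

namespace CfsgLib.HSUniq

open CfsgLib.CosetEnum

/-- the code of a word of the complement with the twisted involution -/
noncomputable def psiW : List ℕ → ℕ
  | [] => 0
  | l :: u => pmul (if l = 0 then 64 else 130) (psiW u)

/-- the twist on codes -/
noncomputable def phi (p : ℕ) : ℕ := pmul (p % 64) (psiW (lWords.getD (p / 64) []))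

/-- the index of the twist of a generator -/
noncomputable def phiIdx (j : ℕ) : ℕ := rList.idxOf (phi (rAt false ((rgen false).getD j 0)))

theorem phi_facts :
    (((List.range 168).all fun g => Nat.beq (psiW (lWords.getD g []) / 64) g) &&
    (rList.all fun p => rList.any fun q => Nat.beq q (phi p) && Nat.beq (phi q) p) &&
    ((List.range 5).all fun j => Nat.blt (phiIdx j) 64 &&
      Nat.beq (rAt false (phiIdx j)) (phi (rAt false ((rgen false).getD j 0))) &&
      Nat.beq (rAt false (fimg false (thImgs.getD 2 []) (phiIdx j)))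
        (phi (rAt false ((thImgs.getD 0 []).getD j 0))) &&
      Nat.blt ((thImgs.getD 0 []).getD j 0) 64) &&
    Nat.beq (pmul 2 128) 130 && Nat.beq (pmul 130 130) 0 && Nat.beq (pmul (pmul 130 1) 130) 3 &&
    Nat.beq (pmul (pmul 130 4) 130) 16 &&
    Nat.beq (psiW [2, 0, 2, 0, 2, 0]) 0 &&
    Nat.beq (psiW [2, 0, 0, 0, 2, 0, 0, 0, 2, 0, 0, 0, 2, 0, 0, 0]) 0 &&
    Nat.beq (psiW (lWords.getD gR [])) (gR * 64) &&
    Nat.beq (phi (pev (yWord false))) (pmul 2 (pev (yWord false))) &&
    Nat.beq (pev (yWord false)) (pev (yWord false) % 10752)) = true := by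
  decide +kernel

variable {G : Type*} [Group G] {t : G} {H R V M A : Subgroup G} {c s r w x : G} {img : List ℕ} {i k : ℕ}

theorem psiW_spec (L : LocalData t R M c s r w false) : ∀ {u : List ℕ}, (∀ l ∈ u, l = 0 ∨ l = 2) →
    psiW u < 10752 ∧ valP c s w (psiW u) = prodW (genL s (t * w)) u := by
  intro u
  induction u with
  | nil => intro _; exact ⟨by norm_num [psiW], by rw [psiW, valP_zero]; rfl⟩
  | cons l u ih =>
    intro hu
    obtain ⟨h1, e1⟩ := ih fun a ha => hu a (List.mem_cons_of_mem _ ha)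
    have h130 : pmul 2 128 = 130 := by decide +kernel
    have hv : valP c s w 130 = t * w := by
      rw [← h130, (valP_mul L.rel (by norm_num) (by norm_num)).2, L.val_two, L.val_w]
    rcases hu l List.mem_cons_self with rfl | rfl
    · obtain ⟨h2, e2⟩ := valP_mul L.rel (show 64 < 10752 by norm_num) h1
      exact ⟨h2, by rw [psiW, if_pos rfl, e2, L.val_s, e1, prodW_cons]; rfl⟩
    · obtain ⟨h2, e2⟩ := valP_mul L.rel (show 130 < 10752 by norm_num) h1
      exact ⟨h2, by rw [psiW, if_neg (by norm_num), e2, hv, e1, prodW_cons]; rfl⟩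

theorem phi_spec (L : LocalData t R M c s r w false) {p : ℕ} (hp : p < 10752) :
    phi p < 10752 ∧ valP c s w (phi p) = valP c s (t * w) p := by
  obtain ⟨h1, e1⟩ := psiW_spec L fun l hl => lWords_mem (g := p / 64) hl
  have h64 : p % 64 < 64 := Nat.mod_lt _ (by norm_num)
  obtain ⟨h2, e2⟩ := valP_mul L.rel (show p % 64 < 10752 by omega) h1
  refine ⟨h2, ?_⟩
  rw [phi, e2, e1, valP_av h64]
  rfl

theorem exists_normal (S : Setup t H R V M A) (L : LocalData t R M c s r w false)
    (O : OuterData t H R c s r w x img i k) :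
    ∃ w' x' : G, LocalData t R M c s r w' false ∧ OuterData t H R c s r w' x' (thImgs.getD 0 []) 2 0 := by
  obtain ⟨himg, hi, hk⟩ := x_case S L O
  subst i k
  rcases himg with rfl | rfl
  · exact ⟨w, x, L, O⟩
  have hf := phi_facts
  simp only [Bool.and_eq_true, List.all_eq_true, List.any_eq_true, List.mem_range, Nat.beq_eq, Nat.blt_eq] at hf
  obtain ⟨⟨⟨⟨⟨⟨⟨⟨⟨⟨⟨hdiv, hrl⟩, hgen⟩, h130⟩, hww⟩, hwc⟩, hwa⟩, h3⟩, h4⟩, hR⟩, hy⟩, hylt⟩ := hf
  have v130 : valP c s w 130 = t * w := by
    rw [← h130, (valP_mul L.rel (by norm_num) (by norm_num)).2, L.val_two, L.val_w]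
  have v3 : valP c s w 3 = c⁻¹ := by
    rw [show (3 : ℕ) = lcode 1 from rfl, (lcode_spec L.rel 1 1 (by norm_num)).2]; rfl
  have v4 : valP c s w 4 = s * c * s⁻¹ := by rw [valP_av (by norm_num)]; simp [av]
  have v16 : valP c s w 16 = s * (s * c * s⁻¹) * s⁻¹ := by rw [valP_av (by norm_num)]; simp [av]
  have vm : ∀ p < 10752, ∀ q < 10752, pmul p q < 10752 ∧ valP c s w (pmul p q) = valP c s w p * valP c s w q :=
    fun p hp q hq => valP_mul L.rel hp hq
  have rel' : MRel c s r (t * w) := by
    have R0 := L.rel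
    refine ⟨⟨R0.toCRel, R0.s7, R0.cube, ?_, ?_, ?_⟩, ?_, ?_, ?_⟩
    · rw [← v130, ← (vm _ (by norm_num) _ (by norm_num)).2, hww, valP_zero]
    · obtain ⟨l1, e1⟩ := vm 130 (by norm_num) 1 (by norm_num)
      rw [← v130, ← v3, ← hwc, (vm _ l1 _ (by norm_num)).2, e1, L.val_one]
    · obtain ⟨l1, e1⟩ := vm 130 (by norm_num) 4 (by norm_num)
      rw [← v130, ← v16, ← v4, ← hwa, (vm _ l1 _ (by norm_num)).2, e1]
    · have h := (psiW_spec L (u := [2, 0, 2, 0, 2, 0]) (by decide)).2
      rw [h3, valP_zero] at h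
      exact Eq.trans (by simp [prodW, genL, pow_succ, mul_assoc]) h.symm
    · have h := (psiW_spec L (u := [2, 0, 0, 0, 2, 0, 0, 0, 2, 0, 0, 0, 2, 0, 0, 0]) (by decide)).2
      rw [h4, valP_zero] at h
      exact Eq.trans (by simp [prodW, genL, pow_succ, mul_assoc]) h.symm
    · rw [← (psiW_spec L fun l hl => lWords_mem (g := gR) hl).2, hR, L.val_r]
  have inj' : ∀ p < 10752, ∀ q < 10752, valP c s (t * w) p = valP c s (t * w) q → p = q := by
    intro p hp q hq h
    obtain ⟨a1, b1⟩ := phi_spec L hp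
    obtain ⟨a2, b2⟩ := phi_spec L hq
    have he : phi p = phi q := L.inj _ a1 _ a2 (by rw [b1, b2, h])
    have hg : p / 64 = q / 64 := by
      have key : ∀ p < 10752, phi p / 64 = p / 64 := by
        intro p hp
        unfold phi pmul
        have e0 : p % 64 / 64 = 0 := by omega
        have hid : ∀ g < 168, gmul 0 g = g := by decide +kernel
        have hb := vadd_lt (p % 64 % 64) (act (p % 64 / 64) (psiW (lWords.getD (p / 64) []) % 64))
        rw [e0, hdiv (p / 64) (by omega), hid (p / 64) (by omega)]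
        rw [e0] at hb
        omega
      rw [← key p hp, ← key q hq, he]
    have hl : valP c s w (p % 64) = valP c s w (q % 64) := by
      obtain ⟨h1, -⟩ := psiW_spec L fun l hl => lWords_mem (g := p / 64) hl
      have ep := (vm (p % 64) (by omega) _ h1).2
      have eq := (vm (q % 64) (by omega) _ h1).2
      have : phi p = phi q := he
      unfold phi at this
      rw [hg] at this ep
      rw [this] at ep
      rw [hg] at eq
      exact mul_right_cancel (ep.symm.trans eq)
    have := L.inj _ (show p % 64 < 10752 by omega) _ (show q % 64 < 10752 by omega) hl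
    omega
  have L' : LocalData t R M c s r (t * w) false := by
    refine ⟨rel', L.sq, fun g => ?_, inj', fun g => ?_⟩
    · constructor
      · intro hg
        let f : Fin 10752 → M := fun p => ⟨valP c s w (phi p), (L.valM _).2 ⟨_, (phi_spec L p.2).1, rfl⟩⟩
        have hinj : Function.Injective f := fun p q h => Fin.ext (inj' _ p.2 _ q.2 (by
          rw [← (phi_spec L p.2).2, ← (phi_spec L q.2).2]; exact congrArg Subtype.val h))
        have hbij : Function.Bijective f := by
          haveI : Finite M := (Nat.finite_of_card_ne_zero (by rw [S.cardM]; norm_num))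
          exact (Nat.bijective_iff_injective_and_card f).2 ⟨hinj, by rw [S.cardM, Nat.card_fin]⟩
        obtain ⟨p, hp⟩ := hbij.2 ⟨g, hg⟩
        exact ⟨p, p.2, (phi_spec L p.2).2.symm.trans (congrArg Subtype.val hp)⟩
      · rintro ⟨p, hp, rfl⟩
        exact (L.valM _).2 ⟨_, (phi_spec L hp).1, (phi_spec L hp).2⟩
    · have hlt : ∀ p ∈ rList, p < 10752 := by decide +kernel
      rw [L.valR]
      constructor
      · rintro ⟨p, hp, rfl⟩
        obtain ⟨q, hq, -, e⟩ := hrl p hp
        exact ⟨q, hq, by rw [← (phi_spec L (hlt q hq)).2, e]⟩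
      · rintro ⟨p, hp, rfl⟩
        obtain ⟨q, hq, e, -⟩ := hrl p hp
        exact ⟨q, hq, by rw [e, (phi_spec L (hlt p hp)).2]⟩
  have ht2 : t * t = 1 := by rw [← pow_two, ← S.two, pow_orderOf_eq_one]
  have hxt := t_comm_x S O
  refine ⟨t * w, t * x, L', List.mem_of_getElem? (i := 0) rfl, by norm_num, Or.inl rfl,
    H.mul_mem ((S.hH t).2 rfl) O.xH, ?_, ?_, ?_, ?_, fun j hj => ?_, ?_⟩
  · have hrt : r * t = t * r := by
      have := L.rel
      have hr : r ∈ H := by
        rw [← L.val_r, mem_H_iff S L (by decide)]; decide +kernel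
      exact (S.hH r).1 hr
    calc t * x * r = t * (x * r) := by group
      _ = t * r * x := by rw [O.xr]; group
      _ = r * (t * x) := by rw [← hrt]; group
  · calc t * x * (t * x) = t * (x * t) * x := by group
      _ = t * t * (x * x) := by rw [hxt]; group
      _ = c ^ 0 := by rw [ht2, O.xx, one_mul]
  · calc t * x * (t * w) * (t * x)⁻¹ = t * (x * t) * w * x⁻¹ * t⁻¹ := by group
      _ = t * t * (x * w * x⁻¹) * t⁻¹ := by rw [hxt]; group
      _ = c ^ 2 * (w * t⁻¹) := by rw [ht2, O.xw]; group
      _ = c ^ 2 * (t * w) := by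
          congr 1
          have hwH : w ∈ H := by rw [← L.val_w, mem_H_iff S L (by norm_num)]; decide +kernel
          rw [inv_eq_of_mul_eq_one_left ht2]
          exact (S.hH w).1 hwH
  · have hY : valP c s (t * w) (pev (yWord false)) = t * valP c s w (pev (yWord false)) := by
      have hlt : pev (yWord false) < 10752 := img_facts.2.2.2.2.2
      rw [← (phi_spec L hlt).2, hy, (vm _ (by norm_num) _ hlt).2, L.val_two]
    rw [hY, show t * x * (t * valP c s w (pev (yWord false))) = x * valP c s w (pev (yWord false)) by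
      calc _ = t * (x * t) * valP c s w (pev (yWord false)) := by group
        _ = t * t * (x * valP c s w (pev (yWord false))) := by rw [hxt]; group
        _ = _ := by rw [ht2, one_mul]]
    exact O.xy
  · obtain ⟨⟨⟨hil, hie⟩, himg⟩, hlt⟩ := hgen j hj
    obtain ⟨hxl, hxe⟩ := xconj S L O _ hil
    have g1 : (rgen false).getD j 0 < 64 := by
      have := img_facts.2.1
      simp only [List.all_eq_true, List.mem_range, Nat.blt_eq] at this
      exact this j hj
    rw [← (phi_spec L (rAt_lt g1)).2, ← (phi_spec L (rAt_lt hlt)).2, ← hie, ← himg, ← hxe]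
    have hH : x * valP c s w (rAt false (phiIdx j)) * x⁻¹ ∈ H := by
      rw [hxe]
      refine S.R_le ((L.valR _).2 ⟨_, ?_, rfl⟩)
      unfold rAt
      rw [List.getD_eq_getElem _ _ ((rData_ok false).1.symm ▸ hxl)]
      exact List.getElem_mem _
    calc t * x * valP c s w (rAt false (phiIdx j)) * (t * x)⁻¹
        = t * (x * valP c s w (rAt false (phiIdx j)) * x⁻¹) * t⁻¹ := by group
      _ = _ := by rw [← (S.hH _).1 hH]; group
  · obtain ⟨π, p, hker, hfix, hmove⟩ := O.pos
    have htR : t ∈ R := S.V_le_R S.tV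
    refine ⟨π, p, hker, fun h hh => ?_, fun hxH hyH => ?_⟩
    · rcases hh with hh | hh | hh
      · exact hfix h (Or.inl hh)
      · have hwH : w ∈ H := by rw [← L.val_w, mem_H_iff S L (by norm_num)]; decide +kernel
        have e : h = ⟨t, S.R_le htR⟩ * ⟨w, hwH⟩ := Subtype.ext hh
        rw [e, map_mul, (hker _).2 htR, one_mul]
        exact hfix _ (Or.inr (Or.inl rfl))
      · exact hfix h (Or.inr (Or.inr hh))
    · have hlt : pev (yWord false) < 10752 := img_facts.2.2.2.2.2
      have hy0 : valP c s w (pev (yWord false)) ∈ H := by rw [mem_H_iff S L hlt]; decide +kernel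
      have ex : (⟨t * x, hxH⟩ : H) = ⟨t, S.R_le htR⟩ * ⟨x, O.xH⟩ := rfl
      have ey : (⟨valP c s (t * w) (pev (yWord false)), hyH⟩ : H) = ⟨t, S.R_le htR⟩ * ⟨_, hy0⟩ := Subtype.ext (by
        show valP c s (t * w) _ = t * _
        rw [← (phi_spec L hlt).2, hy, (vm _ (by norm_num) _ hlt).2, L.val_two])
      rw [ex, ey, map_mul, map_mul, (hker _).2 htR, one_mul, one_mul]
      exact hmove O.xH hy0

end CfsgLib.HSUniq
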