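import Cfsg.Agent.Lib.HSUniq.RData

/-!
The automorphisms of the radical that an outer element of the centralizer can induce.
-/

set_option autoImplicit false
set_option Elab.async false
set_option maxRecDepth 100000

namespace CfsgLib.HSUniq

open CfsgLib.CosetEnum

/-- multiplication table of the radical -/
noncomputable def rmul : Bool → ℕ → ℕ → ℕ
  | false, i, j => rMulT.at' 8 (i * 64 + j)
  | true, i, j => rMulTB.at' 8 (i * 64 + j)

/-- inverse table -/
def rinv : Bool → ℕ → ℕ
  | false, i => rInvT.getD i 0
  | true, i => rInvTB.getD i 0

/-- conjugation by the involution -/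
def adW : Bool → ℕ → ℕ
  | false, i => adWT.getD i 0
  | true, i => adWTB.getD i 0

/-- conjugation by the conjugate involution -/
def adY : Bool → ℕ → ℕ
  | false, i => adYT.getD i 0
  | true, i => adYTB.getD i 0

/-- conjugation by the element of order three -/
def adR : Bool → ℕ → ℕ
  | false, i => adRT.getD i 0
  | true, i => adRTB.getD i 0

/-- indices of the five generators -/
def rgen : Bool → List ℕ
  | false => rGen
  | true => rGenB

/-- the element of an index -/
def rAt (b : Bool) (i : ℕ) : ℕ := (rListV b).getD i 0

/-- word of the conjugate involution -/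
def yWord (b : Bool) : List ℕ := [2, 0, 3] ++ wWord b ++ [2, 1, 3]

/-- the map with given images of the generators -/
noncomputable def fimg (b : Bool) (img : List ℕ) (i : ℕ) : ℕ :=
  ((rWordsV b).getD i []).foldl (fun o k => rmul b o (img.getD k 0)) 0

/-- the images of the generators, from three of them -/
def mkImg (b : Bool) (sc v e : ℕ) : List ℕ := [sc, v, adR b v, e, adR b e]

/-- the conditions -/
noncomputable def thetaOK (b : Bool) (img : List ℕ) : Bool :=
  ((List.range 64).all fun i => (List.range 5).all fun k =>
    Nat.beq (fimg b img (rmul b i ((rgen b).getD k 0))) (rmul b (fimg b img i) (img.getD k 0))) &&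
  ((List.range 64).all fun i => Nat.beq (fimg b img (fimg b img i)) i) &&
  ((List.range 64).all fun i => Nat.beq (fimg b img (adW b i)) (adW b (fimg b img i))) &&
  (List.range 64).any fun z => (List.range 5).all fun k =>
    let g := (rgen b).getD k 0
    Nat.beq (fimg b img (adY b (fimg b img (adY b (fimg b img (adY b g)))))) (rmul b (rmul b z g) (rinv b z))

/-- the indices of involutions and the identity -/
noncomputable def sqOne (b : Bool) : List ℕ := (List.range 64).filter fun v => Nat.beq (rmul b v v) 0

/-- the candidates for one image of the central generator -/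
noncomputable def goodImgs (b : Bool) (sc : ℕ) : List (List ℕ) :=
  ((sqOne b).flatMap fun v => (sqOne b).map fun e => mkImg b sc v e).filter (thetaOK b)

theorem table_facts : ∀ b : Bool, ((List.range 64).all fun i =>
      Nat.blt (rAt b i) 10752 &&
      ((List.range 64).all fun j => Nat.blt (rmul b i j) 64 &&
        Nat.beq (rAt b (rmul b i j)) (pmul (rAt b i) (rAt b j))) &&
      Nat.blt (rinv b i) 64 && Nat.beq (rAt b (rinv b i)) (pinv (rAt b i)) &&
      Nat.blt (adW b i) 64 && Nat.beq (rAt b (adW b i)) (pconj (pev (wWord b)) (rAt b i)) &&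
      Nat.blt (adY b i) 64 && Nat.beq (rAt b (adY b i)) (pconj (pev (yWord b)) (rAt b i)) &&
      Nat.blt (adR b i) 64 && Nat.beq (rAt b (adR b i)) (pconj (pev [4]) (rAt b i))) = true ∧
    ((List.range 5).all fun k => Nat.blt ((rgen b).getD k 0) 64 &&
      Nat.beq (rAt b ((rgen b).getD k 0)) (pev ((rGenW b).getD k []))) = true := by
  decide +kernel

theorem struct_facts : ∀ b : Bool, rAt b 0 = 0 ∧ (rgen b).getD 0 0 = 1 ∧ adR b ((rgen b).getD 1 0) = (rgen b).getD 2 0 ∧
    adR b ((rgen b).getD 3 0) = (rgen b).getD 4 0 ∧ (rAt b 1 = 1 ∧ rAt b 2 = 2 ∧ rAt b 3 = 3) ∧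
    ((List.range 64).all fun i => Nat.blt i 4 ||
      (List.range 5).any fun k => !(Nat.beq (rmul b i ((rgen b).getD k 0)) (rmul b ((rgen b).getD k 0) i))) = true ∧
    ((List.range 64).all fun i => Nat.blt i 4 || !(Nat.beq (adR b i) i)) = true := by
  decide +kernel

theorem goodA1 : goodImgs false 1 = [] := by decide +kernel

theorem goodA3 : goodImgs false 3 = thImgs := by decide +kernel

theorem goodB1 : goodImgs true 1 = [] := by decide +kernel

theorem goodB3 : goodImgs true 3 = [] := by decide +kernel

theorem central_z : (thImgs.all fun img => (List.range 64).all fun z => Nat.blt z 4 ||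
    !((List.range 5).all fun k =>
      let g := (rgen false).getD k 0
      Nat.beq (fimg false img (adY false (fimg false img (adY false (fimg false img (adY false g))))))
        (rmul false (rmul false z g) (rinv false z)))) = true := by decide +kernel

end CfsgLib.HSUniq
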