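import Mathlib.GroupTheory.Perm.Fin
import Mathlib.Tactic

/-!
Facts on the symmetric group of degree five.
-/

set_option autoImplicit false
set_option maxRecDepth 100000

namespace CfsgLib.HSUniq

open Equiv

theorem exists_outer : ∀ σ : Perm (Fin 5), σ * σ * σ = 1 → σ ≠ 1 →
    ∃ τ : Perm (Fin 5), τ * τ = 1 ∧ τ ≠ 1 ∧ σ * τ = τ * σ := by
  decide +kernel

/-- the conclusion on the position -/
def posOK (σ υ f τ : Perm (Fin 5)) : Bool :=
  decide (τ * υ = υ * τ) && decide (τ * (f * υ * f) * (τ * (f * υ * f)) * (τ * (f * υ * f)) = 1) &&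
    decide (∃ p, σ p = p ∧ υ p = p ∧ f p = p ∧ τ p ≠ p ∧ τ ((f * υ * f) (τ p)) ≠ p)

/-- the hypotheses on the outer involution -/
def posTau (σ υ f τ : Perm (Fin 5)) : Bool :=
  !(decide (τ * τ = 1) && decide (σ * τ = τ * σ)) || decide (τ = 1) || posOK σ υ f τ

/-- the hypotheses on the four-group -/
def posF (σ υ f : Perm (Fin 5)) : Bool :=
  !(decide (f * f = 1) && decide (f * σ * (f * σ) * (f * σ) = 1) && decide (υ * f * υ = σ * f * σ * σ)) ||
    decide (f = 1) || decide (∀ τ, posTau σ υ f τ = true)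

/-- the hypotheses on the dihedral group -/
def posU (σ υ : Perm (Fin 5)) : Bool :=
  !(decide (υ * υ = 1) && decide (υ * σ * υ = σ * σ)) || decide (υ = 1) || decide (∀ f, posF σ υ f = true)

/-- the hypotheses on the element of order three -/
def posS (σ : Perm (Fin 5)) : Bool :=
  !decide (σ * σ * σ = 1) || decide (σ = 1) || decide (∀ υ, posU σ υ = true)

theorem pos_all : ∀ σ, posS σ = true := by decide +kernel

/-- The position of the involution commuting with the element of order three. -/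
theorem outer_position {σ υ f τ : Perm (Fin 5)} (h1 : σ * σ * σ = 1) (h1' : σ ≠ 1) (h2 : υ * υ = 1) (h2' : υ ≠ 1)
    (h3 : υ * σ * υ = σ * σ) (h4 : f * f = 1) (h4' : f ≠ 1) (h5 : f * σ * (f * σ) * (f * σ) = 1)
    (h6 : υ * f * υ = σ * f * σ * σ) (h7 : τ * τ = 1) (h7' : τ ≠ 1) (h8 : σ * τ = τ * σ) :
    τ * υ = υ * τ ∧ τ * (f * υ * f) * (τ * (f * υ * f)) * (τ * (f * υ * f)) = 1 ∧
      ∃ p, σ p = p ∧ υ p = p ∧ f p = p ∧ τ p ≠ p ∧ τ ((f * υ * f) (τ p)) ≠ p := by
  have hs := pos_all σ
  simp only [posS, h1, decide_true, Bool.not_true, Bool.false_or, Bool.or_eq_true, decide_eq_true_eq, h1',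
    false_or] at hs
  have hu := hs υ
  simp only [posU, h2, h3, decide_true, Bool.and_self, Bool.not_true, Bool.false_or, Bool.or_eq_true,
    decide_eq_true_eq, h2', false_or] at hu
  have hf := hu f
  simp only [posF, h4, h5, h6, decide_true, Bool.and_self, Bool.not_true, Bool.false_or, Bool.or_eq_true,
    decide_eq_true_eq, h4', false_or] at hf
  have ht := hf τ
  simp only [posTau, h7, h8, decide_true, Bool.and_self, Bool.not_true, Bool.false_or, Bool.or_eq_true,
    decide_eq_true_eq, h7', false_or, posOK, Bool.and_eq_true] at ht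
  exact ⟨ht.1.1, ht.1.2, ht.2⟩

end CfsgLib.HSUniq
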