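import Cfsg.Agent.Lib.HSUniq.MLocal
import Cfsg.Agent.Lib.HSUniq.OuterChecks
import Cfsg.Agent.Lib.HSUniq.SFive

/-!
An element of the centralizer outside the 2-local subgroup, and its relations.
-/

set_option autoImplicit false
set_option maxRecDepth 100000
set_option maxHeartbeats 1000000

namespace CfsgLib.HSUniq

open CfsgLib.CosetEnum

/-- The relations of the outer element. -/
structure OuterData {G : Type*} [Group G] (t : G) (H R : Subgroup G) (c s r w x : G) (img : List ℕ) (i k : ℕ) :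
    Prop where
  img_mem : img ∈ thImgs
  i_lt : i < 4
  k_cases : k = 0 ∨ k = 2
  xH : x ∈ H
  xr : x * r = r * x
  xx : x * x = c ^ k
  xw : x * w * x⁻¹ = c ^ i * w
  xy : (x * valP c s w (pev (yWord false))) ^ 3 = 1
  xR : ∀ j < 5, x * valP c s w (rAt false ((rgen false).getD j 0)) * x⁻¹ = valP c s w (rAt false (img.getD j 0))
  pos : ∃ (π : H →* Equiv.Perm (Fin 5)) (p : Fin 5), (∀ h : H, π h = 1 ↔ (h : G) ∈ R) ∧
    (∀ h : H, ((h : G) = r ∨ (h : G) = w ∨ (h : G) = s * c * s⁻¹) → π h p = p) ∧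
    ∀ (hx : x ∈ H) (hy : valP c s w (pev (yWord false)) ∈ H),
      π ⟨x, hx⟩ p ≠ p ∧ π ⟨x, hx⟩ (π ⟨_, hy⟩ (π ⟨x, hx⟩ p)) ≠ p

theorem code_facts : ∀ b : Bool,
    (([gR * 64, 4, pev (wWord b), pev (yWord b)] : List ℕ).all fun p => Nat.blt p 10752 && Nat.beq (pconj p 2) 2) = true ∧
    ¬ gR * 64 ∈ rListV b ∧ ¬ pev (wWord b) ∈ rListV b ∧ ¬ 4 ∈ rListV b ∧
    pmul 4 4 ∈ rListV b ∧ pmul (pev (wWord b)) (pev (wWord b)) ∈ rListV b ∧
    pmul (pmul (pmul 4 (gR * 64)) (pmul 4 (gR * 64))) (pmul 4 (gR * 64)) ∈ rListV b ∧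
    pmul (pmul (pmul (pev (wWord b)) 4) (pev (wWord b)))
      (pinv (pmul (pmul (pmul (gR * 64) 4) (gR * 64)) (gR * 64))) ∈ rListV b ∧
    pmul (pmul (pmul (pev (wWord b)) (gR * 64)) (pev (wWord b))) (gR * 64) = 0 ∧
    pmul (pev (wWord b)) (pev (wWord b)) = 0 ∧
    pconj (pev (yWord b)) 1 = 3 ∧
    pev (yWord b) = pmul (pmul 4 (pev (wWord b))) (pinv 4) ∧
    (∀ l ∈ yWord b, l < 7) ∧ (∀ l ∈ wWord b, l < 7) := by
  decide +kernel

variable {G : Type*} [Group G] [Finite G] {t : G} {H R V M A : Subgroup G} {c s r w : G} {var : Bool}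

theorem exists_outer_data (S : Setup t H R V M A) (L : LocalData t R M c s r w var) :
    var = false ∧ ∃ (x : G) (img : List ℕ) (i k : ℕ), OuterData t H R c s r w x img i k := by
  classical
  have RR := L.rel
  obtain ⟨hfacts, nr, nw, n4, sq4, sqw, f3, fw, wrw, ww0, yc, ye, ywl, wwl⟩ := code_facts var
  simp only [List.all_eq_true, List.mem_cons, List.not_mem_nil, or_false, forall_eq_or_imp, forall_eq,
    Bool.and_eq_true, Nat.blt_eq, Nat.beq_eq] at hfacts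
  obtain ⟨⟨rlt, rfix⟩, ⟨alt, afix⟩, ⟨wlt, wfix⟩, ⟨ylt, yfix⟩⟩ := hfacts
  obtain ⟨htab, hgens⟩ := table_facts var
  simp only [List.all_eq_true, List.mem_range, Bool.and_eq_true, Nat.blt_eq, Nat.beq_eq] at htab hgens
  obtain ⟨h00, g0, g12, g34, ⟨at1, at2, at3⟩, hcent, hadR⟩ := struct_facts var
  obtain ⟨hlen, hnd, hchk, -⟩ := rData_ok var
  simp only [List.all_eq_true, List.mem_range, Bool.and_eq_true, Nat.blt_eq, Nat.beq_eq] at hchk
  set v : ℕ → G := fun p => valP c s w p with hv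
  set e : ℕ → G := fun i => v (rAt var i) with he
  have elt : ∀ i < 64, rAt var i < 10752 := fun i hi => (htab i hi).1.1.1.1.1.1.1.1.1
  have eR : ∀ i < 64, e i ∈ R := fun i hi => (L.valR _).2 ⟨rAt var i, by
    unfold rAt; rw [List.getD_eq_getElem _ _ (hlen.symm ▸ hi)]; exact List.getElem_mem _, rfl⟩
  have Re : ∀ g ∈ R, ∃ i < 64, e i = g := by
    intro g hg
    obtain ⟨p, hp, rfl⟩ := (L.valR g).1 hg
    obtain ⟨i, hi, rfl⟩ := List.getElem_of_mem hp
    exact ⟨i, hlen ▸ hi, by simp only [he, rAt]; rw [List.getD_eq_getElem _ _ hi]⟩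
  have einj : ∀ i < 64, ∀ j < 64, e i = e j → i = j := by
    intro i hi j hj h
    have h' := L.inj _ (elt i hi) _ (elt j hj) h
    unfold rAt at h'
    rw [List.getD_eq_getElem _ _ (hlen.symm ▸ hi), List.getD_eq_getElem _ _ (hlen.symm ▸ hj)] at h'
    exact (hnd.getElem_inj_iff).1 h'
  have emul : ∀ i < 64, ∀ j < 64, rmul var i j < 64 ∧ e (rmul var i j) = e i * e j := fun i hi j hj => by
    obtain ⟨h1, h2⟩ := (htab i hi).1.1.1.1.1.1.1.1.2 j hj
    exact ⟨h1, by simp only [he, hv, h2, (valP_mul RR (elt i hi) (elt j hj)).2]⟩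
  have einv : ∀ i < 64, rinv var i < 64 ∧ e (rinv var i) = (e i)⁻¹ := fun i hi => by
    refine ⟨(htab i hi).1.1.1.1.1.1.1.2, ?_⟩
    simp only [he, hv, (htab i hi).1.1.1.1.1.1.2, (valP_inv RR (elt i hi)).2]
  have ecW : ∀ i < 64, adW var i < 64 ∧ e (adW var i) = v (pev (wWord var)) * e i * (v (pev (wWord var)))⁻¹ :=
    fun i hi => ⟨(htab i hi).1.1.1.1.1.2,
      by simp only [he, hv, (htab i hi).1.1.1.1.2, (valP_conj RR wlt (elt i hi)).2]⟩
  have ecY : ∀ i < 64, adY var i < 64 ∧ e (adY var i) = v (pev (yWord var)) * e i * (v (pev (yWord var)))⁻¹ :=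
    fun i hi => ⟨(htab i hi).1.1.1.2,
      by simp only [he, hv, (htab i hi).1.1.2, (valP_conj RR ylt (elt i hi)).2]⟩
  have hp4 : v (pev [4]) = r := by
    simp only [hv]
    rw [(pev_spec RR 1 (W := [4]) (by decide)).2]; simp [prodW, genX]
  have ecR : ∀ i < 64, adR var i < 64 ∧ e (adR var i) = r * e i * r⁻¹ := fun i hi =>
    ⟨(htab i hi).1.2, by
      simp only [he, hv, (htab i hi).2, (valP_conj RR (pev_spec RR 1 (W := [4]) (by decide)).1 (elt i hi)).2]
      rw [show valP c s w (pev [4]) = r from hp4]⟩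
  have v2t : v 2 = t := by
    simp only [hv]
    rw [valP_av (by norm_num)]; simp [av, ← L.sq, pow_two]
  have v1c : v 1 = c := by simp only [hv]; rw [valP_av (by norm_num)]; simp [av]
  have inH : ∀ p < 10752, pconj p 2 = 2 → v p ∈ H := fun p hp h => by
    rw [S.hH]
    have := (valP_conj RR hp (by norm_num : 2 < 10752)).2
    rw [h, show valP c s w 2 = t from v2t] at this
    calc v p * t = v p * t * (v p)⁻¹ * v p := by group
      _ = t * v p := by rw [← this]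
  have notR : ∀ p < 10752, ¬ p ∈ rListV var → ¬ v p ∈ R := fun p hp hn hR => by
    obtain ⟨q, hq, e'⟩ := (L.valR _).1 hR
    obtain ⟨i, hi, rfl⟩ := List.getElem_of_mem hq
    exact hn (L.inj _ ((List.getD_eq_getElem _ 0 hi) ▸ elt i (hlen ▸ hi)) _ hp e' ▸ List.getElem_mem hi)
  have inR : ∀ p, p ∈ rListV var → v p ∈ R := fun p hp => (L.valR _).2 ⟨p, hp, rfl⟩
  set σ' : G := v (gR * 64) with hσ'
  have hσr : σ' = r := by simp only [hσ', hv]; rw [valP_lv, lv]; exact RR.r_eq.symm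
  set a1 : G := s * c * s⁻¹ with ha1
  have hva : v 4 = a1 := by simp only [hv]; rw [valP_av (by norm_num)]; simp [av, ha1]
  set w' : G := v (pev (wWord var)) with hw'
  set y : G := v (pev (yWord var)) with hy
  have vm : ∀ p < 10752, ∀ q < 10752, pmul p q < 10752 ∧ v (pmul p q) = v p * v q := fun p hp q hq =>
    valP_mul RR hp hq
  have hye : y = a1 * w' * a1⁻¹ := by
    simp only [hy, ye]
    obtain ⟨l1, e1⟩ := vm _ alt _ wlt
    obtain ⟨li, ei⟩ := valP_inv RR alt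
    rw [(vm _ l1 _ li).2, e1, hva, show v (pinv 4) = (v 4)⁻¹ from ei, hva, hw']
  have hr3 : r * r * r = 1 := by
    obtain ⟨-, hG3⟩ : gR < 168 ∧ pmul (pmul (gR * 64) (gR * 64)) (gR * 64) = 0 := by decide +kernel
    obtain ⟨l1, e1⟩ := vm _ rlt _ rlt
    have := (vm _ l1 _ rlt).2
    rw [hG3, e1, show v 0 = 1 from valP_zero, ← hσ', hσr] at this
    exact this.symm
  have hww : w' * w' = 1 := by
    have := (vm _ wlt _ wlt).2
    rw [ww0, show v 0 = 1 from valP_zero] at this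
    exact this.symm
  have hwrw : w' * r * w' * r = 1 := by
    obtain ⟨l1, e1⟩ := vm _ wlt _ rlt
    obtain ⟨l2, e2⟩ := vm _ l1 _ wlt
    have := (vm _ l2 _ rlt).2
    rw [wrw, e2, e1, show v 0 = 1 from valP_zero, ← hσ', hσr, ← hw'] at this
    exact this.symm
  -- the images in the quotient
  obtain ⟨π, hπs, hπk⟩ := S.quot
  have rH : r ∈ H := hσr ▸ inH _ rlt rfix
  have wH : w' ∈ H := inH _ wlt wfix
  have aH : a1 ∈ H := hva ▸ inH _ alt afix
  have yH : y ∈ H := inH _ ylt yfix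
  have π1 : ∀ (g : G) (hg : g ∈ H), g ∈ R → π ⟨g, hg⟩ = 1 := fun g hg h => (hπk _).2 h
  set σ := π ⟨r, rH⟩ with hσd
  set υ := π ⟨w', wH⟩ with hυd
  set φ := π ⟨a1, aH⟩ with hφd
  have πeq : ∀ (g : G) (hg : g ∈ H) (u : Equiv.Perm (Fin 5)), π ⟨g, hg⟩ = u → g ∈ R → u = 1 :=
    fun g hg u h hR => h ▸ π1 g hg hR
  have s3 : σ * σ * σ = 1 := by
    have e : (⟨r, rH⟩ : H) * ⟨r, rH⟩ * ⟨r, rH⟩ = 1 := Subtype.ext hr3
    have := congrArg π e
    rwa [map_mul, map_mul, map_one] at this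
  have s1 : σ ≠ 1 := fun h => notR _ rlt nr (by rw [← hσ', hσr]; exact (hπk ⟨r, rH⟩).1 h)
  have u2 : υ * υ = 1 := by
    have e : (⟨w', wH⟩ : H) * ⟨w', wH⟩ = 1 := Subtype.ext hww
    have := congrArg π e
    rwa [map_mul, map_one] at this
  have u1 : υ ≠ 1 := fun h => notR _ wlt nw ((hπk ⟨w', wH⟩).1 h)
  have usu : υ * σ * υ = σ * σ := by
    have e : (⟨w', wH⟩ : H) * ⟨r, rH⟩ * ⟨w', wH⟩ * ⟨r, rH⟩ = 1 := Subtype.ext hwrw
    have h : υ * σ * υ * σ = 1 := by
      have := congrArg π e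
      rwa [map_mul, map_mul, map_mul, map_one] at this
    rw [mul_eq_one_iff_eq_inv.1 h]
    exact inv_eq_of_mul_eq_one_left s3
  have f2 : φ * φ = 1 := by
    refine πeq (a1 * a1) (H.mul_mem aH aH) _ (map_mul π ⟨a1, aH⟩ ⟨a1, aH⟩) ?_
    rw [← hva, ← (vm _ alt _ alt).2]; exact inR _ sq4
  have f1 : φ ≠ 1 := fun h => notR _ alt n4 (hva ▸ (hπk ⟨a1, aH⟩).1 h)
  have f35 : φ * σ * (φ * σ) * (φ * σ) = 1 := by
    refine πeq (a1 * r * (a1 * r) * (a1 * r)) (H.mul_mem (H.mul_mem (H.mul_mem aH rH) (H.mul_mem aH rH)) (H.mul_mem aH rH))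
      _ ?_ ?_
    · simp only [σ, φ, ← map_mul]; rfl
    · obtain ⟨l1, e1⟩ := vm _ alt _ rlt
      obtain ⟨l2, e2⟩ := vm _ l1 _ l1
      have h := inR _ f3
      rw [(vm _ l2 _ l1).2, e2, e1, hva, ← hσ', hσr] at h
      exact h
  have ufu : υ * φ * υ = σ * φ * σ * σ := by
    have h : υ * φ * υ * (σ * φ * σ * σ)⁻¹ = 1 := by
      refine πeq (w' * a1 * w' * (r * a1 * r * r)⁻¹)
        (H.mul_mem (H.mul_mem (H.mul_mem wH aH) wH) (H.inv_mem (H.mul_mem (H.mul_mem (H.mul_mem rH aH) rH) rH))) _ ?_ ?_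
      · simp only [σ, υ, φ, ← map_mul, ← map_inv]; rfl
      · obtain ⟨l1, e1⟩ := vm _ wlt _ alt
        obtain ⟨l2, e2⟩ := vm _ l1 _ wlt
        obtain ⟨k1, d1⟩ := vm _ rlt _ alt
        obtain ⟨k2, d2⟩ := vm _ k1 _ rlt
        obtain ⟨k3, d3⟩ := vm _ k2 _ rlt
        obtain ⟨k4, d4⟩ := valP_inv RR k3
        have h := inR _ fw
        rw [(vm _ l2 _ k4).2, e2, e1, show v (pinv _) = _ from d4] at h
        simp only [hv] at d1 d2 d3 h ⊢
        rw [d3, d2, d1] at h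
        simp only [← hv] at h
        rw [hva, ← hσ', hσr] at h
        exact h
    exact mul_inv_eq_one.1 h
  obtain ⟨τ, t2, t1, tc⟩ := exists_outer σ s3 s1
  obtain ⟨tu, tyt, p, ps, pu, pf, pt, pty⟩ := outer_position s3 s1 u2 u1 usu f2 f1 f35 ufu t2 t1 tc
  have φi : φ⁻¹ = φ := inv_eq_of_mul_eq_one_left f2
  have πy : π ⟨y, yH⟩ = φ * υ * φ := by
    have e : (⟨y, yH⟩ : H) = ⟨a1, aH⟩ * ⟨w', wH⟩ * (⟨a1, aH⟩ : H)⁻¹ := Subtype.ext hye
    rw [e, map_mul, map_mul, map_inv, ← hφd, φi]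
  -- lift and adjust
  obtain ⟨⟨x0, x0H⟩, hx0⟩ := hπs τ
  have hx0r : x0 * r * x0⁻¹ * r⁻¹ ∈ R := by
    refine (hπk ⟨_, H.mul_mem (H.mul_mem (H.mul_mem x0H rH) (H.inv_mem x0H)) (H.inv_mem rH)⟩).1 ?_
    show π (⟨x0, x0H⟩ * ⟨r, rH⟩ * (⟨x0, x0H⟩ : H)⁻¹ * (⟨r, rH⟩ : H)⁻¹) = 1
    rw [map_mul, map_mul, map_mul, map_inv, map_inv, hx0, ← hσd, ← tc]; group
  obtain ⟨ρ, hρ, hρr⟩ : ∃ ρ ∈ R, ρ * (x0 * r * x0⁻¹) * ρ⁻¹ = r := by
    let P : Subgroup G := R ⊔ Subgroup.zpowers r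
    have hn : Subgroup.zpowers r ≤ Subgroup.normalizer (R : Set G) := by
      rw [Subgroup.zpowers_le, Subgroup.mem_normalizer_iff]
      intro z
      refine ⟨fun hz => S.R_normal r rH z hz, fun hz => ?_⟩
      have := S.R_normal r⁻¹ (H.inv_mem rH) _ hz
      have e' : r⁻¹ * (r * z * r⁻¹) * r⁻¹⁻¹ = z := by group
      rwa [e'] at this
    have ho : orderOf r = 3 := by
      haveI : Fact (Nat.Prime 3) := ⟨by norm_num⟩
      refine orderOf_eq_prime (by rw [← hr3]; simp [pow_succ]) fun h => ?_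
      exact notR _ rlt nr (by rw [← hσ', hσr, h]; exact R.one_mem)
    let φP : R × Subgroup.zpowers r → P := fun q => ⟨(q.1 : G) * q.2,
      P.mul_mem ((le_sup_left : R ≤ P) q.1.2) ((le_sup_right : Subgroup.zpowers r ≤ P) q.2.2)⟩
    have hφP : Function.Surjective φP := by
      rintro ⟨z, hz⟩
      rw [← SetLike.mem_coe, Subgroup.coe_mul_of_right_le_normalizer_left R _ hn] at hz
      obtain ⟨a, ha, b, hb, rfl⟩ := hz
      exact ⟨(⟨a, ha⟩, ⟨b, hb⟩), rfl⟩
    have hPle : Nat.card P ≤ 192 := by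
      refine (Nat.card_le_card_of_surjective φP hφP).trans ?_
      rw [Nat.card_prod, S.cardR, Nat.card_zpowers, ho]
    have hPd : 192 ∣ Nat.card P := by
      have h1 := Subgroup.card_dvd_of_le (le_sup_left : R ≤ P)
      have h2 := Subgroup.card_dvd_of_le (le_sup_right : Subgroup.zpowers r ≤ P)
      rw [S.cardR] at h1
      rw [Nat.card_zpowers, ho] at h2
      exact Nat.Coprime.mul_dvd_of_dvd_of_dvd (by norm_num : Nat.Coprime 64 3) h1 h2
    have hP : Nat.card P = 192 := le_antisymm hPle (Nat.le_of_dvd Nat.card_pos hPd)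
    haveI : Fact (Nat.Prime 3) := ⟨by norm_num⟩
    have hq : x0 * r * x0⁻¹ ∈ P := by
      have := P.mul_mem ((le_sup_left : R ≤ P) hx0r) ((le_sup_right : Subgroup.zpowers r ≤ P) (Subgroup.mem_zpowers r))
      rwa [inv_mul_cancel_right] at this
    have hrP : r ∈ P := (le_sup_right : Subgroup.zpowers r ≤ P) (Subgroup.mem_zpowers r)
    have hsyl : ∀ z : P, orderOf z = 3 → Nat.card (Subgroup.zpowers z) = 3 ^ (Nat.card P).factorization 3 := by
      intro z hz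
      rw [Nat.card_zpowers, hz, hP, show (192 : ℕ) = 3 * 64 by norm_num,
        Nat.factorization_mul (by norm_num) (by norm_num), Finsupp.add_apply,
        Nat.Prime.factorization_self (by norm_num), Nat.factorization_eq_zero_of_not_dvd (by norm_num : ¬ 3 ∣ 64)]
      norm_num
    have o1 : orderOf (⟨r, hrP⟩ : P) = 3 := by rw [Subgroup.orderOf_mk, ho]
    have o2 : orderOf (⟨_, hq⟩ : P) = 3 := by
      rw [Subgroup.orderOf_mk, ← MulAut.conj_apply, MulEquiv.orderOf_eq, ho]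
    let S1 := Sylow.ofCard (Subgroup.zpowers (⟨_, hq⟩ : P)) (hsyl _ o2)
    let S2 := Sylow.ofCard (Subgroup.zpowers (⟨r, hrP⟩ : P)) (hsyl _ o1)
    obtain ⟨g, hg⟩ := MulAction.exists_smul_eq P S1 S2
    have hmem : g * ⟨_, hq⟩ * g⁻¹ ∈ Subgroup.zpowers (⟨r, hrP⟩ : P) := by
      have : g * ⟨_, hq⟩ * g⁻¹ ∈ ((g • S1 : Sylow 3 P) : Subgroup P) := by
        rw [Sylow.coe_subgroup_smul, Sylow.coe_ofCard, Subgroup.mem_pointwise_smul_iff_inv_smul_mem]
        simp [MulAut.smul_def, mul_assoc]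
      rwa [hg, Sylow.coe_ofCard] at this
    obtain ⟨⟨a, ⟨b, hb⟩⟩, hab⟩ := hφP g
    have hgv : (g : G) = (a : G) * b := (congrArg Subtype.val hab).symm
    have hm : (g : G) * (x0 * r * x0⁻¹) * (g : G)⁻¹ ∈ Subgroup.zpowers r := by
      obtain ⟨n, hn⟩ := Subgroup.mem_zpowers_iff.1 hmem
      exact Subgroup.mem_zpowers_iff.2 ⟨n, congrArg Subtype.val hn⟩
    refine ⟨b⁻¹ * a * b, by simpa using (Subgroup.mem_normalizer_iff.1 (hn (Subgroup.inv_mem _ hb)) a).1 a.2, ?_⟩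
    have hm' : b⁻¹ * a * b * (x0 * r * x0⁻¹) * (b⁻¹ * a * b)⁻¹ ∈ Subgroup.zpowers r := by
      have := Subgroup.mul_mem _ (Subgroup.mul_mem _ (Subgroup.inv_mem _ hb) hm) hb
      rw [hgv] at this
      have e' : b⁻¹ * ((a : G) * b * (x0 * r * x0⁻¹) * ((a : G) * b)⁻¹) * b =
          b⁻¹ * a * b * (x0 * r * x0⁻¹) * (b⁻¹ * a * b)⁻¹ := by group
      rwa [e'] at this
    obtain ⟨n, hn'⟩ := Subgroup.mem_zpowers_iff.1 hm'
    have hr1 : r ∈ H := rH
    have haH : b⁻¹ * a * b ∈ R := by simpa using (Subgroup.mem_normalizer_iff.1 (hn (Subgroup.inv_mem _ hb)) a).1 a.2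
    have hπ : σ ^ n = σ := by
      have e' : (⟨r, rH⟩ : H) ^ n = (⟨_, S.R_le haH⟩ : H) * (⟨x0, x0H⟩ * ⟨r, rH⟩ * (⟨x0, x0H⟩ : H)⁻¹) *
          (⟨_, S.R_le haH⟩ : H)⁻¹ := Subtype.ext (by simpa using hn')
      have := congrArg π e'
      rw [map_zpow, map_mul, map_mul, map_mul, map_mul, map_inv, map_inv, π1 _ _ haH, hx0, ← hσd, ← tc] at this
      rw [this]; group
    have hn1 : (3 : ℤ) ∣ n - 1 := by
      have : σ ^ (n - 1) = 1 := by rw [zpow_sub, zpow_one, hπ, mul_inv_cancel]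
      have o : orderOf σ = 3 := orderOf_eq_prime (by rw [← s3]; simp [pow_succ]) s1
      rw [← orderOf_dvd_iff_zpow_eq_one, o] at this
      exact this
    rw [← hn']
    obtain ⟨m, hm3⟩ := hn1
    rw [show n = 1 + 3 * m by omega, zpow_add, zpow_one, zpow_mul, show r ^ (3 : ℤ) = r ^ 3 from zpow_natCast r 3,
      show r ^ 3 = 1 by rw [← hr3]; simp [pow_succ], one_zpow, mul_one]
  set x1 : G := ρ * x0 with hx1
  have x1H : x1 ∈ H := H.mul_mem (S.R_le hρ) x0H
  have x1r : x1 * r * x1⁻¹ = r := by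
    calc x1 * r * x1⁻¹ = ρ * (x0 * r * x0⁻¹) * ρ⁻¹ := by rw [hx1]; group
      _ = r := hρr
  have πx1 : π ⟨x1, x1H⟩ = τ := by
    show π (⟨ρ, S.R_le hρ⟩ * ⟨x0, x0H⟩) = τ
    rw [map_mul, π1 _ _ hρ, one_mul, hx0]
  -- powers of c inside R
  have cpow : ∀ i < 4, e i = c ^ i := by
    intro i hi
    simp only [he, hv]
    interval_cases i
    · rw [h00, valP_zero, pow_zero]
    · rw [at1, valP_av (by norm_num)]; simp [av]
    · rw [at2, valP_av (by norm_num)]; simp [av]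
    · rw [at3, valP_av (by norm_num)]; simp [av]
  have c4 : c ^ 4 = 1 := RR.c4
  have cR : ∀ i < 64, r * e i * r⁻¹ = e i → ∃ j < 4, e i = c ^ j := by
    intro i hi h
    have hh := List.all_eq_true.1 hadR i (List.mem_range.2 hi)
    obtain ⟨l1, l2⟩ := ecR i hi
    rw [einj _ l1 _ hi (l2.trans h)] at hh
    simp only [Nat.beq_refl, Bool.not_true, Bool.or_false, Nat.blt_eq] at hh
    exact ⟨i, hh, cpow i hh⟩
  have ccent : ∀ g ∈ R, c * g = g * c := by
    have : ∀ i < 64, rmul var 1 i = rmul var i 1 := by cases var <;> decide +kernel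
    intro g hg
    obtain ⟨i, hi, rfl⟩ := Re g hg
    have ec := cpow 1 (by norm_num)
    rw [pow_one] at ec
    rw [← ec, ← (emul 1 (by norm_num) i hi).2, ← (emul i hi 1 (by norm_num)).2, this i hi]
  have hcR : c ∈ R := by
    have := eR 1 (by norm_num); rwa [cpow 1 (by norm_num), pow_one] at this
  obtain ⟨k, hk, xx1⟩ : ∃ k < 4, x1 * x1 = c ^ k := by
    have hm : x1 * x1 ∈ R := (hπk ⟨_, H.mul_mem x1H x1H⟩).1 (by
      show π (⟨x1, x1H⟩ * ⟨x1, x1H⟩) = 1
      rw [map_mul, πx1, t2])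
    obtain ⟨i, hi, ei⟩ := Re _ hm
    have hc : r * e i * r⁻¹ = e i := by
      rw [ei]
      have hxr : r * x1 = x1 * r := (mul_inv_eq_iff_eq_mul.1 x1r).symm
      calc r * (x1 * x1) * r⁻¹ = r * x1 * x1 * r⁻¹ := by group
        _ = x1 * r * x1 * r⁻¹ := by rw [hxr]
        _ = x1 * (r * x1) * r⁻¹ := by group
        _ = x1 * (x1 * r) * r⁻¹ := by rw [hxr]
        _ = x1 * x1 := by group
    obtain ⟨j, hj, ej⟩ := cR i hi hc
    exact ⟨j, hj, ei.symm.trans ej⟩
  -- the induced automorphism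
  have hxR : ∀ g ∈ R, x1 * g * x1⁻¹ ∈ R := fun g hg => S.R_normal x1 x1H g hg
  choose θ hθlt hθ using fun i : ℕ => (show ∃ j < 64, i < 64 → e j = x1 * e i * x1⁻¹ from
    if h : i < 64 then (Re _ (hxR _ (eR i h))).imp fun j hj => ⟨hj.1, fun _ => hj.2⟩
    else ⟨0, by norm_num, fun h' => absurd h' h⟩)
  have θe : ∀ i < 64, e (θ i) = x1 * e i * x1⁻¹ := fun i hi => hθ i hi
  have rglt : ∀ j < 5, (rgen var).getD j 0 < 64 ∧
      rAt var ((rgen var).getD j 0) = pev ((rGenW var).getD j []) := fun j hj => hgens j hj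
  set img : List ℕ := mkImg var (θ 1) (θ ((rgen var).getD 1 0)) (θ ((rgen var).getD 3 0)) with himg
  have hcomR : ∀ g, x1 * (r * g * r⁻¹) * x1⁻¹ = r * (x1 * g * x1⁻¹) * r⁻¹ := fun g => by
    conv_rhs => rw [← x1r]
    group
  have imgθ : ∀ j < 5, img.getD j 0 = θ ((rgen var).getD j 0) := by
    have step : ∀ i < 64, θ (adR var i) = adR var (θ i) := fun i hi => by
      obtain ⟨l1, e1⟩ := ecR i hi
      obtain ⟨l2, e2⟩ := ecR _ (hθlt i)
      exact einj _ (hθlt _) _ l2 (by rw [θe _ l1, e1, e2, θe i hi, hcomR])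
    intro j hj
    interval_cases j
    · rw [g0]; simp [himg, mkImg]
    · simp [himg, mkImg]
    · rw [← g12, step _ (rglt 1 (by norm_num)).1]; simp [himg, mkImg]
    · simp [himg, mkImg]
    · rw [← g34, step _ (rglt 3 (by norm_num)).1]; simp [himg, mkImg]
  -- the value of the candidate map
  have hfimg : ∀ i < 64, fimg var img i < 64 ∧ e (fimg var img i) = x1 * e i * x1⁻¹ := by
    intro i hi
    obtain ⟨⟨hk5, hev⟩, hlt⟩ := hchk i hi
    have key : ∀ (u : List ℕ), (∀ k ∈ u, k < 5) → ∀ o < 64,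
        u.foldl (fun o k => rmul var o (img.getD k 0)) o < 64 ∧
          e (u.foldl (fun o k => rmul var o (img.getD k 0)) o) =
            e o * (x1 * prodW (genX c s r w 1) (rExp var u) * x1⁻¹) := by
      intro u
      induction u with
      | nil => intro _ o ho; simp [rExp, ho]
      | cons k u ih =>
        intro hu o ho
        have hk' := hu k List.mem_cons_self
        obtain ⟨gl, ge⟩ := rglt k hk'
        have hs : prodW (genX c s r w 1) ((rGenW var).getD k []) = e ((rgen var).getD k 0) := by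
          have hall : ∀ b : Bool, ∀ k < 5, ∀ l ∈ (rGenW b).getD k [], l < 7 := by decide
          have hl := hall var k hk'
          simp only [he, ge, hv, (pev_spec RR 1 hl).2]
        obtain ⟨l1, e1⟩ := emul o ho (img.getD k 0) (by rw [imgθ k hk']; exact hθlt _)
        rw [List.foldl_cons]
        obtain ⟨l2, e2⟩ := ih (fun a ha => hu a (List.mem_cons_of_mem _ ha)) _ l1
        refine ⟨l2, ?_⟩
        rw [e2, e1, imgθ k hk', θe _ gl]
        simp only [rExp, List.flatMap_cons, prodW_append]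
        rw [hs]
        group
    obtain ⟨l, el⟩ := key _ hk5 0 (by norm_num)
    refine ⟨l, ?_⟩
    show e ((((rWordsV var).getD i [])).foldl _ 0) = _
    rw [el, cpow 0 (by norm_num), pow_zero, one_mul]
    have hexp : ∀ l ∈ rExp var ((rWordsV var).getD i []), l < 7 := by
      intro l hl
      obtain ⟨k, hk', hlk⟩ := List.mem_flatMap.1 hl
      have hall : ∀ b : Bool, ∀ k < 5, ∀ l ∈ (rGenW b).getD k [], l < 7 := by decide
      exact hall var k (hk5 k hk') l hlk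
    rw [← (pev_spec RR 1 hexp).2, hev]
    rfl
  -- conj by the other elements
  have hxw : ∃ i < 4, x1 * w' * x1⁻¹ = c ^ i * w' := by
    have hm : x1 * w' * x1⁻¹ * w'⁻¹ ∈ R :=
      (hπk ⟨_, H.mul_mem (H.mul_mem (H.mul_mem x1H wH) (H.inv_mem x1H)) (H.inv_mem wH)⟩).1 (by
        show π (⟨x1, x1H⟩ * ⟨w', wH⟩ * (⟨x1, x1H⟩ : H)⁻¹ * (⟨w', wH⟩ : H)⁻¹) = 1
        rw [map_mul, map_mul, map_mul, map_inv, map_inv, πx1, ← hυd, tu]; group)
    obtain ⟨i, hi, ei⟩ := Re _ hm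
    have hwr : w' * r * w'⁻¹ = r⁻¹ := by
      rw [inv_eq_of_mul_eq_one_left hww]; exact mul_eq_one_iff_eq_inv.1 hwrw
    have hwr2 : w'⁻¹ * r * w' = r⁻¹ := by
      have hi' : w'⁻¹ = w' := inv_eq_of_mul_eq_one_left hww
      rw [hi'] at hwr ⊢; exact hwr
    obtain ⟨j, hj, ej⟩ := cR i hi (by
      rw [ei]
      have hq : (x1 * w' * x1⁻¹ * w'⁻¹) * r = r * (x1 * w' * x1⁻¹ * w'⁻¹) := by
        have h0 : x1⁻¹ * r * x1 = r := by
          calc x1⁻¹ * r * x1 = x1⁻¹ * (x1 * r * x1⁻¹) * x1 := by rw [x1r]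
            _ = r := by group
        have ha : x1⁻¹ * r⁻¹ * x1 = r⁻¹ := by
          conv_rhs => rw [← h0]
          group
        calc x1 * w' * x1⁻¹ * w'⁻¹ * r = x1 * w' * x1⁻¹ * (w'⁻¹ * r * w') * w'⁻¹ := by group
          _ = x1 * w' * (x1⁻¹ * r⁻¹ * x1) * x1⁻¹ * w'⁻¹ := by rw [hwr2]; group
          _ = x1 * (w' * r * w'⁻¹)⁻¹ * w' * x1⁻¹ * w'⁻¹ := by rw [ha]; group
          _ = (x1 * r * x1⁻¹) * (x1 * w' * x1⁻¹ * w'⁻¹) := by rw [hwr, inv_inv]; group
          _ = _ := by rw [x1r]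
      rw [← hq, mul_inv_cancel_right])
    exact ⟨j, hj, by rw [← ej, ei, inv_mul_cancel_right]⟩
  obtain ⟨iw, hiw, hxwi⟩ := hxw
  obtain ⟨zi, hzi, ezi⟩ : ∃ z < 64, e z = x1 * y * (x1 * y) * (x1 * y) := by
    refine Re _ ((hπk ⟨_, H.mul_mem (H.mul_mem (H.mul_mem x1H yH) (H.mul_mem x1H yH)) (H.mul_mem x1H yH)⟩).1 ?_)
    show π (⟨x1, x1H⟩ * ⟨y, yH⟩ * (⟨x1, x1H⟩ * ⟨y, yH⟩) * (⟨x1, x1H⟩ * ⟨y, yH⟩)) = 1
    simp only [map_mul, πx1, πy]
    exact tyt
  have qEq : ∀ k < 5, fimg var img (adY var (fimg var img (adY var (fimg var img (adY var ((rgen var).getD k 0)))))) =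
      rmul var (rmul var zi ((rgen var).getD k 0)) (rinv var zi) := by
    intro k hk'
    obtain ⟨g1, -⟩ := rglt k hk'
    obtain ⟨a1', b1'⟩ := ecY _ g1
    obtain ⟨a2', b2'⟩ := hfimg _ a1'
    obtain ⟨a3', b3'⟩ := ecY _ a2'
    obtain ⟨a4', b4'⟩ := hfimg _ a3'
    obtain ⟨a5', b5'⟩ := ecY _ a4'
    obtain ⟨a6', b6'⟩ := hfimg _ a5'
    obtain ⟨c1', d1'⟩ := emul zi hzi _ g1
    obtain ⟨c2', d2'⟩ := einv zi hzi
    obtain ⟨c3', d3'⟩ := emul _ c1' _ c2'
    refine einj _ a6' _ c3' ?_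
    rw [b6', b5', b4', b3', b2', b1', d3', d1', d2', ezi]
    group
  have hok : thetaOK var img = true := by
    unfold thetaOK
    simp only [Bool.and_eq_true, List.all_eq_true, List.any_eq_true, List.mem_range, Nat.beq_eq]
    refine ⟨⟨⟨fun i hi j hj => ?_, fun i hi => ?_⟩, fun i hi => ?_⟩, zi, hzi, fun j hj => qEq j hj⟩
    · obtain ⟨g1, -⟩ := rglt j hj
      obtain ⟨m1, m2⟩ := emul i hi _ g1
      obtain ⟨f1', f2'⟩ := hfimg _ m1
      obtain ⟨f3', f4'⟩ := hfimg _ hi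
      obtain ⟨n1, n2⟩ := emul _ f3' (img.getD j 0) (by rw [imgθ j hj]; exact hθlt _)
      refine einj _ f1' _ n1 ?_
      rw [f2', m2, n2, f4', imgθ j hj, θe _ g1]; group
    · obtain ⟨f1', f2'⟩ := hfimg _ hi
      obtain ⟨f3', f4'⟩ := hfimg _ f1'
      refine einj _ f3' _ hi ?_
      rw [f4', f2']
      calc x1 * (x1 * e i * x1⁻¹) * x1⁻¹ = (x1 * x1) * e i * (x1 * x1)⁻¹ := by group
        _ = e i := by rw [xx1, ((show Commute c (e i) from ccent _ (eR i hi)).pow_left k).eq, mul_inv_cancel_right]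
    · obtain ⟨w1', w2'⟩ := ecW i hi
      obtain ⟨f1', f2'⟩ := hfimg _ w1'
      obtain ⟨f3', f4'⟩ := hfimg _ hi
      obtain ⟨w3', w4'⟩ := ecW _ f3'
      refine einj _ f1' _ w3' ?_
      rw [f2', w2', w4', f4']
      calc x1 * (w' * e i * w'⁻¹) * x1⁻¹ = (x1 * w' * x1⁻¹) * (x1 * e i * x1⁻¹) * (x1 * w' * x1⁻¹)⁻¹ := by group
        _ = c ^ iw * (w' * (x1 * e i * x1⁻¹) * w'⁻¹) * (c ^ iw)⁻¹ := by rw [hxwi]; group
        _ = _ := by
          rw [((show Commute c _ from ccent _ (S.R_normal w' wH _ (hxR _ (eR i hi)))).pow_left iw).eq,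
            mul_inv_cancel_right]
  have hsc : θ 1 = 1 ∨ θ 1 = 3 := by
    have h1 := θe 1 (by norm_num)
    have hcz : ∀ j < 5, rmul var (θ 1) ((rgen var).getD j 0) = rmul var ((rgen var).getD j 0) (θ 1) := fun j hj => by
      obtain ⟨g1, -⟩ := rglt j hj
      obtain ⟨m1, m2⟩ := emul _ (hθlt 1) _ g1
      obtain ⟨n1, n2⟩ := emul _ g1 _ (hθlt 1)
      refine einj _ m1 _ n1 ?_
      rw [m2, n2, h1, cpow 1 (by norm_num), pow_one]
      have := ccent _ (S.R_normal x1⁻¹ (H.inv_mem x1H) _ (eR _ g1))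
      rw [inv_inv] at this
      calc x1 * c * x1⁻¹ * e ((rgen var).getD j 0)
          = x1 * (c * (x1⁻¹ * e ((rgen var).getD j 0) * x1)) * x1⁻¹ := by group
        _ = _ := by rw [this]; group
    have hlt4 : θ 1 < 4 := by
      have := List.all_eq_true.1 hcent (θ 1) (List.mem_range.2 (hθlt 1))
      simp only [Bool.or_eq_true, Nat.blt_eq, List.any_eq_true, List.mem_range, Bool.not_eq_true'] at this
      rcases this with h | ⟨j, hj, h⟩
      · exact h
      · exact absurd (hcz j hj) (Nat.ne_of_beq_eq_false h)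
    rw [cpow _ hlt4, cpow 1 (by norm_num), pow_one] at h1
    have hsq : (c ^ θ 1) * (c ^ θ 1) = t := by
      rw [h1]
      calc x1 * c * x1⁻¹ * (x1 * c * x1⁻¹) = x1 * (c * c) * x1⁻¹ := by group
        _ = t := by rw [L.sq, (S.hH x1).1 x1H, mul_inv_cancel_right]
    have hcases : θ 1 = 0 ∨ θ 1 = 1 ∨ θ 1 = 2 ∨ θ 1 = 3 := by omega
    rcases hcases with h | h | h | h
    · exfalso; rw [h, pow_zero, one_mul] at hsq; exact S.t_ne hsq.symm
    · exact Or.inl h
    · exfalso; rw [h, pow_two, L.sq, S.t_sq] at hsq; exact S.t_ne hsq.symm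
    · exact Or.inr h
  have hgood : img ∈ goodImgs var (θ 1) := by
    refine List.mem_filter.2 ⟨List.mem_flatMap.2 ⟨θ ((rgen var).getD 1 0), ?_, List.mem_map.2
      ⟨θ ((rgen var).getD 3 0), ?_, rfl⟩⟩, hok⟩
    all_goals refine List.mem_filter.2 ⟨List.mem_range.2 (hθlt _), ?_⟩
    · obtain ⟨g1, -⟩ := rglt 1 (by norm_num)
      obtain ⟨m1, m2⟩ := emul _ (hθlt _) _ (hθlt ((rgen var).getD 1 0))
      rw [einj _ m1 0 (by norm_num) ?_]; · exact Nat.beq_refl 0
      rw [m2, θe _ g1, cpow 0 (by norm_num), pow_zero]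
      have : rmul var ((rgen var).getD 1 0) ((rgen var).getD 1 0) = 0 := by cases var <;> decide +kernel
      have h2 := (emul _ g1 _ g1).2
      rw [this, cpow 0 (by norm_num), pow_zero] at h2
      calc _ = x1 * (e ((rgen var).getD 1 0) * e ((rgen var).getD 1 0)) * x1⁻¹ := by group
        _ = 1 := by rw [← h2]; group
    · obtain ⟨g1, -⟩ := rglt 3 (by norm_num)
      obtain ⟨m1, m2⟩ := emul _ (hθlt _) _ (hθlt ((rgen var).getD 3 0))
      rw [einj _ m1 0 (by norm_num) ?_]; · exact Nat.beq_refl 0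
      rw [m2, θe _ g1, cpow 0 (by norm_num), pow_zero]
      have : rmul var ((rgen var).getD 3 0) ((rgen var).getD 3 0) = 0 := by cases var <;> decide +kernel
      have h2 := (emul _ g1 _ g1).2
      rw [this, cpow 0 (by norm_num), pow_zero] at h2
      calc _ = x1 * (e ((rgen var).getD 3 0) * e ((rgen var).getD 3 0)) * x1⁻¹ := by group
        _ = 1 := by rw [← h2]; group
  cases var
  swap
  · exfalso
    rcases hsc with h | h <;> rw [h] at hgood
    · rw [goodB1] at hgood; simp at hgood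
    · rw [goodB3] at hgood; simp at hgood
  have h3 : θ 1 = 3 := by
    rcases hsc with h | h
    · rw [h, goodA1] at hgood; simp at hgood
    · exact h
  rw [h3, goodA3] at hgood
  refine ⟨rfl, ?_⟩
  have xc : x1 * c * x1⁻¹ = c⁻¹ := by
    have h1 := θe 1 (by norm_num)
    rw [h3, cpow 3 (by norm_num), cpow 1 (by norm_num), pow_one] at h1
    rw [← h1, eq_inv_iff_mul_eq_one, ← pow_succ, c4]
  have yc' : y * c * y⁻¹ = c⁻¹ := by
    have := (valP_conj RR ylt (by norm_num : 1 < 10752)).2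
    rw [yc, show valP c s w 3 = c ^ 3 by rw [valP_av (by norm_num)]; simp [av], show valP c s w 1 = c from v1c] at this
    rw [show y * c * y⁻¹ = c ^ 3 from this.symm, eq_inv_iff_mul_eq_one, ← pow_succ, c4]
  have hz4 : zi < 4 := by
    have := List.all_eq_true.1 central_z img hgood
    have hh := List.all_eq_true.1 this zi (List.mem_range.2 hzi)
    rcases Bool.or_eq_true_iff.1 hh with h | h
    · exact of_eq_true ((Nat.blt_eq).symm.trans (eq_true h))
    · exfalso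
      rw [Bool.not_eq_true', List.all_eq_false] at h
      obtain ⟨j, hj, h⟩ := h
      simp only [Nat.beq_eq] at h
      exact h (qEq j (List.mem_range.1 hj))
  rw [cpow zi hz4] at ezi
  have hw'w : w' = w := by
    simp only [hw', hv]
    rw [(pev_spec RR 1 (W := wWord false) (by decide)).2]; simp [prodW, wWord, genX]
  set x : G := c ^ zi * x1 with hx
  have xH : x ∈ H := H.mul_mem (H.pow_mem (S.R_le hcR) _) x1H
  have cq : Commute c (x1 * y) := by
    show c * (x1 * y) = x1 * y * c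
    calc c * (x1 * y) = x1 * (x1⁻¹ * c * x1) * y := by group
      _ = x1 * (y * c * y⁻¹) * y := by
        rw [yc']
        have hxi : x1⁻¹ * c * x1 = c⁻¹ := by
          conv_lhs => rw [show c = (x1 * c * x1⁻¹)⁻¹ by rw [xc, inv_inv]]
          group
        rw [hxi]
      _ = _ := by group
  have xci : x1⁻¹ * c * x1 = c⁻¹ := by
    conv_lhs => rw [show c = (x1 * c * x1⁻¹)⁻¹ by rw [xc, inv_inv]]
    group
  have hxx : x * x = c ^ k := by
    calc c ^ zi * x1 * (c ^ zi * x1) = c ^ zi * (x1 * c ^ zi * x1⁻¹) * (x1 * x1) := by group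
      _ = c ^ zi * (c⁻¹) ^ zi * c ^ k := by
          rw [xx1]; congr 2
          rw [← MulAut.conj_apply, map_pow, MulAut.conj_apply, xc]
      _ = c ^ k := by rw [inv_pow, mul_inv_cancel, one_mul]
  have hkeven : k = 0 ∨ k = 2 := by
    have e1 : x1 * c ^ k * x1⁻¹ = c ^ k := by rw [← xx1]; group
    have e2 : x1 * c ^ k * x1⁻¹ = (c⁻¹) ^ k := by
      rw [← MulAut.conj_apply, map_pow, MulAut.conj_apply, xc]
    have h2 : c ^ k * c ^ k = 1 := by
      conv_lhs => arg 1; rw [← e1, e2]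
      rw [inv_pow, inv_mul_cancel]
    have hcases : k = 0 ∨ k = 1 ∨ k = 2 ∨ k = 3 := by omega
    rcases hcases with h | h | h | h
    · exact Or.inl h
    · exfalso; rw [h, pow_one, L.sq] at h2; exact S.t_ne h2
    · exact Or.inr h
    · exfalso; rw [h, ← pow_add, show (3 + 3) = 4 + 2 from rfl, pow_add, c4, one_mul, pow_two, L.sq] at h2
      exact S.t_ne h2
  obtain ⟨i', hi', hxw'⟩ : ∃ i < 4, x * w * x⁻¹ = c ^ i * w := by
    refine ⟨(iw + zi + zi) % 4, Nat.mod_lt _ (by norm_num), ?_⟩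
    have hwc : w * c * w⁻¹ = c⁻¹ := by rw [inv_eq_of_mul_eq_one_left RR.ww]; exact RR.wc
    have hp : c ^ ((iw + zi + zi) % 4) = c ^ (iw + zi + zi) := pow_mod_four c4 _
    calc x * w * x⁻¹ = c ^ zi * (x1 * w' * x1⁻¹) * (c ^ zi)⁻¹ := by rw [hw'w, hx]; group
      _ = c ^ zi * c ^ iw * (w * (c ^ zi)⁻¹ * w⁻¹) * w := by rw [hxwi, hw'w]; group
      _ = c ^ zi * c ^ iw * c ^ zi * w := by
          congr 2
          rw [← MulAut.conj_apply, map_inv, map_pow, MulAut.conj_apply, hwc, inv_pow, inv_inv]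
      _ = _ := by rw [hp, ← pow_add, ← pow_add]; ring_nf
  refine ⟨x, img, i', k, hgood, hi', hkeven, xH, ?_, hxx, hxw', ?_, ?_, π, p, hπk, ?_, ?_⟩
  · have hcr : Commute c r := by
      show c * r = r * c
      have := (ecR 1 (by norm_num)).2
      rw [show adR false 1 = 1 by decide +kernel, cpow 1 (by norm_num), pow_one] at this
      calc c * r = (r * c * r⁻¹) * r := by rw [← this]
        _ = r * c := by group
    calc c ^ zi * x1 * r = c ^ zi * ((x1 * r * x1⁻¹) * x1) := by group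
      _ = (c ^ zi * r) * x1 := by rw [x1r]; group
      _ = r * (c ^ zi * x1) := by rw [(hcr.pow_left zi).eq]; group
  · show (x * y) ^ 3 = 1
    rw [hx, mul_assoc, (cq.pow_left zi).mul_pow, show (x1 * y) ^ 3 = c ^ zi by rw [ezi]; simp [pow_succ],
      ← pow_mul, ← pow_add, show zi * 3 + zi = 4 * zi by ring, pow_mul, c4, one_pow]
  · intro j hj
    obtain ⟨g1, -⟩ := rglt j hj
    show x * e ((rgen false).getD j 0) * x⁻¹ = e (img.getD j 0)
    rw [imgθ j hj, θe _ g1, hx]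
    have hm := ccent _ (hxR _ (eR _ g1))
    calc c ^ zi * x1 * e ((rgen false).getD j 0) * (c ^ zi * x1)⁻¹
        = c ^ zi * (x1 * e ((rgen false).getD j 0) * x1⁻¹) * (c ^ zi)⁻¹ := by group
      _ = _ := by rw [((show Commute c _ from hm).pow_left zi).eq, mul_inv_cancel_right]
  · intro h hh
    rcases hh with h' | h' | h'
    · rw [show h = ⟨r, rH⟩ from Subtype.ext h', ← hσd]; exact ps
    · rw [show h = ⟨w', wH⟩ from Subtype.ext (h'.trans hw'w.symm), ← hυd]; exact pu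
    · rw [show h = ⟨a1, aH⟩ from Subtype.ext h', ← hφd]; exact pf
  · intro hxH hyH
    have hπx : π ⟨x, hxH⟩ = τ := by
      show π (⟨c ^ zi, H.pow_mem (S.R_le hcR) _⟩ * ⟨x1, x1H⟩) = τ
      rw [map_mul, π1 _ _ (R.pow_mem hcR _), one_mul, πx1]
    rw [hπx, show π ⟨_, hyH⟩ = φ * υ * φ from πy]
    exact ⟨pt, pty⟩

end CfsgLib.HSUniq
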