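import Cfsg.Agent.Lib.HSUniq.Outer

/-!
Elementary consequences of the relations of the outer element.
-/

set_option autoImplicit false
set_option maxRecDepth 100000

namespace CfsgLib.HSUniq

open CfsgLib.CosetEnum

theorem img_facts : (thImgs.all fun img => (List.range 5).all fun j => Nat.blt (img.getD j 0) 64) = true ∧
    ((List.range 5).all fun j => Nat.blt ((rgen false).getD j 0) 64) = true ∧ pev [6] = 128 ∧
    pev [4] = gR * 64 ∧ pev [2] = 64 ∧ pev (yWord false) < 10752 := by
  decide +kernel

variable {G : Type*} [Group G] {t : G} {H R V M A : Subgroup G} {c s r w x : G} {img : List ℕ} {i k : ℕ}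

theorem rAt_lt {j : ℕ} (hj : j < 64) : rAt false j < 10752 := by
  have h := (table_facts false).1
  simp only [List.all_eq_true, List.mem_range, Bool.and_eq_true, Nat.blt_eq] at h
  exact (h j hj).1.1.1.1.1.1.1.1.1

theorem vr_mul (RR : MRel c s r w) {a b : ℕ} (ha : a < 64) (hb : b < 64) :
    rmul false a b < 64 ∧
      valP c s w (rAt false (rmul false a b)) = valP c s w (rAt false a) * valP c s w (rAt false b) := by
  have h := (table_facts false).1
  simp only [List.all_eq_true, List.mem_range, Bool.and_eq_true, Nat.blt_eq, Nat.beq_eq] at h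
  obtain ⟨h1, h2⟩ := (h a ha).1.1.1.1.1.1.1.1.2 b hb
  exact ⟨h1, by rw [h2, (valP_mul RR (rAt_lt ha) (rAt_lt hb)).2]⟩

theorem vr_gen (RR : MRel c s r w) {j : ℕ} (hj : j < 5) :
    valP c s w (rAt false ((rgen false).getD j 0)) = prodW (genX c s r w x) ((rGenW false).getD j []) := by
  have h := (table_facts false).2
  simp only [List.all_eq_true, List.mem_range, Bool.and_eq_true, Nat.beq_eq] at h
  have hall : ∀ j < 5, ∀ l ∈ (rGenW false).getD j [], l < 7 := by decide
  rw [(h j hj).2, (pev_spec RR x (hall j hj)).2]

theorem xconj_of_gens (RR : MRel c s r w) (himem : img ∈ thImgs)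
    (hxR : ∀ j < 5, x * valP c s w (rAt false ((rgen false).getD j 0)) * x⁻¹ = valP c s w (rAt false (img.getD j 0))) :
    ∀ j < 64, fimg false img j < 64 ∧
      x * valP c s w (rAt false j) * x⁻¹ = valP c s w (rAt false (fimg false img j)) := by
  obtain ⟨himg, hgl, -⟩ := img_facts
  simp only [List.all_eq_true, List.mem_range, Nat.blt_eq] at himg hgl
  have il := himg img himem
  obtain ⟨-, -, hchk, -⟩ := rData_ok false
  simp only [List.all_eq_true, List.mem_range, Bool.and_eq_true, Nat.blt_eq, Nat.beq_eq] at hchk
  have h00 : rAt false 0 = 0 := (struct_facts false).1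
  intro j hj
  obtain ⟨⟨hk5, hev⟩, -⟩ := hchk j hj
  have key : ∀ (u : List ℕ), (∀ a ∈ u, a < 5) → ∀ o < 64,
      u.foldl (fun o a => rmul false o (img.getD a 0)) o < 64 ∧
        valP c s w (rAt false (u.foldl (fun o a => rmul false o (img.getD a 0)) o)) =
          valP c s w (rAt false o) * (x * prodW (genX c s r w x) (rExp false u) * x⁻¹) := by
    intro u
    induction u with
    | nil => intro _ o ho; simp [rExp, ho]
    | cons a u ih =>
      intro hu o ho
      have ha := hu a List.mem_cons_self
      obtain ⟨l1, e1⟩ := vr_mul RR ho (il a ha)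
      obtain ⟨l2, e2⟩ := ih (fun b hb => hu b (List.mem_cons_of_mem _ hb)) _ l1
      rw [List.foldl_cons]
      refine ⟨l2, ?_⟩
      rw [e2, e1, ← hxR a ha, vr_gen (x := x) RR ha]
      simp only [rExp, List.flatMap_cons, prodW_append]
      group
  obtain ⟨l, el⟩ := key _ hk5 0 (by norm_num)
  refine ⟨l, ?_⟩
  have hl7 : ∀ b ∈ rExp false ((rWordsV false).getD j []), b < 7 := by
    intro b hb
    obtain ⟨a, ha, hb⟩ := List.mem_flatMap.1 hb
    have hall : ∀ j < 5, ∀ l ∈ (rGenW false).getD j [], l < 7 := by decide
    exact hall a (hk5 a ha) b hb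
  show _ = valP c s w (rAt false (((rWordsV false).getD j []).foldl _ 0))
  rw [el, h00, valP_zero, one_mul, ← (pev_spec RR x hl7).2, hev]
  rfl

theorem xconj (S : Setup t H R V M A) (L : LocalData t R M c s r w false) (O : OuterData t H R c s r w x img i k) :
    ∀ j < 64, fimg false img j < 64 ∧
      x * valP c s w (rAt false j) * x⁻¹ = valP c s w (rAt false (fimg false img j)) :=
  xconj_of_gens L.rel O.img_mem O.xR

theorem LocalData.val_one (L : LocalData t R M c s r w false) : valP c s w 1 = c := by
  rw [valP_av (by norm_num)]; simp [av]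

theorem LocalData.val_two (L : LocalData t R M c s r w false) : valP c s w 2 = t := by
  rw [valP_av (by norm_num)]; simp [av, ← L.sq, pow_two]

theorem LocalData.val_w (L : LocalData t R M c s r w false) : valP c s w 128 = w := by
  rw [← img_facts.2.2.1, (pev_spec L.rel 1 (W := [6]) (by decide)).2]; simp [prodW, genX]

theorem LocalData.val_r (L : LocalData t R M c s r w false) : valP c s w (gR * 64) = r := by
  rw [← img_facts.2.2.2.1, (pev_spec L.rel 1 (W := [4]) (by decide)).2]; simp [prodW, genX]

theorem LocalData.val_s (L : LocalData t R M c s r w false) : valP c s w 64 = s := by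
  rw [← img_facts.2.2.2.2.1, (pev_spec L.rel 1 (W := [2]) (by decide)).2]; simp [prodW, genX]

/-- An element of the model commutes with the involution exactly when its code does. -/
theorem mem_H_iff (S : Setup t H R V M A) (L : LocalData t R M c s r w false) {p : ℕ} (hp : p < 10752) :
    valP c s w p ∈ H ↔ pconj p 2 = 2 := by
  obtain ⟨hlt, he⟩ := valP_conj L.rel hp (by norm_num : 2 < 10752)
  rw [L.val_two] at he
  rw [S.hH]
  constructor
  · intro h
    refine L.inj _ hlt _ (by norm_num) ?_
    rw [he, L.val_two, h, mul_inv_cancel_right]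
  · intro h
    rw [h, L.val_two] at he
    calc valP c s w p * t = valP c s w p * t * (valP c s w p)⁻¹ * valP c s w p := by group
      _ = t * valP c s w p := by rw [← he]

/-- A word in the first seven letters commutes with the involution when its code does. -/
theorem word_mem_H (S : Setup t H R V M A) (L : LocalData t R M c s r w false) (x : G) {W : List ℕ}
    (hW : ∀ l ∈ W, l < 7) (h : pconj (pev W) 2 = 2) : prodW (genX c s r w x) W ∈ H := by
  obtain ⟨hlt, he⟩ := pev_spec L.rel x hW
  exact he ▸ (mem_H_iff S L hlt).2 h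

theorem t_comm_x (S : Setup t H R V M A) (O : OuterData t H R c s r w x img i k) : x * t = t * x :=
  (S.hH x).1 O.xH

end CfsgLib.HSUniq
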