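import Cfsg.Agent.Lib.Classical.A8Subgroups
import Cfsg.Prelude.Def_Transfer
import Cfsg.Prelude.Def_Solvable

/-!
The hypotheses on the centralizer of the involution and the 2-local subgroup, in a usable form.
-/

set_option autoImplicit false

namespace CfsgLib.HSUniq

open Subgroup
open scoped commutatorElement

variable {G : Type*} [Group G]

/-- What is used about the two subgroups. -/
structure Setup (t : G) (H R V M A : Subgroup G) : Prop where
  two : orderOf t = 2
  hH : ∀ g : G, g ∈ H ↔ g * t = t * g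
  R_le : R ≤ H
  R_normal : ∀ h ∈ H, ∀ x ∈ R, h * x * h⁻¹ ∈ R
  cardR : Nat.card R = 64
  cardH : Nat.card H = 7680
  sqR : ∀ x ∈ R, x * x = 1 ∨ x * x = t
  commR : ∀ x ∈ R, ∀ y ∈ R, x * y = y * x ∨ x * y = y * x * t
  rootR : ∃ c ∈ R, c * c = t ∧ ∀ x ∈ R, c * x = x * c
  abR : ∀ P : Subgroup G, P ≤ R → (∀ x ∈ P, ∀ y ∈ P, x * y = y * x) → Nat.card P ≤ 16
  quot : ∃ π : H →* Equiv.Perm (Fin 5), Function.Surjective π ∧ ∀ h : H, π h = 1 ↔ (h : G) ∈ R
  hM : ∀ g : G, g ∈ M ↔ ∀ v, v ∈ V ↔ g * v * g⁻¹ ∈ V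
  A_le : A ≤ M
  A_normal : ∀ m ∈ M, ∀ a ∈ A, m * a * m⁻¹ ∈ A
  cardA : Nat.card A = 64
  cardM : Nat.card M = 10752
  A_comm : ∀ a ∈ A, ∀ b ∈ A, a * b = b * a
  A_four : ∀ a ∈ A, a ^ 4 = 1
  cardV : Nat.card V = 8
  V_iff : ∀ v, v ∈ V ↔ v ∈ A ∧ v * v = 1
  rootA : ∀ v ∈ V, ∃ a ∈ A, a * a = v
  tV : t ∈ V
  RM : R ≤ M
  V_le_R : V ≤ R
  kerV : ∀ m ∈ M, (∀ v ∈ V, m * v = v * m) → m ∈ A

theorem zmod4_facts : (∀ x : Multiplicative (ZMod 4 × ZMod 4 × ZMod 4), x ^ 4 = 1) ∧
    (∀ x : Multiplicative (ZMod 4 × ZMod 4 × ZMod 4), x * x = 1 → ∃ y, y * y = x) ∧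
    (Finset.univ.filter fun x : Multiplicative (ZMod 4 × ZMod 4 × ZMod 4) => x * x = 1).card = 8 := by
  refine ⟨?_, ?_, ?_⟩ <;> decide +kernel

/-- A group of order 32 with centre of order two has no commutative subgroup of order 16, when all
commutators lie in the centre. -/
theorem card_comm_le {E : Type*} [Group E] [Finite E] (h32 : Nat.card E = 32) (z : E)
    (hcomm : ∀ x y : E, x * y = y * x ∨ x * y = y * x * z) (hz : ∀ x : E, z * x = x * z) (hzz : z * z = 1)
    (hcent : Nat.card (center E) = 2) (P : Subgroup E) (hP : ∀ x ∈ P, ∀ y ∈ P, x * y = y * x) :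
    Nat.card P ≤ 8 := by
  classical
  by_contra hlt
  have hdvd : Nat.card P ∣ 2 ^ 5 := by
    have := Subgroup.card_subgroup_dvd_card P
    rwa [h32] at this
  obtain ⟨k, hk5, hk⟩ := (Nat.dvd_prime_pow Nat.prime_two).1 hdvd
  obtain hk' | hk' : k = 4 ∨ k = 5 := by
    rcases (by omega : k = 0 ∨ k = 1 ∨ k = 2 ∨ k = 3 ∨ k = 4 ∨ k = 5) with h | h | h | h | h | h <;>
      subst h <;> simp_all
  swap
  · subst hk'
    have htop : P = ⊤ := Subgroup.eq_top_of_card_eq P (by rw [hk, h32]; rfl)
    have : center E = ⊤ := eq_top_iff.2 fun x _ => mem_center_iff.2 fun y =>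
      hP y (htop ▸ mem_top y) x (htop ▸ mem_top x)
    rw [this, Subgroup.card_top, h32] at hcent
    norm_num at hcent
  subst hk'
  have hP16 : Nat.card P = 16 := by rw [hk]; rfl
  obtain ⟨a, ha⟩ : ∃ a, a ∉ P := by
    by_contra h
    push Not at h
    have : P = ⊤ := eq_top_iff.2 fun x _ => h x
    rw [this, Subgroup.card_top, h32] at hP16
    norm_num at hP16
  -- the elements of P commuting with a are central
  let Z : Subgroup E := P ⊓ centralizer {a}
  have hidx : P.index = 2 := by
    have := P.card_mul_index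
    rw [hP16, h32] at this
    omega
  have hZ : Z ≤ center E := by
    rintro x ⟨hx, hxa⟩
    replace hxa : x * a = a * x := mem_centralizer_singleton_iff.1 hxa
    replace hx : x ∈ P := hx
    refine mem_center_iff.2 fun y => ?_
    by_cases hy : y ∈ P
    · exact hP y hy x hx
    · have hya : y * a⁻¹ ∈ P := by
        have := (Subgroup.mul_mem_iff_of_index_two hidx (a := y) (b := a⁻¹)).2
        exact this ⟨fun h => absurd h hy, fun h => absurd ((Subgroup.inv_mem_iff _).1 h) ha⟩
      have h1 := hP _ hya x hx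
      calc y * x = y * a⁻¹ * (a * x) := by group
        _ = y * a⁻¹ * (x * a) := by rw [hxa]
        _ = y * a⁻¹ * x * a := by group
        _ = x * (y * a⁻¹) * a := by rw [h1]
        _ = x * y := by group
  -- the index of Z in P is at most two
  have hsurj : 8 ≤ Nat.card Z := by
    by_cases hne : ∀ x ∈ P, x * a = a * x
    · have : Z = P := inf_eq_left.2 fun x hx => mem_centralizer_singleton_iff.2 (hne x hx)
      rw [this, hP16]; norm_num
    · push Not at hne
      obtain ⟨x0, hx0, hx0a⟩ := hne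
      have e0 : x0 * a = a * x0 * z := (hcomm x0 a).resolve_left hx0a
      have key : (P : Set E) ⊆ (Z : Set E) ∪ (fun y => x0 * y) '' (Z : Set E) := by
        intro x hx
        rcases hcomm x a with h | h
        · exact Or.inl ⟨hx, mem_centralizer_singleton_iff.2 h⟩
        · refine Or.inr ⟨x0⁻¹ * x, ⟨P.mul_mem (P.inv_mem hx0) hx, mem_centralizer_singleton_iff.2 ?_⟩,
            by simp⟩
          have e1 : x0⁻¹ * a = a * x0⁻¹ * z := by
            have : a * x0 = x0 * a * z := by rw [e0, mul_assoc, hzz, mul_one]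
            calc x0⁻¹ * a = x0⁻¹ * (a * x0) * x0⁻¹ := by group
              _ = a * (z * x0⁻¹) := by rw [this]; group
              _ = a * x0⁻¹ * z := by rw [hz, mul_assoc]
          calc x0⁻¹ * x * a = x0⁻¹ * (x * a) := by group
            _ = x0⁻¹ * a * (x * z) := by rw [h]; group
            _ = a * x0⁻¹ * (z * x * z) := by rw [e1]; group
            _ = a * x0⁻¹ * (x * (z * z)) := by rw [hz]; group
            _ = a * (x0⁻¹ * x) := by rw [hzz]; group
      have h1 := (Set.ncard_le_ncard key).trans (Set.ncard_union_le _ _)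
      rw [← Nat.card_coe_set_eq] at h1
      have h2 := Set.ncard_image_le (f := fun y => x0 * y) (s := (Z : Set E))
      rw [← Nat.card_coe_set_eq (Z : Set E)] at h1 h2
      simp only [SetLike.coe_sort_coe] at h1 h2
      omega
  have := Subgroup.card_le_of_le hZ
  omega

theorem exists_setup [Finite G] {t : G} (ht : orderOf t = 2) {H : Subgroup G}
    (hH : H = Subgroup.centralizer ({t} : Set G)) {R : Subgroup G} (hR : R = (Cfsg.pCore 2 H).map H.subtype)
    {Cy E : Subgroup G} (hCy : IsCyclic Cy) (hCycard : Nat.card Cy = 4)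
    (hCyle : Cy ≤ R ⊓ Subgroup.centralizer (R : Set G))
    (hEle : E ≤ R) (hEex : Cfsg.IsExtraspecial 2 E) (hEcard : Nat.card E = 32)
    (hprod : Cy ⊔ E = R) (hmeet : Cy ⊓ E = E ⊓ Subgroup.centralizer (E : Set G))
    (eH : H ⧸ Cfsg.pCore 2 H ≃* Equiv.Perm (Fin 5))
    {V : Subgroup G} (hVcomm : IsMulCommutative V) (hVexp : ∀ v ∈ V, v ^ 2 = 1) (hVcard : Nat.card V = 8)
    (hVR : V ≤ R) {M : Subgroup G} (hM : M = Subgroup.normalizer (V : Set G))
    (eOM : Cfsg.pCore 2 M ≃* Multiplicative (ZMod 4 × ZMod 4 × ZMod 4))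
    (eM : M ⧸ Cfsg.pCore 2 M ≃* GL (Fin 3) (ZMod 2)) :
    Setup t H R V M ((Cfsg.pCore 2 M).map M.subtype) := by
  classical
  obtain ⟨⟨hE2, -, hEcomm⟩, hEc⟩ := hEex
  have hHiff : ∀ g : G, g ∈ H ↔ g * t = t * g := fun g => by rw [hH, mem_centralizer_singleton_iff]
  have hRle : R ≤ H := hR ▸ map_subtype_le _
  haveI hcoreN : ∀ (X : Type _) [Group X], (Cfsg.pCore 2 X).Normal := fun X _ => by
    constructor
    intro n hn g
    have hle : Cfsg.pCore 2 X ≤ (Cfsg.pCore 2 X).comap (MulAut.conj g).toMonoidHom := by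
      refine sSup_le fun N hN x hx => ?_
      exact le_sSup hN (hN.1.conj_mem x hx g)
    exact hle hn
  -- the centre of E and t
  obtain ⟨z0, hz0, hz0u⟩ : ∃ z : center E, z ≠ 1 ∧ ∀ w : center E, w = 1 ∨ w = z := by
    obtain ⟨a, b, hab, huniv⟩ := Nat.card_eq_two_iff.1 hEc
    have hmem : ∀ w, w = a ∨ w = b := fun w => by
      have : w ∈ ({a, b} : Set (center E)) := huniv ▸ Set.mem_univ w
      simpa using this
    rcases hmem 1 with h | h
    · exact ⟨b, fun e => hab (h ▸ e ▸ rfl), fun w => (hmem w).imp_left fun e => e.trans h.symm⟩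
    · exact ⟨a, fun e => hab (e.trans h), fun w => ((hmem w).symm.imp_left fun e => e.trans h.symm)⟩
  set z : E := (z0 : E) with hzdef
  have hz1 : (z : G) ≠ 1 := fun e => hz0 (Subtype.ext (Subtype.ext e))
  have hzz : z * z = 1 := by
    rcases hz0u (z0 * z0) with h | h
    · exact congrArg Subtype.val h
    · exact absurd (mul_eq_left.1 h) hz0
  have hzc : ∀ x : E, z * x = x * z := fun x => (mem_center_iff.1 z0.2 x).symm
  have hzE : ∀ x : E, x ∈ center E → x = 1 ∨ x = z := fun x hx =>
    (hz0u ⟨x, hx⟩).imp (congrArg Subtype.val) (congrArg Subtype.val)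
  have hcommE : ∀ x y : E, x * y = y * x ∨ x * y = y * x * z := by
    intro x y
    have hm : (y * x)⁻¹ * (x * y) ∈ center E := by
      rw [← hEcomm, show (y * x)⁻¹ * (x * y) = ⁅x⁻¹, y⁻¹⁆ by simp [commutatorElement_def, mul_assoc]]
      exact commutator_mem_commutator (mem_top _) (mem_top _)
    rcases hzE _ hm with h | h
    · exact Or.inl (by rw [← mul_inv_cancel_left (y * x) (x * y), h, mul_one])
    · exact Or.inr (by rw [← mul_inv_cancel_left (y * x) (x * y), h])
  have hsqE : ∀ x : E, x * x = 1 ∨ x * x = z := by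
    intro x
    refine hzE _ (mem_center_iff.2 fun y => ?_)
    rcases hcommE x y with h | h
    · calc y * (x * x) = y * x * x := by group
        _ = x * y * x := by rw [h]
        _ = x * (y * x) := by group
        _ = x * (x * y) := by rw [h]
        _ = x * x * y := by group
    · calc y * (x * x) = y * x * x := by group
        _ = y * x * (z * z) * x := by rw [hzz, mul_one]
        _ = x * y * (z * x) := by rw [h]; group
        _ = x * (y * x * z) := by rw [hzc]; group
        _ = x * (x * y) := by rw [h]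
        _ = x * x * y := by group
  -- Cy
  have hCR : Cy ≤ R := hCyle.trans inf_le_left
  have hCc : ∀ c ∈ Cy, ∀ x ∈ R, c * x = x * c := fun c hc x hx =>
    (mem_centralizer_iff.1 (hCyle hc).2 x hx).symm
  have hzCy : (z : G) ∈ Cy := by
    have : (z : G) ∈ E ⊓ centralizer (E : Set G) :=
      ⟨z.2, mem_centralizer_iff.2 fun x hx => congrArg Subtype.val (hzc ⟨x, hx⟩).symm⟩
    rw [← hmeet] at this
    exact this.1
  obtain ⟨c0, hc0⟩ := hCy.exists_generator
  have hoc : orderOf (c0 : G) = 4 := by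
    rw [Subgroup.orderOf_coe, orderOf_eq_card_of_forall_mem_zpowers hc0, hCycard]
  have hcy : ∀ x ∈ Cy, x = 1 ∨ x = (c0 : G) ∨ x = (c0 : G) ^ 2 ∨ x = (c0 : G) ^ 3 := by
    intro x hx
    obtain ⟨k, hk⟩ := (mem_zpowers_iff.1 (hc0 ⟨x, hx⟩))
    have hk' : (c0 : G) ^ k = x := by rw [← SubgroupClass.coe_zpow, hk]
    rw [← hk', ← zpow_mod_orderOf, hoc]
    have h1 := Int.emod_nonneg k (show (4 : ℤ) ≠ 0 by norm_num)
    have h2 := Int.emod_lt_of_pos k (show (0 : ℤ) < 4 by norm_num)
    norm_num at h1 h2 ⊢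
    interval_cases k % 4 <;> simp [zpow_ofNat]
  have hzsq : (z : G) * z = 1 := congrArg Subtype.val hzz
  have hc4 : (c0 : G) ^ 4 = 1 := by rw [← hoc, pow_orderOf_eq_one]
  have hzc0 : (z : G) = (c0 : G) * c0 := by
    rcases hcy _ hzCy with h | h | h | h
    · exact absurd h hz1
    · exfalso
      have : orderOf (c0 : G) ∣ 2 := orderOf_dvd_of_pow_eq_one (by rw [pow_two, ← h, hzsq])
      rw [hoc] at this; norm_num at this
    · rw [h, pow_two]
    · exfalso
      have : orderOf (c0 : G) ∣ 2 := orderOf_dvd_of_pow_eq_one (by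
        rw [h, ← pow_add] at hzsq
        calc (c0 : G) ^ 2 = (c0 : G) ^ 2 * (c0 : G) ^ 4 := by rw [hc4, mul_one]
          _ = (c0 : G) ^ (3 + 3) := by rw [← pow_add]
          _ = 1 := hzsq)
      rw [hoc] at this; norm_num at this
  -- every element of R
  have hRmem : ∀ x ∈ R, ∃ c ∈ Cy, ∃ e ∈ E, x = c * e := by
    intro x hx
    rw [← hprod] at hx
    have hn : E ≤ Subgroup.normalizer (Cy : Set G) := fun e he => by
      rw [mem_normalizer_iff]
      intro c
      constructor
      · intro hc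
        rwa [← hCc c hc e (hEle he), mul_inv_cancel_right]
      · intro hc
        have h2 := hCc _ hc e (hEle he)
        have : e * c * e⁻¹ = c := by
          calc e * c * e⁻¹ = e⁻¹ * (e * (e * c * e⁻¹)) := by group
            _ = e⁻¹ * (e * c * e⁻¹ * e) := by rw [h2]
            _ = c := by group
        rwa [this] at hc
    rw [← SetLike.mem_coe, coe_mul_of_right_le_normalizer_left Cy E hn] at hx
    obtain ⟨c, hc, e, he, rfl⟩ := hx
    exact ⟨c, hc, e, he, rfl⟩
  -- t is in Cy
  have htH : t ∈ H := (hHiff t).2 rfl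
  have htR : t ∈ R := by
    rw [hR]
    refine ⟨⟨t, htH⟩, ?_, rfl⟩
    have hN : (zpowers (⟨t, htH⟩ : H)).Normal := by
      constructor
      intro n hn g
      obtain ⟨k, rfl⟩ := mem_zpowers_iff.1 hn
      have hc : Commute g (⟨t, htH⟩ : H) := Subtype.ext ((hHiff _).1 g.2)
      rw [(hc.zpow_right k).eq, mul_inv_cancel_right]
      exact zpow_mem (mem_zpowers _) k
    have hp : IsPGroup 2 (zpowers (⟨t, htH⟩ : H)) := IsPGroup.of_card (n := 1) (by
      rw [Nat.card_zpowers, ← Subgroup.orderOf_coe, ht, pow_one])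
    exact le_sSup (s := {N : Subgroup H | N.Normal ∧ IsPGroup 2 N}) ⟨hN, hp⟩ (mem_zpowers _)
  have htz : t = (z : G) := by
    obtain ⟨c, hc, e, he, hte⟩ := hRmem t htR
    have htcent : ∀ x ∈ R, t * x = x * t := fun x hx => ((hHiff x).1 (hRle hx)).symm
    have hecent : (⟨e, he⟩ : E) ∈ center E := mem_center_iff.2 fun y => Subtype.ext (by
      show (y : G) * e = e * y
      have h1 := htcent y (hEle y.2)
      rw [hte] at h1
      have h2 := hCc c hc y (hEle y.2)
      apply mul_left_cancel (a := c)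
      calc c * ((y : G) * e) = c * y * e := by group
        _ = y * (c * e) := by rw [h2]; group
        _ = c * e * y := h1.symm
        _ = c * (e * y) := by group)
    have htCy : t ∈ Cy := by
      rcases hzE _ hecent with h | h
      · rw [hte, show e = 1 from congrArg Subtype.val h, mul_one]; exact hc
      · rw [hte, show e = (z : G) from congrArg Subtype.val h]; exact Cy.mul_mem hc hzCy
    have ht2 : t * t = 1 := by rw [← pow_two, ← ht, pow_orderOf_eq_one]
    have ht1 : t ≠ 1 := fun e => by rw [e, orderOf_one] at ht; norm_num at ht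
    rcases hcy _ htCy with h | h | h | h
    · exact absurd h ht1
    · exfalso; rw [h, hoc] at ht; norm_num at ht
    · rw [h, pow_two, hzc0]
    · exfalso
      rw [h, orderOf_pow (c0 : G), hoc] at ht
      norm_num at ht
  have hcard_inf : Nat.card (Cy ⊓ E : Subgroup G) = 2 := by
    rw [hmeet, ← hEc]
    refine Nat.card_congr (Equiv.ofBijective
      (fun x : (E ⊓ centralizer (E : Set G) : Subgroup G) => (⟨⟨x, x.2.1⟩, mem_center_iff.2 fun y =>
        Subtype.ext (mem_centralizer_iff.1 x.2.2 y y.2)⟩ : center E)) ⟨?_, ?_⟩)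
    · intro x y h
      exact Subtype.ext (congrArg (fun w : center E => ((w : E) : G)) h)
    · rintro ⟨⟨x, hx⟩, hxc⟩
      exact ⟨⟨x, hx, mem_centralizer_iff.2 fun y hy => congrArg Subtype.val (mem_center_iff.1 hxc ⟨y, hy⟩)⟩,
        rfl⟩
  have hcardR : Nat.card R = 64 := by
    let f : Cy × E → R := fun p => ⟨(p.1 : G) * (p.2 : G), R.mul_mem (hCR p.1.2) (hEle p.2.2)⟩
    have hfib : ∀ x : R, Nat.card {p // f p = x} = 2 := by
      intro x
      obtain ⟨c, hc, e, he, hx⟩ := hRmem x x.2
      rw [← hcard_inf]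
      symm
      refine Nat.card_congr (Equiv.ofBijective
        (fun k : (Cy ⊓ E : Subgroup G) => (⟨(⟨c * k, Cy.mul_mem hc k.2.1⟩,
          ⟨(k : G)⁻¹ * e, E.mul_mem (E.inv_mem k.2.2) he⟩), Subtype.ext (by
            show c * (k : G) * ((k : G)⁻¹ * e) = x
            rw [hx]; group)⟩ : {p // f p = x})) ⟨?_, ?_⟩)
      · intro k l h
        have := congrArg (fun p : {p // f p = x} => (p.1.1 : G)) h
        exact Subtype.ext (mul_left_cancel this)
      · rintro ⟨⟨c', e'⟩, hp⟩
        have hp' : (c' : G) * e' = c * e := (congrArg Subtype.val hp).trans hx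
        have hk : c⁻¹ * (c' : G) = e * (e' : G)⁻¹ := by
          calc c⁻¹ * (c' : G) = c⁻¹ * ((c' : G) * e') * (e' : G)⁻¹ := by group
            _ = _ := by rw [hp']; group
        refine ⟨⟨c⁻¹ * c', Cy.mul_mem (Cy.inv_mem hc) c'.2, hk ▸ E.mul_mem he (E.inv_mem e'.2)⟩,
          Subtype.ext (Prod.ext (Subtype.ext ?_) (Subtype.ext ?_))⟩
        · show c * (c⁻¹ * (c' : G)) = c'; group
        · show (c⁻¹ * (c' : G))⁻¹ * e = e'
          rw [hk]; group
    have h := Nat.card_congr (Equiv.sigmaFiberEquiv f).symm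
    haveI := Fintype.ofFinite R
    rw [Nat.card_prod, hCycard, hEcard, Nat.card_sigma] at h
    simp only [hfib, Finset.sum_const, smul_eq_mul] at h
    rw [Nat.card_eq_fintype_card]
    simp only [Finset.card_univ] at h
    omega
  have hsqR : ∀ x ∈ R, x * x = 1 ∨ x * x = t := by
    intro x hx
    obtain ⟨c, hc, e, he, rfl⟩ := hRmem x hx
    have h1 : c * e * (c * e) = c * c * (e * e) := by
      calc c * e * (c * e) = c * (e * c) * e := by group
        _ = _ := by rw [← hCc c hc e (hEle he)]; group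
    have hcc : c * c = 1 ∨ c * c = t := by
      rw [htz, hzc0]
      rcases hcy c hc with rfl | rfl | rfl | rfl
      · simp
      · exact Or.inr rfl
      · left; rw [← pow_add, hc4]
      · right
        rw [← pow_add, show (3 + 3) = 4 + 2 from rfl, pow_add, hc4, one_mul, pow_two]
    have hee : e * e = 1 ∨ e * e = t := by
      rw [htz]
      exact (hsqE ⟨e, he⟩).imp (congrArg Subtype.val) (congrArg Subtype.val)
    have ht2 : t * t = 1 := by rw [← pow_two, ← ht, pow_orderOf_eq_one]
    rw [h1]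
    rcases hcc with a | a <;> rcases hee with b | b <;> simp [a, b, ht2]
  have hcommR : ∀ x ∈ R, ∀ y ∈ R, x * y = y * x ∨ x * y = y * x * t := by
    intro x hx y hy
    obtain ⟨c, hc, e, he, rfl⟩ := hRmem x hx
    obtain ⟨d, hd, f, hf, rfl⟩ := hRmem y hy
    have hdef : c * e * (d * f) = c * d * (e * f) := by
      calc c * e * (d * f) = c * (e * d) * f := by group
        _ = _ := by rw [← hCc d hd e (hEle he)]; group
    have hfed : d * f * (c * e) = c * d * (f * e) := by
      calc d * f * (c * e) = d * (f * c) * e := by group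
        _ = d * c * (f * e) := by rw [← hCc c hc f (hEle hf)]; group
        _ = _ := by rw [← hCc c hc d (hCR hd)]
    rcases hcommE ⟨e, he⟩ ⟨f, hf⟩ with h | h
    · left; rw [hdef, hfed, show e * f = f * e from congrArg Subtype.val h]
    · right; rw [hdef, hfed, show e * f = f * e * z from congrArg Subtype.val h, htz]; group
  have habR : ∀ P : Subgroup G, P ≤ R → (∀ x ∈ P, ∀ y ∈ P, x * y = y * x) → Nat.card P ≤ 16 := by
    intro P hP hPc
    let Q : Subgroup G := P ⊔ Cy
    have hQR : Q ≤ R := sup_le hP hCR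
    have hQn : Cy ≤ Subgroup.normalizer (P : Set G) := fun c hc => by
      rw [mem_normalizer_iff]
      intro x
      constructor
      · intro hx
        rwa [hCc c hc x (hP hx), mul_inv_cancel_right]
      · intro hx
        have := hCc c hc _ (hP hx)
        have e : c * x * c⁻¹ = x := by
          calc c * x * c⁻¹ = c⁻¹ * (c * (c * x * c⁻¹)) := by group
            _ = c⁻¹ * (c * x * c⁻¹ * c) := by rw [this]
            _ = x := by group
        rwa [e] at hx
    have hQmem : ∀ x ∈ Q, ∃ p ∈ P, ∃ c ∈ Cy, x = p * c := fun x hx => by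
      rw [← SetLike.mem_coe, coe_mul_of_right_le_normalizer_left P Cy hQn] at hx
      obtain ⟨p, hp, c, hc, rfl⟩ := hx
      exact ⟨p, hp, c, hc, rfl⟩
    have hQc : ∀ x ∈ Q, ∀ y ∈ Q, x * y = y * x := by
      intro x hx y hy
      obtain ⟨p, hp, c, hc, rfl⟩ := hQmem x hx
      obtain ⟨q, hq, d, hd, rfl⟩ := hQmem y hy
      have a1 := hCc c hc _ (R.mul_mem (hP hq) (hCR hd))
      have a2 := hCc d hd p (hP hp)
      calc p * c * (q * d) = p * (c * (q * d)) := by group
        _ = p * q * (d * c) := by rw [a1]; group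
        _ = q * (p * d) * c := by rw [hPc p hp q hq]; group
        _ = q * d * (p * c) := by rw [← a2]; group
    let PE : Subgroup E := Q.comap E.subtype
    have hPE : Nat.card PE ≤ 8 := card_comm_le hEcard z hcommE hzc hzz hEc PE fun x hx y hy =>
      Subtype.ext (hQc x hx y hy)
    have hQE : Nat.card Q * 2 ≤ 4 * Nat.card PE := by
      let f : Cy × PE → Q := fun p => ⟨(p.1 : G) * ((p.2 : E) : G),
        Q.mul_mem ((le_sup_right : Cy ≤ Q) p.1.2) p.2.2⟩
      have hs : Function.Surjective f := by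
        rintro ⟨x, hx⟩
        obtain ⟨c, hc, e, he, rfl⟩ := hRmem x (hQR hx)
        exact ⟨(⟨c, hc⟩, ⟨⟨e, he⟩, by
          show e ∈ Q
          have := Q.mul_mem (Q.inv_mem ((le_sup_right : Cy ≤ Q) hc)) hx
          simpa using this⟩), rfl⟩
      let sec := Function.surjInv hs
      let g : Q ⊕ Q → Cy × PE := fun q => Sum.elim sec (fun q => ((sec q).1 * ⟨z, hzCy⟩,
        (⟨z, (le_sup_right : Cy ≤ Q) hzCy⟩ : PE) * (sec q).2)) q
      have hsec : ∀ q, f (sec q) = q := Function.surjInv_eq hs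
      have hg2 : ∀ q, f ((sec q).1 * ⟨z, hzCy⟩, (⟨z, (le_sup_right : Cy ≤ Q) hzCy⟩ : PE) * (sec q).2) = q := by
        intro q
        refine Eq.trans (Subtype.ext ?_) (hsec q)
        show (((sec q).1 : G) * z) * ((z : G) * (((sec q).2 : E) : G)) = _
        calc (((sec q).1 : G) * z) * ((z : G) * (((sec q).2 : E) : G))
            = ((sec q).1 : G) * ((z : G) * z) * (((sec q).2 : E) : G) := by group
          _ = _ := by rw [hzsq, mul_one]
      have hinj : Function.Injective g := by
        intro a b h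
        have hf := congrArg f h
        rcases a with a | a <;> rcases b with b | b <;> simp only [g, Sum.elim_inl, Sum.elim_inr, hg2, hsec] at hf h
        · rw [hf]
        · subst hf
          exfalso
          have h1 := congrArg (fun p : Cy × PE => (p.1 : G)) h
          simp at h1
          exact hz1 (by simpa using h1)
        · subst hf
          exfalso
          have h1 := congrArg (fun p : Cy × PE => (p.1 : G)) h
          simp at h1
          exact hz1 (by simpa using h1)
        · rw [hf]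
      have := Nat.card_le_card_of_injective g hinj
      rw [Nat.card_sum, Nat.card_prod, hCycard] at this
      omega
    have := Subgroup.card_le_of_le (le_sup_left : P ≤ Q)
    change Nat.card P ≤ Nat.card Q at this
    omega
  -- V
  have hVc : ∀ v ∈ V, ∀ w ∈ V, v * w = w * v := fun v hv w hw =>
    congrArg Subtype.val (hVcomm.is_comm.comm ⟨v, hv⟩ ⟨w, hw⟩)
  have hVsq : ∀ v ∈ V, v * v = 1 := fun v hv => by rw [← pow_two, hVexp v hv]
  have ht2 : t * t = 1 := by rw [← pow_two, ← ht, pow_orderOf_eq_one]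
  have htV : t ∈ V := by
    by_contra htV
    let Q : Subgroup G := V ⊔ zpowers (c0 : G)
    have hcv : ∀ v ∈ V, (c0 : G) * v = v * c0 := fun v hv => hCc _ c0.2 v (hVR hv)
    have hQn : zpowers (c0 : G) ≤ Subgroup.normalizer (V : Set G) := by
      rw [zpowers_le, mem_normalizer_iff]
      intro v
      refine ⟨fun hv => by rwa [hcv v hv, mul_inv_cancel_right], fun hv => ?_⟩
      have := hcv _ hv
      have e : (c0 : G) * v * (c0 : G)⁻¹ = v := by
        calc (c0 : G) * v * (c0 : G)⁻¹ = (c0 : G)⁻¹ * ((c0 : G) * ((c0 : G) * v * (c0 : G)⁻¹)) := by group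
          _ = (c0 : G)⁻¹ * ((c0 : G) * v * (c0 : G)⁻¹ * c0) := by rw [this]
          _ = v := by group
      rwa [e] at hv
    have hQR : Q ≤ R := sup_le hVR (zpowers_le.2 (hCR c0.2))
    have hQc : ∀ x ∈ Q, ∀ y ∈ Q, x * y = y * x := by
      have key : ∀ x ∈ Q, ∃ v ∈ V, ∃ k : ℤ, x = v * (c0 : G) ^ k := fun x hx => by
        rw [← SetLike.mem_coe, coe_mul_of_right_le_normalizer_left V _ hQn] at hx
        obtain ⟨v, hv, c, hc, rfl⟩ := hx
        obtain ⟨k, rfl⟩ := mem_zpowers_iff.1 hc
        exact ⟨v, hv, k, rfl⟩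
      intro x hx y hy
      obtain ⟨v, hv, k, rfl⟩ := key x hx
      obtain ⟨w, hw, l, rfl⟩ := key y hy
      have hk : Commute ((c0 : G) ^ k) w := (show Commute (c0 : G) w from hcv w hw).zpow_left k
      have hl : Commute ((c0 : G) ^ l) v := (show Commute (c0 : G) v from hcv v hv).zpow_left l
      calc v * (c0 : G) ^ k * (w * (c0 : G) ^ l) = v * ((c0 : G) ^ k * w) * (c0 : G) ^ l := by group
        _ = v * w * ((c0 : G) ^ k * (c0 : G) ^ l) := by rw [hk.eq]; group
        _ = v * w * ((c0 : G) ^ l * (c0 : G) ^ k) := by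
          rw [((Commute.refl (c0 : G)).zpow_zpow k l).eq]
        _ = w * (v * (c0 : G) ^ l) * (c0 : G) ^ k := by rw [hVc v hv w hw]; group
        _ = w * (c0 : G) ^ l * (v * (c0 : G) ^ k) := by rw [← hl.eq]; group
    have h16 := habR Q hQR hQc
    let f : V × zpowers (c0 : G) → Q := fun p => ⟨(p.1 : G) * (p.2 : G),
      Q.mul_mem ((le_sup_left : V ≤ Q) p.1.2) ((le_sup_right : zpowers (c0 : G) ≤ Q) p.2.2)⟩
    have hf : Function.Injective f := by
      rintro ⟨a, b⟩ ⟨a', b'⟩ h
      have h' : (a : G) * b = a' * b' := congrArg Subtype.val h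
      set k : G := (a' : G)⁻¹ * a
      have hkV : k ∈ V := V.mul_mem (V.inv_mem a'.2) a.2
      have hkC : k ∈ zpowers (c0 : G) := by
        have : k = (b' : G) * (b : G)⁻¹ := by
          calc k = (a' : G)⁻¹ * ((a : G) * b) * (b : G)⁻¹ := by simp [k]; group
            _ = _ := by rw [h']; group
        rw [this]; exact mul_mem b'.2 (inv_mem b.2)
      have hk1 : k = 1 := by
        rcases hcy k (zpowers_le.2 c0.2 hkC) with h | h | h | h
        · exact h
        · exfalso
          have := hVsq k hkV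
          rw [h, ← hzc0] at this
          exact hz1 this
        · exfalso; apply htV
          rw [htz, hzc0, ← pow_two, ← h]; exact hkV
        · exfalso
          have := hVsq k hkV
          rw [h, ← pow_add, show (3 + 3) = 4 + 2 from rfl, pow_add, hc4, one_mul, pow_two, ← hzc0] at this
          exact hz1 this
      have ha : (a : G) = a' := by
        have := congrArg (fun q => (a' : G) * q) hk1
        simpa [k] using this
      refine Prod.ext (Subtype.ext ha) (Subtype.ext ?_)
      rw [ha] at h'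
      exact mul_left_cancel h'
    have := Nat.card_le_card_of_injective f hf
    rw [Nat.card_prod, hVcard, Nat.card_zpowers, hoc] at this
    omega
  -- M and A
  set A := (Cfsg.pCore 2 M).map M.subtype with hA
  have hMiff : ∀ g : G, g ∈ M ↔ ∀ v, v ∈ V ↔ g * v * g⁻¹ ∈ V := fun g => by
    rw [hM, mem_normalizer_iff]
  have hVM : V ≤ M := fun v hv => (hMiff v).2 fun w => by
    constructor
    · intro hw; exact V.mul_mem (V.mul_mem hv hw) (V.inv_mem hv)
    · intro hw
      have := V.mul_mem (V.mul_mem (V.inv_mem hv) hw) hv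
      have e : v⁻¹ * (v * w * v⁻¹) * v = w := by group
      rwa [e] at this
  have hVA : V ≤ A := by
    intro v hv
    refine ⟨⟨v, hVM hv⟩, ?_, rfl⟩
    have hN : (V.subgroupOf M).Normal := by
      constructor
      intro n hn g
      exact ((hMiff g).1 g.2 n).1 hn
    have hp : IsPGroup 2 (V.subgroupOf M) := IsPGroup.of_card (n := 3) (by
      rw [Nat.card_congr (Subgroup.subgroupOfEquivOfLe hVM).toEquiv, hVcard]; rfl)
    exact le_sSup (s := {N : Subgroup M | N.Normal ∧ IsPGroup 2 N}) ⟨hN, hp⟩ hv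
  let eA : A ≃* Multiplicative (ZMod 4 × ZMod 4 × ZMod 4) :=
    ((Cfsg.pCore 2 M).equivMapOfInjective _ M.subtype_injective).symm.trans eOM
  have hcardA : Nat.card A = 64 := by
    rw [Nat.card_congr eA.toEquiv, Nat.card_eq_fintype_card]; decide +kernel
  obtain ⟨z4, zroot, zcount⟩ := zmod4_facts
  have hAcomm : ∀ a ∈ A, ∀ b ∈ A, a * b = b * a := fun a ha b hb =>
    congrArg Subtype.val (eA.injective (by rw [map_mul, map_mul, mul_comm]) :
      (⟨a, ha⟩ : A) * ⟨b, hb⟩ = ⟨b, hb⟩ * ⟨a, ha⟩)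
  have hA4 : ∀ a ∈ A, a ^ 4 = 1 := fun a ha =>
    congrArg Subtype.val (eA.injective (by rw [map_pow, z4, map_one]) : (⟨a, ha⟩ : A) ^ 4 = 1)
  have hVeq : ∀ v, v ∈ V ↔ v ∈ A ∧ v * v = 1 := by
    have hsub : ∀ v ∈ V, v ∈ A ∧ v * v = 1 := fun v hv => ⟨hVA hv, hVsq v hv⟩
    intro v
    refine ⟨hsub v, fun hv => ?_⟩
    let T := {x : A // x * x = 1}
    have hT : Nat.card T = 8 := by
      rw [Nat.card_congr (Equiv.subtypeEquiv eA.toEquiv (q := fun x => x * x = 1) fun a => by
        simp only [MulEquiv.toEquiv_eq_coe, EquivLike.coe_coe, ← map_mul, MulEquiv.map_eq_one_iff]),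
        Nat.card_eq_fintype_card, Fintype.card_subtype]
      exact zcount
    let g : V → T := fun v => ⟨⟨v, hVA v.2⟩, Subtype.ext (hVsq v v.2)⟩
    have hg : Function.Bijective g := (Nat.bijective_iff_injective_and_card g).2
      ⟨fun a b h => Subtype.ext (congrArg (fun x : T => ((x.1 : A) : G)) h), by rw [hVcard, hT]⟩
    obtain ⟨w, hw⟩ := hg.2 ⟨⟨v, hv.1⟩, Subtype.ext hv.2⟩
    have e : (w : G) = v := congrArg (fun x : T => ((x.1 : A) : G)) hw
    exact e ▸ w.2
  have hroot : ∀ v ∈ V, ∃ a ∈ A, a * a = v := by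
    intro v hv
    obtain ⟨y, hy⟩ := zroot (eA ⟨v, hVA hv⟩) (by
      rw [← map_mul, MulEquiv.map_eq_one_iff]; exact Subtype.ext (hVsq v hv))
    refine ⟨(eA.symm y : A), (eA.symm y).2, ?_⟩
    have : eA.symm y * eA.symm y = ⟨v, hVA hv⟩ := by
      rw [← map_mul, hy, MulEquiv.symm_apply_apply]
    exact congrArg Subtype.val this
  have hcardM : Nat.card M = 10752 := by
    rw [Subgroup.card_eq_card_quotient_mul_card_subgroup (Cfsg.pCore 2 M), Nat.card_congr eM.toEquiv,
      CfsgLib.AEightSub.gl_three_two.2,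
      Nat.card_congr ((Cfsg.pCore 2 M).equivMapOfInjective _ M.subtype_injective).toEquiv, ← hA, hcardA]
  have hRM : R ≤ M := by
    intro r hr
    rw [hMiff]
    have key : ∀ r ∈ R, ∀ v ∈ V, r * v * r⁻¹ ∈ V := by
      intro r hr v hv
      rcases hcommR r hr v (hVR hv) with h | h
      · rwa [h, mul_inv_cancel_right]
      · have e : r * v * r⁻¹ = v * (r * t * r⁻¹) := by rw [h]; group
        rw [e, (hHiff r).1 (hRle hr), mul_inv_cancel_right]
        exact V.mul_mem hv htV
    intro v
    refine ⟨key r hr v, fun h => ?_⟩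
    have := key r⁻¹ (R.inv_mem hr) _ h
    have e : r⁻¹ * (r * v * r⁻¹) * r⁻¹⁻¹ = v := by group
    rwa [e] at this
  have hAN : ∀ m ∈ M, ∀ a ∈ A, m * a * m⁻¹ ∈ A := by
    rintro m hm _ ⟨a, ha, rfl⟩
    exact ⟨⟨m, hm⟩ * a * ⟨m, hm⟩⁻¹, (hcoreN M).conj_mem a ha ⟨m, hm⟩, rfl⟩
  have hker : ∀ m ∈ M, (∀ v ∈ V, m * v = v * m) → m ∈ A := by
    let K : Subgroup M := (centralizer (V : Set G)).subgroupOf M
    have hKN : K.Normal := by
      constructor
      intro n hn g
      rw [mem_subgroupOf, mem_centralizer_iff] at hn ⊢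
      intro v hv
      have e : ((g * n * g⁻¹ : M) : G) = (g : G) * n * (g : G)⁻¹ := rfl
      rw [e]
      have h2 := hn _ (((hMiff _).1 (M.inv_mem g.2) v).1 hv)
      calc v * ((g : G) * n * (g : G)⁻¹) = (g : G) * ((g : G)⁻¹ * v * (g : G)⁻¹⁻¹ * n) * (g : G)⁻¹ := by group
        _ = (g : G) * ((n : G) * ((g : G)⁻¹ * v * (g : G)⁻¹⁻¹)) * (g : G)⁻¹ := by rw [h2]
        _ = (g : G) * n * (g : G)⁻¹ * v := by group
    have hAK : Cfsg.pCore 2 M ≤ K := fun a ha => by
      rw [mem_subgroupOf, mem_centralizer_iff]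
      exact fun v hv => hAcomm v (hVA hv) a ⟨a, ha, rfl⟩
    haveI := CfsgLib.AEightSub.gl_three_two.1
    set Kq := (K.map (QuotientGroup.mk' (Cfsg.pCore 2 M))).map eM.toMonoidHom with hKq
    haveI : Kq.Normal := by
      haveI := hKN.map _ (QuotientGroup.mk'_surjective (Cfsg.pCore 2 M))
      exact Subgroup.Normal.map ‹_› _ eM.surjective
    rcases Subgroup.Normal.eq_bot_or_eq_top (show Kq.Normal from inferInstance) with h | h
    · intro m hm hmv
      have hmK : (⟨m, hm⟩ : M) ∈ K := by
        rw [mem_subgroupOf, mem_centralizer_iff]; exact fun v hv => (hmv v hv).symm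
      have h1 : eM (QuotientGroup.mk' (Cfsg.pCore 2 M) ⟨m, hm⟩) ∈ Kq :=
        mem_map_of_mem _ (mem_map_of_mem _ hmK)
      rw [h, mem_bot, MulEquiv.map_eq_one_iff] at h1
      exact ⟨⟨m, hm⟩, (QuotientGroup.eq_one_iff _).1 h1, rfl⟩
    · exfalso
      have hKtop : K = ⊤ := by
        rw [eq_top_iff]
        intro m _
        have h1 : eM (QuotientGroup.mk' (Cfsg.pCore 2 M) m) ∈ Kq := h ▸ mem_top _
        obtain ⟨_, ⟨k, hk, rfl⟩, e⟩ := h1
        have e' := eM.injective e
        rw [QuotientGroup.mk'_apply, QuotientGroup.mk'_apply, QuotientGroup.eq] at e'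
        have := K.mul_mem hk (hAK e')
        rwa [mul_inv_cancel_left] at this
      have hVcy : ∀ v ∈ V, v ∈ Cy := by
        intro v hv
        obtain ⟨c, hc, e, he, rfl⟩ := hRmem v (hVR hv)
        have hcom : ∀ r ∈ R, c * e * r = r * (c * e) := fun r hr => by
          have : (⟨r, hRM hr⟩ : M) ∈ K := hKtop ▸ mem_top _
          exact mem_centralizer_iff.1 (mem_subgroupOf.1 this) _ hv
        have hec : (⟨e, he⟩ : E) ∈ center E := mem_center_iff.2 fun y => Subtype.ext (by
          show (y : G) * e = e * y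
          have h1 := hcom y (hEle y.2)
          apply mul_left_cancel (a := c)
          calc c * ((y : G) * e) = c * y * e := by group
            _ = y * (c * e) := by rw [hCc c hc y (hEle y.2)]; group
            _ = c * e * y := h1.symm
            _ = c * (e * y) := by group)
        rcases hzE _ hec with h | h
        · rw [show e = 1 from congrArg Subtype.val h, mul_one]; exact hc
        · rw [show e = (z : G) from congrArg Subtype.val h]; exact Cy.mul_mem hc hzCy
      have := Subgroup.card_le_of_le hVcy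
      omega
  have hcardH : Nat.card H = 7680 := by
    have h := Subgroup.card_eq_card_quotient_mul_card_subgroup (Cfsg.pCore 2 H)
    have hc : Nat.card (Cfsg.pCore 2 H) = 64 := by
      rw [Nat.card_congr ((Cfsg.pCore 2 H).equivMapOfInjective _ H.subtype_injective).toEquiv, ← hR, hcardR]
    rw [h, hc, Nat.card_congr eH.toEquiv, Nat.card_perm, Nat.card_fin]; rfl
  refine ⟨ht, hHiff, hRle, ?_, hcardR, hcardH, hsqR, hcommR, ⟨c0, hCR c0.2, by rw [htz, hzc0], fun x hx => hCc _ c0.2 x hx⟩,
    habR, ⟨eH.toMonoidHom.comp (QuotientGroup.mk' _), eH.surjective.comp (QuotientGroup.mk'_surjective _), ?_⟩,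
    hMiff, map_subtype_le _, hAN, hcardA, hcardM, hAcomm, hA4, hVcard, hVeq, hroot, htV, hRM, hVR, hker⟩
  · intro h hh x hx
    rw [hR] at hx ⊢
    obtain ⟨x, hx, rfl⟩ := hx
    exact ⟨⟨h, hh⟩ * x * ⟨h, hh⟩⁻¹, (hcoreN H).conj_mem x hx ⟨h, hh⟩, rfl⟩
  · intro h
    rw [MonoidHom.comp_apply, MulEquiv.coe_toMonoidHom, MulEquiv.map_eq_one_iff, QuotientGroup.mk'_apply,
      QuotientGroup.eq_one_iff, hR]
    constructor
    · exact fun hh => ⟨h, hh, rfl⟩
    · rintro ⟨x, hx, e⟩
      rwa [← Subtype.ext e]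

end CfsgLib.HSUniq
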