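import Cfsg.Agent.Lib.HSUniq.OuterBasics
import Cfsg.Agent.Lib.HSUniq.MCases
import Cfsg.Agent.Lib.HSUniq.CheckXCases

/-!
The enumerations exclude all but two parameters of the outer element.
-/

set_option autoImplicit false
set_option maxRecDepth 100000

namespace CfsgLib.HSUniq

open CfsgLib.CosetEnum

/-- the parameters that collapse: number of the image, exponent, square -/
def xKeys : List (ℕ × ℕ × ℕ) :=
  [(0, 0, 0), (0, 0, 2), (0, 1, 0), (0, 1, 2), (0, 2, 2), (0, 3, 0), (0, 3, 2), (1, 0, 0), (1, 0, 2), (1, 1, 0), (1, 1, 2), (1, 2, 0), (1, 2, 2), (1, 3, 0), (1, 3, 2), (2, 0, 0), (2, 0, 2), (2, 1, 0), (2, 1, 2), (2, 2, 2), (2, 3, 0), (2, 3, 2)]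

/-- the number of a case -/
def xCert : ℕ → Cert
  | 0 => certX000
  | 1 => certX002
  | 2 => certX010
  | 3 => certX012
  | 4 => certX022
  | 5 => certX030
  | 6 => certX032
  | 7 => certX100
  | 8 => certX102
  | 9 => certX110
  | 10 => certX112
  | 11 => certX120
  | 12 => certX122
  | 13 => certX130
  | 14 => certX132
  | 15 => certX200
  | 16 => certX202
  | 17 => certX210
  | 18 => certX212
  | 19 => certX222
  | 20 => certX230
  | _ => certX232

/-- inverse word in nine letters -/
def invWord9 (u : List ℕ) : List ℕ := (u.map fun l => ([1, 0, 3, 2, 5, 4, 6, 8, 7] : List ℕ).getD l l).reverse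

/-- the relators without the outer element -/
def innerRels : List (List ℕ) := baseRels ++ [[6, 2, 6, 2, 6, 2], [6, 2, 2, 2, 6, 2, 2, 2, 6, 2, 2, 2, 6, 2, 2, 2]]

/-- the relator for the image of a generator -/
def xImgRel (img : List ℕ) (j : ℕ) : List ℕ :=
  [7] ++ (rGenW false).getD j [] ++ [8] ++ invWord9 (rExp false (rWords.getD (img.getD j 0) []))

/-- the relators with the outer element -/
def xRels (img : List ℕ) (i k : ℕ) : List (List ℕ) :=
  innerRels ++ [[7, 8], [7, 4, 8, 5], [7, 6, 8, 6] ++ List.replicate i 1, [7, 7] ++ List.replicate k 1,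
    ([7] ++ yWord false) ++ ([7] ++ yWord false) ++ ([7] ++ yWord false)] ++
  (List.range 5).map (xImgRel img)

/-- generators of a subgroup of the centralizer -/
def xSubs : List (List ℕ) := [[0], [4], [6], [2, 0, 3], [2, 2, 0, 3, 3], [3, 4, 6, 5, 2], [7]]

theorem x_info : ((List.range 22).all fun n =>
    decide ((xCert n).K = 9) && decide ((xCert n).invs = [1, 0, 3, 2, 5, 4, 6, 8, 7]) &&
    decide ((xCert n).subs = xSubs) && Nat.beq ((xCert n).run 0 [2]) 0 &&
    decide ((xCert n).rels = xRels (thImgs.getD (xKeys.getD n (0, 0, 0)).1 []) (xKeys.getD n (0, 0, 0)).2.1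
      (xKeys.getD n (0, 0, 0)).2.2)) = true := by
  decide +kernel

theorem x_keys : ((List.range 3).all fun a => (List.range 4).all fun b => ([0, 2] : List ℕ).all fun d =>
    decide ((a = 0 ∨ a = 2) ∧ b = 2 ∧ d = 0) ||
    (List.range 22).any fun n => decide (xKeys.getD n (0, 0, 0) = (a, b, d))) = true := by
  decide +kernel

theorem x_complete : ∀ n, (xCert n).Complete := by
  intro n
  unfold xCert
  split
  all_goals first | exact certX000_complete | exact certX002_complete | exact certX010_complete | exact certX012_complete | exact certX022_complete | exact certX030_complete | exact certX032_complete | exact certX100_complete | exact certX102_complete | exact certX110_complete | exact certX112_complete | exact certX120_complete | exact certX122_complete | exact certX130_complete | exact certX132_complete | exact certX200_complete | exact certX202_complete | exact certX210_complete | exact certX212_complete | exact certX222_complete | exact certX230_complete | exact certX232_complete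

theorem inner_zero : (innerRels.all fun u => u.all (fun l => Nat.blt l 7) && Nat.beq (pev u) 0) = true ∧
    (xSubs.dropLast.all fun u => u.all (fun l => Nat.blt l 7) && Nat.beq (pconj (pev u) 2) 2) = true ∧
    pconj 64 2 ≠ 2 ∧
    ((List.range 64).all fun j => (rExp false (rWords.getD j [])).all (fun l => Nat.blt l 7) &&
      (invWord9 (rExp false (rWords.getD j []))).all (fun l => Nat.blt l 7) &&
      Nat.beq (pev (invWord9 (rExp false (rWords.getD j [])))) (pinv (rAt false j))) = true := by
  decide +kernel

variable {G : Type*} [Group G] {t : G} {H R V M A : Subgroup G} {c s r w x : G} {img : List ℕ} {i k : ℕ}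

theorem xRels_hold (S : Setup t H R V M A) (L : LocalData t R M c s r w false)
    (O : OuterData t H R c s r w x img i k) : ∀ u ∈ xRels img i k, prodW (genX c s r w x) u = 1 := by
  obtain ⟨hin, -, -, hinv⟩ := inner_zero
  simp only [List.all_eq_true, List.mem_range, Bool.and_eq_true, Nat.blt_eq, Nat.beq_eq] at hin hinv
  have hrep : ∀ n, prodW (genX c s r w x) (List.replicate n 1) = (c ^ n)⁻¹ := fun n => by
    simp [prodW, List.map_replicate, List.prod_replicate, genX, inv_pow]
  intro u hu
  simp only [xRels, List.mem_append, List.mem_map, List.mem_range, List.mem_cons, List.not_mem_nil, or_false] at hu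
  rcases hu with (hu | rfl | rfl | rfl | rfl | rfl) | ⟨j, hj, rfl⟩
  · obtain ⟨h7, h0⟩ := hin u hu
    rw [← (pev_spec L.rel x h7).2, h0, valP_zero]
  · simp [prodW, genX]
  · rw [show prodW (genX c s r w x) [7, 4, 8, 5] = x * r * x⁻¹ * r⁻¹ by simp [prodW, genX, mul_assoc], O.xr]
    group
  · rw [prodW_append, hrep, show prodW (genX c s r w x) [7, 6, 8, 6] = x * w * x⁻¹ * w by
      simp [prodW, genX, mul_assoc], O.xw, mul_assoc (c ^ i), L.rel.ww, mul_one, mul_inv_cancel]
  · rw [prodW_append, hrep, show prodW (genX c s r w x) [7, 7] = x * x by simp [prodW, genX], O.xx, mul_inv_cancel]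
  · have hy := O.xy
    rw [(pev_spec L.rel x (W := yWord false) (by decide)).2] at hy
    simp only [prodW_append, show prodW (genX c s r w x) [7] = x by simp [prodW, genX]]
    simpa [pow_succ, mul_assoc] using hy
  · obtain ⟨himg, -⟩ := img_facts
    simp only [List.all_eq_true, List.mem_range, Nat.blt_eq] at himg
    have hl := himg img O.img_mem j hj
    obtain ⟨⟨-, hl7⟩, he⟩ := hinv _ hl
    rw [xImgRel, prodW_append, prodW_append, prodW_append, ← vr_gen L.rel hj,
      show prodW (genX c s r w x) [7] = x by simp [prodW, genX],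
      show prodW (genX c s r w x) [8] = x⁻¹ by simp [prodW, genX], O.xR j hj,
      ← (pev_spec L.rel x hl7).2, he, (valP_inv L.rel (rAt_lt hl)).2, mul_inv_cancel]

theorem x_case (S : Setup t H R V M A) (L : LocalData t R M c s r w false)
    (O : OuterData t H R c s r w x img i k) : (img = thImgs.getD 0 [] ∨ img = thImgs.getD 2 []) ∧ i = 2 ∧ k = 0 := by
  obtain ⟨a, ha, rfl⟩ : ∃ a < 3, thImgs.getD a [] = img := by
    obtain ⟨a, ha, e⟩ := List.getElem_of_mem O.img_mem
    exact ⟨a, ha, by rw [List.getD_eq_getElem _ _ ha, e]⟩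
  have hkeys := x_keys
  simp only [List.all_eq_true, List.any_eq_true, List.mem_range, Bool.or_eq_true, decide_eq_true_eq] at hkeys
  rcases hkeys a ha i O.i_lt k (by rcases O.k_cases with h | h <;> simp [h]) with ⟨h, hi, hk⟩ | ⟨n, hn, hkey⟩
  · exact ⟨by rcases h with rfl | rfl; exacts [Or.inl rfl, Or.inr rfl], hi, hk⟩
  exfalso
  have hinfo := List.all_eq_true.1 x_info n (List.mem_range.2 hn)
  simp only [Bool.and_eq_true, decide_eq_true_eq, Nat.beq_eq] at hinfo
  obtain ⟨⟨⟨⟨hK, hinv⟩, hsubs⟩, hrun⟩, hrels⟩ := hinfo
  rw [hkey] at hrels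
  obtain ⟨-, hsub, hs2, -⟩ := inner_zero
  simp only [List.all_eq_true, Bool.and_eq_true, Nat.blt_eq, Nat.beq_eq] at hsub
  have m : Model (xCert n) H (genX c s r w x) := by
    refine ⟨by rw [hK]; rfl, fun g => ?_, fun u hu => xRels_hold S L O u (hrels ▸ hu), fun u hu => ?_⟩
    · rw [Cert.inv, hinv]
      rcases g with _ | _ | _ | _ | _ | _ | _ | _ | _ | g
      · exact mul_inv_cancel c
      · exact inv_mul_cancel c
      · exact mul_inv_cancel s
      · exact inv_mul_cancel s
      · exact mul_inv_cancel r
      · exact inv_mul_cancel r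
      · exact L.rel.ww
      · exact mul_inv_cancel x
      · exact inv_mul_cancel x
      · simp [genX]
    · rw [hsubs, show xSubs = xSubs.dropLast ++ [[7]] from rfl, List.mem_append, List.mem_singleton] at hu
      rcases hu with hu | rfl
      · obtain ⟨h7, h2⟩ := hsub u hu
        exact word_mem_H S L x h7 h2
      · simpa [prodW, genX] using O.xH
  have hmem := mem_of_run_eq_zero (x_complete n) m (w := [2]) (by simp [hK]) hrun
  rw [show prodW (genX c s r w x) [2] = s by simp [prodW, genX], ← L.val_s, mem_H_iff S L (by norm_num)] at hmem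
  exact hs2 hmem

end CfsgLib.HSUniq
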